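import Cfsg.Agent.Lib.Invol.BrauerSuzuki
import Mathlib.GroupTheory.Solvable

/-!
# Consequences of the solvability of groups of odd order

The statement is carried as a hypothesis `OddSolvable`; the statement files discharge it.

* `exists_klein`: a non-cyclic finite simple group contains a four-group.
-/

set_option autoImplicit false
set_option linter.style.haveILetI false

namespace CfsgLib.OddConseq

universe u

/-- Every finite group of odd order is solvable. -/
def OddSolvable : Prop :=
  ∀ (G : Type u) [Group G] [Finite G], Odd (Nat.card G) → Group.IsSolvable G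

variable {G : Type u} [Group G] [Finite G]

theorem OddSolvable.subgroup (hFT : OddSolvable.{u}) {H : Subgroup G} (h : Odd (Nat.card H)) :
    Group.IsSolvable H :=
  hFT H h

theorem solvable_or_of_coprime (hFT : OddSolvable.{u}) {A B : Subgroup G}
    (h : (Nat.card A).Coprime (Nat.card B)) : Group.IsSolvable A ∨ Group.IsSolvable B := by
  by_contra hc
  obtain ⟨hA, hB⟩ := not_or.1 hc
  have hA2 : 2 ∣ Nat.card A :=
    Nat.dvd_of_mod_eq_zero (by
      rcases Nat.mod_two_eq_zero_or_one (Nat.card A) with h' | h'
      · exact h'
      · exact absurd (hFT A (Nat.odd_iff.2 h')) hA)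
  have hB2 : 2 ∣ Nat.card B :=
    Nat.dvd_of_mod_eq_zero (by
      rcases Nat.mod_two_eq_zero_or_one (Nat.card B) with h' | h'
      · exact h'
      · exact absurd (hFT B (Nat.odd_iff.2 h')) hB)
  exact Nat.not_coprime_of_dvd_of_dvd (by norm_num) hA2 hB2 h

omit [Finite G] in
/-- A non-abelian simple group is not solvable. -/
theorem not_isSolvable_of_simple [IsSimpleGroup G] (hG : ¬ ∀ a b : G, a * b = b * a) :
    ¬ Group.IsSolvable G := fun h => hG (IsSimpleGroup.comm_iff_isSolvable.2 h)

theorem even_of_simple (hFT : OddSolvable.{u}) [IsSimpleGroup G] (hG : ¬ ∀ a b : G, a * b = b * a) :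
    Even (Nat.card G) := by
  rcases Nat.even_or_odd (Nat.card G) with h | h
  · exact h
  · exact absurd (hFT G h) (not_isSolvable_of_simple hG)

/-- A simple group that is not cyclic contains a four-group. -/
theorem exists_klein (hFT : OddSolvable.{u}) [IsSimpleGroup G] (hG : ¬ IsCyclic G) :
    ∃ E : Subgroup G, IsKleinFour E := by
  have hna : ¬ ∀ a b : G, a * b = b * a := fun h => hG (by
    letI : CommGroup G := { (inferInstance : Group G) with mul_comm := h }
    exact IsSimpleGroup.isCyclic)
  by_contra hE
  obtain ⟨z, hz, hc⟩ := CfsgLib.Invol.exists_zcentral_of_no_klein (even_of_simple hFT hna)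
    (fun E hK => hE ⟨E, hK⟩)
  rcases (inferInstance : (Cfsg.pPrimeCore 2 G).Normal).eq_bot_or_eq_top with h | h
  · have hzc : z ∈ Subgroup.center G := Subgroup.mem_center_iff.2 fun g => by
      have h' := hc g
      rw [h, Subgroup.mem_bot] at h'
      exact (mul_inv_eq_iff_eq_mul.1 (mul_inv_eq_one.1 h')).symm
    rcases (inferInstance : (Subgroup.center G).Normal).eq_bot_or_eq_top with h' | h'
    · rw [h', Subgroup.mem_bot] at hzc
      rw [hzc, orderOf_one] at hz
      exact absurd hz (by norm_num)
    · exact hna fun a b => (Subgroup.mem_center_iff.1 (h' ▸ Subgroup.mem_top b) a)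
  · have h2 := even_of_simple hFT hna
    rw [← Subgroup.card_top, ← h] at h2
    exact Nat.not_even_iff_odd.2
      (Nat.coprime_two_right.1 (CfsgLib.Coprime.pPrimeCore_coprime (G := G) Nat.prime_two)) h2

end CfsgLib.OddConseq
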