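import Mathlib
import Cfsg.Agent.Lib.Lie.RankOne.Fixed
import Cfsg.Agent.Lib.PGroup.TransInvol.Setup
import Cfsg.Agent.Lib.PGroup.TransInvol.Basic
import Cfsg.Agent.S1124
import Cfsg.Agent.S1127

/-!
# Groups of rank one with a solvable two-point stabiliser

The two-point stabiliser is transitive on the involutions of `G_a`, so it acts on them semilinearly over
a field with `2^n` elements; the elements inverted by `t` are exactly the multipliers, hence form a cyclic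
normal subgroup, and `C_D(t)` acts by field automorphisms.
-/

set_option autoImplicit false
set_option linter.style.haveILetI false
set_option linter.unusedSectionVars false

namespace CfsgLib.OddConseq.RankOne

open MulAction CfsgLib.RootSub.Setup CfsgLib.TransInvol CfsgLib.Lie.RankOne

theorem sq_lt_two_pow {k : ℕ} (hk : 8 ≤ k) : 9 * k ^ 2 < 4 * 2 ^ k := by
  induction k, hk using Nat.le_induction with
  | base => norm_num
  | succ k hk ih => rw [pow_succ 2 k]; nlinarith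

/-- `2^n - 1` does not divide `n² (2^g - 1)` for a proper divisor `g` of `n` with odd cofactor. -/
theorem not_dvd_sq_mul {n g r : ℕ} (hn : n = g * r) (hr : 3 ≤ r) (hro : Odd r) (hg : 1 ≤ g) :
    ¬ 2 ^ n - 1 ∣ n ^ 2 * (2 ^ g - 1) := by
  subst hn
  rcases lt_or_ge (g * r) 12 with h | h
  · have hgr : g ≤ 4 := by nlinarith
    have hrr : r ≤ 11 := by nlinarith
    interval_cases g <;> interval_cases r <;> first | omega | (norm_num at hro ⊢) | skip
    all_goals first | omega | (exact absurd hro (by decide))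
  · intro hd
    have h2g : 2 ≤ 2 ^ g := by
      calc 2 = 2 ^ 1 := rfl
        _ ≤ 2 ^ g := Nat.pow_le_pow_right (by norm_num) hg
    have hle := Nat.le_of_dvd (Nat.mul_pos (by positivity) (by omega)) hd
    have h3 : 3 * g ≤ g * r := by nlinarith
    obtain ⟨k, hk⟩ : ∃ k, g * r = g + k := ⟨g * r - g, by omega⟩
    have hlt := sq_lt_two_pow (k := k) (by omega)
    have hnk : 4 * (g * r) ^ 2 ≤ 9 * k ^ 2 := by nlinarith
    have hkey : (g * r) ^ 2 < 2 ^ k := by omega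
    have : (g * r) ^ 2 * 2 ^ g + 1 ≤ 2 ^ (g * r) + 1 := by
      refine Nat.succ_le_succ ((Nat.mul_le_mul_right _ hkey.le).trans (le_of_eq ?_))
      rw [← pow_add, hk, add_comm k]
    have hsplit : (g * r) ^ 2 * (2 ^ g - 1) + (g * r) ^ 2 = (g * r) ^ 2 * 2 ^ g := by
      rw [← Nat.mul_succ]; congr 1; omega
    have : 1 < (g * r) ^ 2 := by nlinarith
    omega

universe u

variable {G : Type u} {Ω : Type*} [Group G] [Finite G] [MulAction G Ω] {a : Ω} {t : G} {Q : Subgroup G}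

variable (hS : Cfsg.IsRankOneSetup G Ω a t Q)
  (h2 : ∃ x y : G, x ≠ 1 ∧ y ≠ 1 ∧ x ≠ y ∧ x * x = 1 ∧ y * y = 1 ∧ x * y = y * x)

set_option quotPrecheck false
local notation "D" => (stabilizer G a ⊓ stabilizer G (t • a))
local notation "I" => Cfsg.involutionsIn (stabilizer G a : Set G)
local notation "J" => Cfsg.invertedBy (stabilizer G a ⊓ stabilizer G (t • a)) t
local notation "V" => (stabilizer G a ⊓ stabilizer G (t • a)) ⊓ Subgroup.centralizer ({t} : Set G)
local notation "W" => (stabilizer G a ⊓ stabilizer G (t • a)) ⊓ Subgroup.centralizer ({t} : Set G) ⊓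
  Subgroup.centralizer (Cfsg.invertedBy (stabilizer G a ⊓ stabilizer G (t • a)) t)

/-- Field coordinates on the involutions of `G_a`. -/
structure Coord (G : Type u) [Group G] {Ω : Type*} [MulAction G Ω] (a : Ω) (t : G) (F : Type) [Field F] where
  ι : F → G
  ι_inj : Function.Injective ι
  mem_iff : ∀ x : G, x ∈ Cfsg.involutionsIn (stabilizer G a : Set G) ↔ ∃ u, u ≠ 0 ∧ ι u = x
  semi : ∀ d ∈ stabilizer G a ⊓ stabilizer G (t • a),
    ∃ (b : F) (τ : F ≃+* F), b ≠ 0 ∧ ∀ v, d * ι v * d⁻¹ = ι (b * τ v)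
  n : ℕ
  two_le : 2 ≤ n
  card : Nat.card F = 2 ^ n
  lam : Fˣ
  big : BigDiv n (orderOf lam)
  c : G
  c_mem : c ∈ stabilizer G a ⊓ stabilizer G (t • a)
  c_ι : ∀ u, c * ι u * c⁻¹ = ι ((lam : F) * u)

include hS h2 in
theorem exists_coord [Group.IsSolvable ↥D] :
    ∃ (F : Type) (_ : Field F) (_ : Finite F) (_ : CharP F 2), Nonempty (Coord G a t F) := by
  obtain ⟨k, hk, hk1⟩ := exists_inverted hS h2
  obtain ⟨s, hs⟩ := exists_involution hS
  have hsQ : ∀ {x : G}, x ∈ I → x ∈ Q := fun hx => involution_mem_Q hS hx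
  let φ : ↥D →* MulAut Q := MonoidHom.mk'
    (fun d =>
      { toFun := fun q => ⟨d * q * (d : G)⁻¹, (Q_normalized hS d.2 q.2).1⟩
        invFun := fun q => ⟨(d : G)⁻¹ * q * d, (Q_normalized hS d.2 q.2).2⟩
        left_inv := fun q => Subtype.ext (show (d : G)⁻¹ * (d * (q : G) * (d : G)⁻¹) * d = q by group)
        right_inv := fun q => Subtype.ext (show (d : G) * ((d : G)⁻¹ * (q : G) * d) * (d : G)⁻¹ = q by group)
        map_mul' := fun q q' => Subtype.ext
          (show (d : G) * ((q : G) * q') * (d : G)⁻¹ = d * q * (d : G)⁻¹ * (d * q' * (d : G)⁻¹) by group) })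
    fun d d' => MulEquiv.ext fun q => Subtype.ext
      (show ((d * d' : ↥D) : G) * q * ((d * d' : ↥D) : G)⁻¹ = d * (d' * q * (d' : G)⁻¹) * (d : G)⁻¹ by
        simp [mul_assoc])
  haveI : Group.IsSolvable φ.range := solvable_of_surjective φ.rangeRestrict_surjective
  have hI : ∀ x : Q, x ≠ 1 → x ^ 2 = 1 → (x : G) ∈ I := fun x hx1 hx2 =>
    ⟨hS.le x.2, fun e => hx1 (Subtype.ext e), by rw [← pow_two]; exact congrArg Subtype.val hx2⟩
  have hbij := conj_bijective hS hs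
  have htwo : ∃ x y : Q, x ≠ y ∧ x ≠ 1 ∧ x ^ 2 = 1 ∧ y ≠ 1 ∧ y ^ 2 = 1 := by
    have hs' := conj_involution hS hs (show k ∈ stabilizer G a from hk.1.1)
    refine ⟨⟨s, hsQ hs⟩, ⟨_, hsQ hs'⟩, fun e => hk1 ?_, fun e => hs.2.1 (congrArg Subtype.val e),
      Subtype.ext (by simpa [pow_two] using hs.2.2), fun e => hs'.2.1 (congrArg Subtype.val e),
      Subtype.ext (by simpa [pow_two] using hs'.2.2)⟩
    have e' : s = k⁻¹ * s * k := congrArg Subtype.val e
    have h1 : (1 : G) ∈ J := ⟨one_mem _, by simp⟩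
    exact congrArg Subtype.val (hbij.1 (a₁ := ⟨k, hk⟩) (a₂ := ⟨1, h1⟩) (Subtype.ext (by simpa using e'.symm)))
  obtain ⟨F, fF, finF, chF, Dat, hY⟩ := exists_data htwo
    (fun x hx g => by
      rcases eq_or_ne x 1 with rfl | hx1
      · simp
      · exact Subtype.ext (involution_central hS h2 (hI x hx1 hx) g.2))
    φ.range
    (fun x y hx hx2 hy hy2 => by
      obtain ⟨k', hk'⟩ := hbij.2 ⟨x, hI x hx hx2⟩
      obtain ⟨k'', hk''⟩ := hbij.2 ⟨y, hI y hy hy2⟩
      refine ⟨φ ⟨(k'' : G)⁻¹ * k', mul_mem (inv_mem k''.2.1) k'.2.1⟩, ⟨_, rfl⟩, Subtype.ext ?_⟩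
      show (k'' : G)⁻¹ * k' * x * ((k'' : G)⁻¹ * k')⁻¹ = y
      have e1 : (k' : G)⁻¹ * s * k' = x := congrArg Subtype.val hk'
      have e2 : (k'' : G)⁻¹ * s * k'' = y := congrArg Subtype.val hk''
      rw [← e1, ← e2]
      group)
  obtain ⟨c₀, hc₀⟩ : Dat.c ∈ φ.range := hY ▸ Dat.c_mem
  refine ⟨F, fF, finF, chF, ⟨{
    ι := fun u => (Dat.ι u : G)
    ι_inj := fun u v e => Dat.ι_inj (Subtype.ext e)
    mem_iff := fun x => ⟨fun hx => ?_, ?_⟩
    semi := fun d hd => ?_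
    n := Dat.n
    two_le := Dat.big.1
    card := Dat.card
    lam := Dat.lam
    big := Dat.big
    c := c₀
    c_mem := c₀.2
    c_ι := fun u => ?_ }⟩⟩
  · obtain ⟨u, hu⟩ := (Dat.mem_iff ⟨x, hsQ hx⟩).1 (Subtype.ext (by simpa [pow_two] using hx.2.2))
    refine ⟨u, ?_, congrArg Subtype.val hu⟩
    rintro rfl
    exact hx.2.1 (congrArg Subtype.val (hu.symm.trans Dat.ι_zero))
  · rintro ⟨u, hu, rfl⟩
    exact hI _ (fun e => hu (Dat.ι_inj (e.trans Dat.ι_zero.symm))) ((Dat.mem_iff _).2 ⟨u, rfl⟩)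
  · obtain ⟨b, τ, h⟩ := Dat.semi (φ ⟨d, hd⟩) (hY.symm ▸ ⟨_, rfl⟩)
    refine ⟨b, τ, fun hb => one_ne_zero (α := F) ?_, fun v => congrArg Subtype.val (h v)⟩
    exact Dat.ι_inj ((φ ⟨d, hd⟩).injective (by rw [h, h, hb, zero_mul, zero_mul]))
  · have := DFunLike.congr_fun hc₀ (Dat.ι u)
    exact congrArg Subtype.val (this.trans (Dat.c_ι u))

variable {F : Type} [Field F] [Finite F] [CharP F 2] (C : Coord G a t F)

/-- `d` acts on the coordinates as `v ↦ b τ(v)`. -/
def Acts (d : G) (b : F) (τ : F ≃+* F) : Prop := ∀ v, d * C.ι v * d⁻¹ = C.ι (b * τ v)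

theorem Acts.mul {d d' : G} {b b' : F} {τ τ' : F ≃+* F} (h : Acts C d b τ) (h' : Acts C d' b' τ') :
    Acts C (d * d') (b * τ b') (τ'.trans τ) := fun v => by
  rw [show d * d' * C.ι v * (d * d')⁻¹ = d * (d' * C.ι v * d'⁻¹) * d⁻¹ by group, h', h, map_mul,
    RingEquiv.trans_apply, mul_assoc]

theorem Acts.unique {d : G} {b b' : F} {τ τ' : F ≃+* F} (hb : b ≠ 0) (h : Acts C d b τ)
    (h' : Acts C d b' τ') : b = b' ∧ τ = τ' := by
  have h1 : ∀ v, b * τ v = b' * τ' v := fun v => C.ι_inj ((h v).symm.trans (h' v))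
  have hb' : b = b' := by simpa using h1 1
  exact ⟨hb', RingEquiv.ext fun v => mul_left_cancel₀ hb ((h1 v).trans (by rw [hb']))⟩

theorem acts_one : Acts C 1 1 (RingEquiv.refl F) := fun v => by simp

theorem Acts.inv {d : G} {b : F} {τ : F ≃+* F} (hb : b ≠ 0) (h : Acts C d b τ) :
    Acts C d⁻¹ (τ.symm b⁻¹) τ.symm := fun v => by
  have e := h (τ.symm (b⁻¹ * v))
  rw [RingEquiv.apply_symm_apply, mul_inv_cancel_left₀ hb, map_mul] at e
  rw [← e]
  group

theorem Acts.conj_mult {k e : G} {b l : F} {τ : F ≃+* F} (hb : b ≠ 0) (hk : Acts C k b τ)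
    (he : Acts C e l (RingEquiv.refl F)) : Acts C (k * e * k⁻¹) (τ l) (RingEquiv.refl F) := fun v => by
  rw [(Acts.mul C (Acts.mul C hk he) (Acts.inv C hb hk)) v]
  simp only [RingEquiv.trans_apply, RingEquiv.refl_apply, RingEquiv.apply_symm_apply]
  field_simp

theorem Acts.pow_mult {e : G} {l : F} (he : Acts C e l (RingEquiv.refl F)) (j : ℕ) :
    Acts C (e ^ j) (l ^ j) (RingEquiv.refl F) := by
  induction j with
  | zero => simpa using acts_one C
  | succ j ih =>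
    have h := Acts.mul C ih he
    simp only [RingEquiv.refl_apply] at h
    rw [pow_succ, pow_succ]
    exact h

theorem Acts.pow {d : G} {b : F} {τ : F ≃+* F} (h : Acts C d b τ) (j : ℕ) :
    ∃ b', Acts C (d ^ j) b' (τ ^ j) := by
  induction j with
  | zero => exact ⟨1, by rw [pow_zero, pow_zero]; exact acts_one C⟩
  | succ j ih =>
    obtain ⟨b', hb'⟩ := ih
    exact ⟨_, by rw [pow_succ, pow_succ]; exact Acts.mul C hb' h⟩

theorem acts_c : Acts C C.c (C.lam : F) (RingEquiv.refl F) := C.c_ι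

/-- Elements of `D` inducing equal maps differ by an element centralizing `t` and `J`. -/
theorem mem_W_of_trivial (hS : Cfsg.IsRankOneSetup G Ω a t Q) {d : G} (hd : d ∈ D)
    (h : Acts C d 1 (RingEquiv.refl F)) : d ∈ W := by
  rw [(Cfsg.Agent.S1127.result hS).2]
  refine Subgroup.mem_inf.2 ⟨hd, Subgroup.mem_centralizer_iff.2 fun x hx => ?_⟩
  obtain ⟨u, -, rfl⟩ := (C.mem_iff x).1 hx
  have := h u
  rw [RingEquiv.refl_apply, one_mul] at this
  exact ((mul_inv_eq_iff_eq_mul.1 this)).symm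

include hS

theorem acts_trivial_of_mem_W {d : G} (hd : d ∈ W) : Acts C d 1 (RingEquiv.refl F) := fun v => by
  rw [(Cfsg.Agent.S1127.result hS).2] at hd
  rw [RingEquiv.refl_apply, one_mul]
  rcases eq_or_ne v 0 with rfl | hv
  · obtain ⟨b, τ, -, h⟩ := C.semi d (Subgroup.mem_inf.1 hd).1
    simpa using h 0
  · rw [← Subgroup.mem_centralizer_iff.1 (Subgroup.mem_inf.1 hd).2 _ ((C.mem_iff _).2 ⟨v, hv, rfl⟩),
      mul_inv_cancel_right]

theorem t_conj_D {d : G} (hd : d ∈ D) : t * d * t⁻¹ ∈ D := by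
  have h1 := mem_stabilizer_iff.1 (Subgroup.mem_inf.1 hd).1
  have h2 := mem_stabilizer_iff.1 (Subgroup.mem_inf.1 hd).2
  refine Subgroup.mem_inf.2 ⟨mem_stabilizer_iff.2 ?_, mem_stabilizer_iff.2 ?_⟩
  · rw [mul_smul, mul_smul, t_inv hS, h2, t_t hS]
  · rw [mul_smul, mul_smul, t_inv hS, t_t hS, h1]

theorem fix_W {w : G} (hw : w ∈ W) : t * w * t⁻¹ = w := by
  rw [← Subgroup.mem_centralizer_singleton_iff.1 (Subgroup.mem_inf.1 (Subgroup.mem_inf.1 hw).1).2,
    mul_inv_cancel_right]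

/-- The elements inverted by `t` act as multipliers. -/
theorem acts_inverted {k : G} (hk : k ∈ J) : ∃ b, b ≠ 0 ∧ Acts C k b (RingEquiv.refl F) := by
  obtain ⟨b, τ, hb, hbτ⟩ := C.semi k hk.1
  replace hbτ : Acts C k b τ := hbτ
  suffices hτ : τ = RingEquiv.refl F from ⟨b, hb, hτ ▸ hbτ⟩
  letI := ZMod.algebra F 2
  let σ : F ≃ₐ[ZMod 2] F := { τ with
    commutes' := fun r => RingHom.congr_fun
      (Subsingleton.elim ((τ : F →+* F).comp (algebraMap (ZMod 2) F)) (algebraMap (ZMod 2) F)) r }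
  obtain ⟨i, hi, hσ⟩ := exists_eq_pow_of_algEquiv C.card σ
  replace hσ : ∀ x, τ x = x ^ 2 ^ i := hσ
  rcases eq_or_ne i 0 with rfl | hi0
  · exact RingEquiv.ext fun x => by rw [hσ x, pow_zero, pow_one]; rfl
  exfalso
  -- `τ` has odd order
  have hNo : Odd (orderOf k) := hS.odd_card.of_dvd_nat (Subgroup.orderOf_dvd_natCard _ hk.1)
  set N := orderOf k with hN
  have hτN : τ ^ N = 1 := by
    obtain ⟨b', hb'⟩ := Acts.pow C hbτ N
    rw [pow_orderOf_eq_one] at hb'
    exact (Acts.unique C one_ne_zero (acts_one C) hb').2.symm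
  have hpow : ∀ (j : ℕ) (x : F), (τ ^ j) x = x ^ 2 ^ (i * j) := fun j => by
    induction j with
    | zero => intro x; simp
    | succ j ih => intro x; rw [pow_succ', RingAut.mul_apply, ih, hσ, ← pow_mul, ← pow_add]; ring_nf
  have hiN : i * N ≡ 0 [MOD C.n] := eq_of_two_pow C.lam C.big (by
    rw [← hpow, hτN, pow_zero, pow_one]; rfl)
  -- the multiplier of `e' = t c^n t⁻¹`
  set e := C.c ^ C.n with he
  have hc' : t * C.c * t⁻¹ ∈ D := t_conj_D hS C.c_mem
  obtain ⟨b', τ', -, hbτ'⟩ := C.semi _ hc'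
  obtain ⟨μ, hμ⟩ := Acts.pow C (show Acts C (t * C.c * t⁻¹) b' τ' from hbτ') C.n
  have hτ' : τ' ^ C.n = RingEquiv.refl F := by
    haveI : Finite (F ≃+* F) := Finite.of_injective (fun f : F ≃+* F => (f : F → F)) DFunLike.coe_injective
    have := pow_card_eq_one' (G := F ≃+* F) (x := τ')
    rw [card_ringEquiv_le C.card] at this
    exact this
  rw [hτ', conj_pow, ← he] at hμ
  set e' := t * e * t⁻¹ with he'
  have hl := Acts.pow_mult C (acts_c C) C.n
  rw [← he] at hl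
  set l : F := (C.lam : F) ^ C.n with hldef
  -- the twisted commutation
  set w := k * e * k⁻¹ * (e ^ 2 ^ i)⁻¹ with hw
  have hwD : w ∈ D := mul_mem (mul_mem (mul_mem hk.1 (pow_mem C.c_mem _)) (inv_mem hk.1))
    (inv_mem (pow_mem (pow_mem C.c_mem _) _))
  have hl0 : l ^ 2 ^ i ≠ 0 := pow_ne_zero _ (pow_ne_zero _ (Units.ne_zero _))
  have hwW : w ∈ W := mem_W_of_trivial C hS hwD (by
    have h := Acts.mul C (Acts.conj_mult C hb hbτ hl) (Acts.inv C hl0 (Acts.pow_mult C hl (2 ^ i)))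
    have e1 : τ l = l ^ 2 ^ i := hσ l
    rw [e1] at h
    intro v
    have h' := h v
    simp only [RingEquiv.trans_apply, RingEquiv.refl_apply, RingEquiv.symm_refl] at h' ⊢
    rwa [mul_inv_cancel₀ hl0] at h')
  have hμ0 : μ ≠ 0 := fun e0 => by
    have h1 := hμ 1
    have h2 := hμ 0
    rw [e0, zero_mul] at h1 h2
    exact one_ne_zero (C.ι_inj (mul_left_cancel (mul_right_cancel (h1.trans h2.symm))))
  have hmap : k⁻¹ * e' * k⁻¹⁻¹ = w * e' ^ 2 ^ i := by
    have hkt : t * k * t⁻¹ = k⁻¹ := hk.2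
    calc k⁻¹ * e' * k⁻¹⁻¹ = (t * k * t⁻¹) * (t * e * t⁻¹) * (t * k * t⁻¹)⁻¹ := by rw [hkt]
      _ = t * (w * e ^ 2 ^ i) * t⁻¹ := by rw [hw]; group
      _ = t * w * t⁻¹ * (t * e ^ 2 ^ i * t⁻¹) := by group
      _ = w * e' ^ 2 ^ i := by rw [fix_W hS hwW, he', conj_pow]
  have hA := Acts.conj_mult C (by simpa using inv_ne_zero hb) (Acts.inv C hb hbτ) hμ
  rw [hmap] at hA
  have hB := Acts.mul C (acts_trivial_of_mem_W hS C hwW) (Acts.pow_mult C hμ (2 ^ i))
  have h3 : τ.symm μ = μ ^ 2 ^ i := by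
    simpa using (Acts.unique C (by simpa using hμ0) hA hB).1
  have h4 : (τ ^ 2) μ = μ := by
    rw [pow_two, RingAut.mul_apply, hσ μ, ← h3, RingEquiv.apply_symm_apply]
  have h5 : τ μ = μ := by
    obtain ⟨j, hj⟩ := hNo
    have h6 : ((τ ^ 2) ^ j) μ = μ := by
      clear hj
      induction j with
      | zero => rfl
      | succ j ih => rw [pow_succ', RingAut.mul_apply, ih, h4]
    have h7 := DFunLike.congr_fun hτN μ
    rw [hj, pow_succ', pow_mul, RingAut.mul_apply, h6] at h7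
    exact h7
  rw [hσ] at h5
  have hμ1 : μ ^ (2 ^ i - 1) = 1 := by
    refine mul_left_cancel₀ hμ0 ?_
    rw [← pow_succ', Nat.sub_add_cancel Nat.one_le_two_pow, h5, mul_one]
  have hle : l ^ (2 ^ i - 1) = 1 := by
    have h6 := Acts.pow_mult C hμ (2 ^ i - 1)
    rw [hμ1, he', conj_pow] at h6
    have h7 := mem_W_of_trivial C hS (t_conj_D hS (pow_mem (pow_mem C.c_mem _) _)) h6
    have h8 : t * (t * e ^ (2 ^ i - 1) * t⁻¹) * t⁻¹ = e ^ (2 ^ i - 1) := by
      rw [t_inv hS, ← mul_assoc t (t * e ^ (2 ^ i - 1)) t, ← mul_assoc t t, hS.mul_self, one_mul,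
        mul_assoc, hS.mul_self, mul_one]
    rw [fix_W hS h7] at h8
    rw [h8] at h7
    exact (Acts.unique C (pow_ne_zero _ (pow_ne_zero _ (Units.ne_zero _))) (Acts.pow_mult C hl _)
      (acts_trivial_of_mem_W hS C h7)).1
  have hdvd : orderOf C.lam ∣ C.n * (2 ^ i - 1) := orderOf_dvd_of_pow_eq_one (Units.ext (by
    rw [Units.val_pow_eq_pow_val, pow_mul]; exact hle))
  -- the arithmetic
  obtain ⟨hn2, d, hd, hm⟩ := C.big
  set g := Nat.gcd C.n i
  obtain ⟨r, hr⟩ : g ∣ C.n := Nat.gcd_dvd_left _ _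
  have hg : 1 ≤ g := Nat.gcd_pos_of_pos_left _ (by omega)
  have hr1 : r ≠ 1 := fun e => by
    rw [e, mul_one] at hr
    have : g ≤ i := Nat.le_of_dvd (Nat.pos_of_ne_zero hi0) (Nat.gcd_dvd_right _ _)
    omega
  have hrN : r ∣ N := by
    obtain ⟨i', hi'⟩ : g ∣ i := Nat.gcd_dvd_right _ _
    have h7 := Nat.modEq_zero_iff_dvd.1 hiN
    rw [hr, hi', mul_assoc] at h7
    refine (Nat.Coprime.dvd_of_dvd_mul_left ?_ ((Nat.mul_dvd_mul_iff_left hg).1 h7))
    have h8 : g * Nat.gcd r i' = g := by rw [← Nat.gcd_mul_left, ← hr, ← hi']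
    exact Nat.eq_of_mul_eq_mul_left hg (h8.trans (mul_one g).symm)
  have hro := hNo.of_dvd_nat hrN
  refine not_dvd_sq_mul (g := g) hr (by obtain ⟨j, rfl⟩ := hro; omega) hro hg ?_
  rw [← Nat.pow_sub_one_gcd_pow_sub_one, ← Nat.gcd_mul_left]
  refine Nat.dvd_gcd (dvd_mul_left _ _) ?_
  rw [← hm, pow_two, mul_assoc]
  calc orderOf C.lam * d ∣ C.n * (2 ^ i - 1) * C.n := mul_dvd_mul hdvd hd
    _ = C.n * (C.n * (2 ^ i - 1)) := mul_comm _ _

/-- A multiplier is determined by its inverted element. -/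
theorem mult_inj {k k' : G} (hk : k ∈ J) (hk' : k' ∈ J) {b : F} (hb : b ≠ 0)
    (h : Acts C k b (RingEquiv.refl F)) (h' : Acts C k' b (RingEquiv.refl F)) : k = k' := by
  obtain ⟨s, hs⟩ := exists_involution hS
  obtain ⟨u, -, rfl⟩ := (C.mem_iff s).1 hs
  refine congrArg Subtype.val ((conj_bijective hS hs).1 (a₁ := ⟨k, hk⟩) (a₂ := ⟨k', hk'⟩) (Subtype.ext ?_))
  show k⁻¹ * C.ι u * k = k'⁻¹ * C.ι u * k'
  have e1 := Acts.inv C hb h u
  have e2 := Acts.inv C hb h' u
  rw [inv_inv] at e1 e2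
  rw [e1, e2]

/-- The inverted elements form a cyclic group acting as the whole multiplicative group. -/
theorem exists_generator :
    ∃ k ∈ J, ∃ g : Fˣ, (∀ x : Fˣ, x ∈ Subgroup.zpowers g) ∧ Acts C k (g : F) (RingEquiv.refl F) ∧
      (Subgroup.zpowers k : Set G) = J := by
  obtain ⟨g, hg⟩ := IsCyclic.exists_generator (α := Fˣ)
  obtain ⟨s, hs⟩ := exists_involution hS
  obtain ⟨u, hu, rfl⟩ := (C.mem_iff s).1 hs
  obtain ⟨k, hk⟩ := (conj_bijective hS hs).2
    ⟨C.ι ((g : F)⁻¹ * u), (C.mem_iff _).2 ⟨_, mul_ne_zero (inv_ne_zero g.ne_zero) hu, rfl⟩⟩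
  obtain ⟨b, hb, hact⟩ := acts_inverted hS C k.2
  have hbg : b = (g : F) := by
    have e := Acts.inv C hb hact u
    rw [inv_inv, show (k : G)⁻¹ * C.ι u * k = C.ι ((g : F)⁻¹ * u) from congrArg Subtype.val hk] at e
    have e' := C.ι_inj e
    simp only [RingEquiv.symm_refl, RingEquiv.refl_apply] at e'
    exact (inv_injective (mul_right_cancel₀ hu e')).symm
  subst hbg
  refine ⟨k, k.2, g, hg, hact, Set.ext fun x => ⟨fun hx => ?_, fun hx => ?_⟩⟩
  · obtain ⟨j, rfl⟩ := mem_powers_iff_mem_zpowers.2 hx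
    exact inverted_pow hS k.2 j
  · obtain ⟨c, hc, hcact⟩ := acts_inverted hS C hx
    obtain ⟨j, hj⟩ := mem_powers_iff_mem_zpowers.2 (hg (Units.mk0 c hc))
    have hj' : (g : F) ^ j = c := by rw [← Units.val_pow_eq_pow_val]; exact congrArg Units.val hj
    have := mult_inj hS C hx (inverted_pow hS k.2 j) hc hcact (hj' ▸ Acts.pow_mult C hact j)
    rw [this]
    exact Subgroup.pow_mem _ (Subgroup.mem_zpowers _) j

include C in
/-- The inverted elements form a cyclic normal subgroup of the two-point stabiliser. -/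
theorem exists_normal_cyclic : ∃ K : Subgroup G, (K : Set G) = J ∧ IsCyclic K ∧
    ∀ d ∈ D, ∀ c ∈ K, d * c * d⁻¹ ∈ K := by
  obtain ⟨k, -, g, -, -, hkJ⟩ := exists_generator hS C
  refine ⟨_, hkJ, inferInstance, fun d hd c hc => ?_⟩
  have hord : orderOf t = 2 := orderOf_eq_prime (by rw [pow_two]; exact hS.mul_self) hS.ne_one
  obtain ⟨⟨y, z⟩, ⟨hy, hz, hyz⟩, -⟩ := (Cfsg.Agent.S1124.result t hord _ hS.odd_card
    fun x hx => t_conj_D hS hx).1 d hd
  dsimp only at hy hz hyz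
  subst hyz
  have hz' : z ∈ Subgroup.zpowers k := (Set.ext_iff.1 hkJ z).2 hz
  have hzc : z * c * z⁻¹ = c := by
    obtain ⟨m, rfl⟩ := Subgroup.mem_zpowers_iff.1 hz'
    obtain ⟨m', rfl⟩ := Subgroup.mem_zpowers_iff.1 hc
    rw [← zpow_add, ← zpow_neg, ← zpow_add]; congr 1; ring
  rw [show y * z * c * (y * z)⁻¹ = y * (z * c * z⁻¹) * y⁻¹ by group, hzc]
  refine (Set.ext_iff.1 hkJ _).2 ?_
  obtain ⟨hcD, hct⟩ := (Set.ext_iff.1 hkJ c).1 hc
  obtain ⟨hyD, hyt⟩ := Subgroup.mem_inf.1 hy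
  have hyt' : t * y * t⁻¹ = y := by
    rw [← Subgroup.mem_centralizer_singleton_iff.1 hyt, mul_inv_cancel_right]
  refine ⟨mul_mem (mul_mem hyD hcD) (inv_mem hyD), ?_⟩
  calc t * (y * c * y⁻¹) * t⁻¹ = (t * y * t⁻¹) * (t * c * t⁻¹) * (t * y * t⁻¹)⁻¹ := by group
    _ = y * c⁻¹ * y⁻¹ := by rw [hyt', hct]
    _ = (y * c * y⁻¹)⁻¹ := by group

include C in
/-- `C_D(t)` is cyclic modulo the kernel of the action on the involutions. -/
theorem exists_cyclic_top : ∃ v ∈ V, W ⊔ Subgroup.closure {v} = V := by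
  classical
  obtain ⟨s, hs, r, hr, he⟩ := exists_structure hS
  obtain ⟨u, hu, rfl⟩ := (C.mem_iff s).1 hs
  choose b τ hb hact using fun v : ↥(V) => C.semi v (Subgroup.mem_inf.1 v.2).1
  have hmul : ∀ x y : ↥(V), τ (x * y) = τ x * τ y := fun x y =>
    ((Acts.unique C (hb _) (hact (x * y))
      (Acts.mul C (show Acts C (x : G) _ _ from hact x) (show Acts C (y : G) _ _ from hact y))).2).trans rfl
  let θ : ↥(V) →* RingAut F := MonoidHom.mk' τ hmul
  haveI : IsCyclic (RingAut F) := by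
    letI := ZMod.algebra F 2
    let e : (F ≃ₐ[ZMod 2] F) →* RingAut F := MonoidHom.mk' (fun σ => σ.toRingEquiv) fun _ _ => rfl
    refine isCyclic_of_surjective e fun σ => ⟨{ σ with
      commutes' := fun r => RingHom.congr_fun
        (Subsingleton.elim ((σ : F →+* F).comp (algebraMap (ZMod 2) F)) (algebraMap (ZMod 2) F)) r },
      RingEquiv.ext fun _ => rfl⟩
  obtain ⟨⟨g, v, rfl⟩, hg⟩ := IsCyclic.exists_generator (α := θ.range)
  refine ⟨v, v.2, le_antisymm (sup_le inf_le_left ((Subgroup.closure_le _).2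
    (Set.singleton_subset_iff.2 v.2))) fun x hx => ?_⟩
  obtain ⟨j, hj⟩ := Subgroup.mem_zpowers_iff.1 (hg ⟨θ ⟨x, hx⟩, ⟨x, hx⟩, rfl⟩)
  set y : ↥(V) := ⟨x, hx⟩ * (v ^ j)⁻¹ with hy
  have hτy : τ y = 1 := by
    show θ y = 1
    rw [hy, map_mul, map_inv, map_zpow, ← show θ v ^ j = θ ⟨x, hx⟩ from congrArg Subtype.val hj,
      mul_inv_cancel]
  have hyD := (Subgroup.mem_inf.1 y.2).1
  have hb1 : b y = 1 := by
    have h1 := (commute_t_iff hS hs hr he hyD).1
      (Subgroup.mem_centralizer_singleton_iff.1 (Subgroup.mem_inf.1 y.2).2)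
    have h2 := hact y u
    rw [hτy, h1, mul_inv_cancel_right] at h2
    exact mul_right_cancel₀ hu ((C.ι_inj h2).symm.trans (one_mul u).symm)
  have hyW : (y : G) ∈ W := mem_W_of_trivial C hS hyD fun z => by
    rw [hact y z, hb1, hτy]; rfl
  have hxy : (y : G) * (v : G) ^ j = x := by
    rw [hy, Subgroup.coe_mul, Subgroup.coe_inv, SubgroupClass.coe_zpow, inv_mul_cancel_right]
  have hmem := Subgroup.mul_mem_sup hyW
    (Subgroup.zpow_mem (Subgroup.closure {(v : G)}) (Subgroup.subset_closure rfl) j)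
  rw [hxy] at hmem
  exact hmem

include h2 C in
/-- A Sylow 2-subgroup of `Q` is abelian or a Suzuki 2-group. -/
theorem sylow_two_suzuki (S : Sylow 2 ↥Q) :
    IsMulCommutative (S : Subgroup ↥Q) ∨ Cfsg.IsSuzukiTwoGroup ↥(S : Subgroup ↥Q) := by
  rw [or_iff_not_imp_left]
  intro hna
  haveI := nilpotent hS h2
  haveI : Fact (Nat.Prime 2) := ⟨Nat.prime_two⟩
  have hSn : (S : Subgroup Q).Normal :=
    Sylow.normal_of_normalizerCondition Group.normalizerCondition_of_isNilpotent S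
  haveI := Sylow.characteristic_of_normal S hSn
  obtain ⟨k, hk, g, hg, hact, hkJ⟩ := exists_generator hS C
  -- all involutions of `G_a` lie in `S`
  have hIS : ∀ x ∈ I, ∃ y : ↥(S : Subgroup Q), ((y : Q) : G) = x := fun x hx => by
    have hxQ := involution_mem_Q hS hx
    have hp : IsPGroup 2 (Subgroup.zpowers (⟨x, hxQ⟩ : Q)) := IsPGroup.of_card (n := 1) (by
      rw [Nat.card_zpowers, ← Subgroup.orderOf_coe]
      exact (orderOf_eq_prime (by rw [pow_two]; exact hx.2.2) hx.2.1).trans (pow_one 2).symm)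
    obtain ⟨P, hP⟩ := hp.exists_le_sylow
    haveI : Subsingleton (Sylow 2 Q) := by
      have := Sylow.unique_of_normal S hSn
      exact inferInstance
    rw [Subsingleton.elim P S] at hP
    exact ⟨⟨_, hP (Subgroup.mem_zpowers _)⟩, rfl⟩
  have hSI : ∀ x : ↥(S : Subgroup Q), x ≠ 1 → x * x = 1 → ((x : Q) : G) ∈ I := fun x h1 h2' =>
    ⟨hS.le (x : Q).2, fun e => h1 (Subtype.ext (Subtype.ext e)),
      congrArg (fun z : ↥(S : Subgroup Q) => ((z : Q) : G)) h2'⟩
  -- the automorphism induced by `k`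
  let e : Q ≃* Q :=
    { toFun := fun q => ⟨k * q * k⁻¹, (Q_normalized hS hk.1 q.2).1⟩
      invFun := fun q => ⟨k⁻¹ * q * k, (Q_normalized hS hk.1 q.2).2⟩
      left_inv := fun q => Subtype.ext (show k⁻¹ * (k * (q : G) * k⁻¹) * k = q by group)
      right_inv := fun q => Subtype.ext (show k * (k⁻¹ * (q : G) * k) * k⁻¹ = q by group)
      map_mul' := fun q q' => Subtype.ext
        (show k * ((q : G) * q') * k⁻¹ = k * q * k⁻¹ * (k * q' * k⁻¹) by group) }
  let f : MulAut ↥(S : Subgroup Q) := (e.subgroupMap (S : Subgroup Q)).trans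
    (MulEquiv.subgroupCongr (Subgroup.characteristic_iff_map_eq.1 inferInstance e))
  have hf : ∀ (j : ℕ) (x : ↥(S : Subgroup Q)), (((f ^ j) x : ↥(S : Subgroup Q)) : Q).1 =
      k ^ j * ((x : Q) : G) * (k ^ j)⁻¹ := by
    intro j
    induction j with
    | zero => intro x; simp
    | succ j ih =>
      intro x
      rw [pow_succ', MulAut.mul_apply]
      show k * ((((f ^ j) x : ↥(S : Subgroup Q)) : Q) : G) * k⁻¹ = _
      rw [ih, pow_succ']
      group
  refine ⟨inferInstance, S.2, ?_, ?_, Subgroup.zpowers f, inferInstance, ?_⟩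
  · by_contra hc
    push Not at hc
    exact hna ⟨⟨hc⟩⟩
  · obtain ⟨k', hk', hk'1⟩ := exists_inverted hS h2
    obtain ⟨s, hs⟩ := exists_involution hS
    obtain ⟨x, hx⟩ := hIS s hs
    obtain ⟨y, hy⟩ := hIS _ (conj_involution hS hs (show k' ∈ stabilizer G a from hk'.1.1))
    refine ⟨x, y, fun exy => hk'1 ?_, ?_, ?_, ?_, ?_⟩
    · have e' : s = k'⁻¹ * s * k' := hx.symm.trans ((congrArg (fun z : ↥(S : Subgroup Q) => ((z : Q) : G)) exy).trans hy)
      exact congrArg Subtype.val ((conj_bijective hS hs).1 (a₁ := ⟨k', hk'⟩)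
        (a₂ := ⟨1, one_mem _, by simp⟩) (Subtype.ext (by simpa using e'.symm)))
    · exact fun e1 => hs.2.1 (by rw [← hx, e1]; rfl)
    · exact Subtype.ext (Subtype.ext (by rw [Subgroup.coe_mul, Subgroup.coe_mul, hx]; exact hs.2.2))
    · exact fun e1 => (conj_involution hS hs (show k' ∈ stabilizer G a from hk'.1.1)).2.1
        (by rw [← hy, e1]; rfl)
    · exact Subtype.ext (Subtype.ext (by
        rw [Subgroup.coe_mul, Subgroup.coe_mul, hy]
        exact (conj_involution hS hs (show k' ∈ stabilizer G a from hk'.1.1)).2.2))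
  · intro x y hx1 hx2 hy1 hy2
    obtain ⟨u, hu, hxu⟩ := (C.mem_iff _).1 (hSI x hx1 hx2)
    obtain ⟨v, hv, hyv⟩ := (C.mem_iff _).1 (hSI y hy1 hy2)
    have hval : ∀ j : ℕ, (f ^ j) x = y ↔ (g : F) ^ j * u = v := fun j => by
      constructor
      · intro e1
        refine C.ι_inj ?_
        rw [hyv, ← e1, hf, ← hxu, Acts.pow_mult C hact j u, RingEquiv.refl_apply]
      · intro e1
        refine Subtype.ext (Subtype.ext ?_)
        rw [hf, ← hxu, Acts.pow_mult C hact j u, RingEquiv.refl_apply, e1, hyv]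
    obtain ⟨j, hj⟩ := mem_powers_iff_mem_zpowers.2 (hg (Units.mk0 (v / u) (div_ne_zero hv hu)))
    have hj' : (g : F) ^ j * u = v := by
      rw [← Units.val_pow_eq_pow_val, show g ^ j = Units.mk0 (v / u) (div_ne_zero hv hu) from hj,
        Units.val_mk0, div_mul_cancel₀ v hu]
    refine ⟨⟨f ^ j, Subgroup.pow_mem _ (Subgroup.mem_zpowers f) j⟩, (hval j).2 hj', ?_⟩
    rintro ⟨φ, hφ⟩ hφx
    obtain ⟨i, rfl⟩ := mem_powers_iff_mem_zpowers.2 hφ
    refine Subtype.ext (MulEquiv.ext fun z => Subtype.ext (Subtype.ext ?_))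
    have hij : (g : F) ^ i = (g : F) ^ j := mul_right_cancel₀ hu (((hval i).1 hφx).trans hj'.symm)
    rw [hf, hf, mult_inj hS C (inverted_pow hS hk i) (inverted_pow hS hk j)
      (pow_ne_zero i g.ne_zero) (Acts.pow_mult C hact i) (hij ▸ Acts.pow_mult C hact j)]

end CfsgLib.OddConseq.RankOne
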