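import Cfsg.Agent.Lib.Invol.NormalFourExists
import Cfsg.Agent.Lib.Invol.QuaternionSection
import Cfsg.Agent.Lib.Coprime.UniqueOrderP
import Cfsg.Agent.Lib.PGroup.CyclicIndexTwoAut
import Cfsg.Agent.Lib.Invol.PConstrained
import Cfsg.Agent.Lib.Invol.Signalizer
import Cfsg.Prelude.Def_CaseTheorems

/-!
# Groups whose 2-core is self-centralizing with only one involution
-/

set_option autoImplicit false

namespace CfsgLib.CoreUnique

open Subgroup

universe u

/-- Without components and without normal subgroups of odd order, the 2-core contains its own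
centralizer. -/
theorem centralizer_pCore_le {L : Type u} [Group L] [Finite L] (hc : ¬ Cfsg.HasComponent L)
    (hO : Cfsg.pPrimeCore 2 L = ⊥) :
    centralizer (Cfsg.pCore 2 L : Set L) ≤ Cfsg.pCore 2 L := by
  haveI : Fact (Nat.Prime 2) := ⟨Nat.prime_two⟩
  have hlay : Cfsg.layer L = ⊥ := le_bot_iff.1 (sSup_le fun K hK => absurd ⟨K, hK.1, hK.2⟩ hc)
  have hfit : Cfsg.fittingSubgroup L ≤ Cfsg.pCore 2 L := by
    rw [CfsgLib.Coprime.fitting_eq_iSup_pCore]
    refine iSup_le fun q => ?_
    by_cases hq : (q : ℕ) = 2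
    · rw [hq]
    · haveI := Fact.mk q.2
      exact le_trans (le_trans (CfsgLib.Coprime.pCore_le_pPrimeCore_of_ne hq) hO.le) bot_le
  have hle : Cfsg.generalizedFittingSubgroup L ≤ Cfsg.pCore 2 L :=
    sup_le (hlay ▸ bot_le) hfit
  exact (Subgroup.centralizer_le hle).trans
    (CfsgLib.Coprime.centralizer_generalizedFitting_le.trans hle)

/-- In `Q₈`, an automorphism moving each generator only by the involution is inner. -/
theorem q8_inner : ∀ x y : QuaternionGroup 2,
    (x = .a 1 ∨ x = .a 2 * .a 1) → (y = .xa 0 ∨ y = .a 2 * .xa 0) →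
    ∃ r : QuaternionGroup 2, r * .a 1 * r⁻¹ = x ∧ r * .xa 0 * r⁻¹ = y := by
  decide +kernel

theorem q8_involution : ∀ x : QuaternionGroup 2, x * x = 1 → x = 1 ∨ x = .a 2 := by
  decide +kernel

theorem q8_gen : ∀ x : QuaternionGroup 2, ∃ i : Fin 4, ∃ j : Fin 2,
    x = (.xa 0 : QuaternionGroup 2) ^ j.val * (.a 1 : QuaternionGroup 2) ^ i.val := by
  decide +kernel

/-- A finite group with `C(O₂) ≤ O₂`, one involution in `O₂`, and an elementary abelian 2-subgroup of
order at least 8 does not exist. -/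
theorem false_of_unique {L : Type u} [Group L] [Finite L]
    (hC : centralizer (Cfsg.pCore 2 L : Set L) ≤ Cfsg.pCore 2 L)
    (hu : CfsgLib.Coprime.UniqueOrderP 2 ↥(Cfsg.pCore 2 L))
    (E : Subgroup L) (hE : Cfsg.IsElementaryAbelian 2 E) (hE8 : 4 < Nat.card E) : False := by
  haveI : Fact (Nat.Prime 2) := ⟨Nat.prime_two⟩
  obtain ⟨O, hO⟩ : ∃ O, O = Cfsg.pCore 2 L := ⟨_, rfl⟩
  rw [← hO] at hC hu
  haveI hOn : O.Normal := hO ▸ CfsgLib.Coprime.pCore_normal' 2
  have hOp : IsPGroup 2 O := hO ▸ CfsgLib.Coprime.pCore_isPGroup 2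
  -- only two elements of `O` square to one
  have hone : ∀ x ∈ O, ∀ y ∈ O, x ^ 2 = 1 → y ^ 2 = 1 → x ≠ 1 → y ≠ 1 → y = x := by
    intro x hx y hy hx2 hy2 hx1 hy1
    obtain ⟨i, hi⟩ := hu ⟨x, hx⟩ ⟨y, hy⟩ (Subtype.ext hx2) (Subtype.ext hy2)
      (fun e => hx1 (congrArg Subtype.val e))
    have hi' : x ^ i = y := congrArg Subtype.val hi
    rcases Int.even_or_odd i with ⟨k, rfl⟩ | ⟨k, rfl⟩
    · exfalso
      apply hy1
      rw [← hi', ← two_mul, zpow_mul, zpow_ofNat, hx2, one_zpow]
    · rw [← hi', zpow_add, zpow_mul, zpow_ofNat, hx2, one_zpow, zpow_one, one_mul]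
  obtain ⟨φ, hφ⟩ : ∃ φ : L →* MulAut O, φ = MulAut.conjNormal := ⟨_, rfl⟩
  have hker : φ.ker ≤ O := by
    intro x hx
    refine hC (mem_centralizer_iff.2 fun y hy => ?_)
    have h := congrArg Subtype.val (MulEquiv.ext_iff.1 (MonoidHom.mem_ker.1 hx) ⟨y, hy⟩)
    rw [hφ, MulAut.conjNormal_apply] at h
    exact (eq_mul_inv_iff_mul_eq.1 h.symm)
  -- an automorphism group of 2-power order is impossible
  have h2 : ¬ IsPGroup 2 (MulAut O) := by
    intro hA
    have hk : IsPGroup 2 φ.ker := hOp.to_le hker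
    have hLp : IsPGroup 2 L := fun g => by
      obtain ⟨a, ha⟩ := hA (φ g)
      obtain ⟨b, hb⟩ := hk ⟨g ^ 2 ^ a, by rw [MonoidHom.mem_ker, map_pow, ha]⟩
      refine ⟨a + b, ?_⟩
      rw [pow_add, pow_mul]
      exact congrArg Subtype.val hb
    have htop : O = ⊤ := by
      rw [hO]
      exact top_le_iff.1 (CfsgLib.Coprime.le_pCore (N := (⊤ : Subgroup L)) (hLp.to_subgroup ⊤))
    have : Nat.card E ≤ 2 := by
      rcases E.bot_or_exists_ne_one with rfl | ⟨x, hx, hx1⟩
      · simp
      · have hle : E ≤ zpowers x := fun y hy => by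
          by_cases hy1 : y = 1
          · exact hy1 ▸ one_mem _
          · rw [hone x (htop ▸ mem_top x) y (htop ▸ mem_top y) (hE.2 x hx) (hE.2 y hy) hx1 hy1]
            exact mem_zpowers x
        refine (Nat.le_of_dvd Nat.card_pos (card_dvd_of_le hle)).trans ?_
        rw [Nat.card_zpowers]
        exact orderOf_le_of_pow_eq_one two_pos (hE.2 x hx)
    omega
  rcases CfsgLib.Coprime.cyclic_or_quaternion_of_unique_two hOp hu with hcyc | ⟨n, ⟨e⟩⟩
  · obtain ⟨k, hk⟩ := hOp.exists_card_eq
    refine h2 (IsPGroup.of_card (n := k - 1) ?_)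
    rw [IsCyclic.card_mulAut, hk]
    rcases k with _ | k
    · simp
    · rw [Nat.totient_prime_pow_succ Nat.prime_two]; simp
  · rcases Nat.lt_or_ge n 2 with hn | hn
    · interval_cases n
      · haveI : IsCyclic (QuaternionGroup (2 ^ 0)) := by
          rw [pow_zero]; exact QuaternionGroup.quaternionGroup_one_isCyclic
        haveI : IsCyclic O := isCyclic_of_surjective e.symm e.symm.surjective
        obtain ⟨k, hk⟩ := hOp.exists_card_eq
        refine h2 (IsPGroup.of_card (n := k - 1) ?_)
        rw [IsCyclic.card_mulAut, hk]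
        rcases k with _ | k
        · simp
        · rw [Nat.totient_prime_pow_succ Nat.prime_two]; simp
      · -- `Q₈`: a normal four-group of a Sylow subgroup induces inner automorphisms
        obtain ⟨S, hES⟩ := (CfsgLib.Invol.isPGroup_of_isElementaryAbelian hE).exists_le_sylow
        obtain ⟨U, hUn, hU4, hU2⟩ := CfsgLib.Invol.exists_normal_four S.isPGroup'
          (E.subgroupOf (S : Subgroup L)) (fun x hx => Subtype.ext (hE.2 _ hx))
          (by rwa [Nat.card_congr (subgroupOfEquivOfLe hES).toEquiv])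
        obtain ⟨V, hV⟩ : ∃ V, V = U.map (S : Subgroup L).subtype := ⟨_, rfl⟩
        have hV2 : ∀ v ∈ V, v ^ 2 = 1 := by
          rw [hV]; rintro _ ⟨x, hx, rfl⟩; rw [← map_pow, hU2 x hx, map_one]
        have hVS : V ≤ (S : Subgroup L) := hV ▸ map_subtype_le _
        have hVn : ∀ s ∈ (S : Subgroup L), ∀ v ∈ V, s * v * s⁻¹ ∈ V := by
          rw [hV]; rintro s hs _ ⟨x, hx, rfl⟩
          exact ⟨⟨s, hs⟩ * x * ⟨s, hs⟩⁻¹, hUn.conj_mem x hx _, rfl⟩
        have hOS : O ≤ (S : Subgroup L) := by
          rw [hO]; exact sSup_le fun N hN => by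
            haveI := hN.1
            exact hN.2.le_sylow_of_normal S
        have hV4 : Nat.card V = 4 := by
          rw [hV, card_map_of_injective (S : Subgroup L).subtype_injective, hU4]
        -- `V` is not inside `O`
        obtain ⟨v, hvV, hvO⟩ : ∃ v ∈ V, v ∉ O := by
          by_contra hno
          push Not at hno
          rcases V.bot_or_exists_ne_one with h | ⟨x, hx, hx1⟩
          · rw [h, card_bot] at hV4; omega
          · have hle : V ≤ zpowers x := fun y hy => by
              by_cases hy1 : y = 1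
              · exact hy1 ▸ one_mem _
              · rw [hone x (hno x hx) y (hno y hy) (hV2 x hx) (hV2 y hy) hx1 hy1]
                exact mem_zpowers x
            have := Nat.le_of_dvd Nat.card_pos (card_dvd_of_le hle)
            rw [hV4, Nat.card_zpowers] at this
            have := this.trans (orderOf_le_of_pow_eq_one two_pos (hV2 x hx))
            omega
        -- it moves elements of `O` by the involution only
        obtain ⟨σ, hσ⟩ : ∃ σ : MulAut (QuaternionGroup (2 ^ 1)), σ = MulAut.congr e (φ v) :=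
          ⟨_, rfl⟩
        have hmove : ∀ q : QuaternionGroup (2 ^ 1), σ q * q⁻¹ * (σ q * q⁻¹) = 1 := by
          intro q
          rw [hσ]
          have hq : e (φ v (e.symm q)) * q⁻¹ = e (φ v (e.symm q) * (e.symm q)⁻¹) := by
            rw [map_mul, map_inv, e.apply_symm_apply]
          show e (φ v (e.symm q)) * q⁻¹ * (e (φ v (e.symm q)) * q⁻¹) = 1
          rw [hq, ← map_mul, map_eq_one_iff e e.injective]
          refine Subtype.ext ?_
          rw [hφ]
          simp only [Subgroup.coe_mul, MulAut.conjNormal_apply, InvMemClass.coe_inv, OneMemClass.coe_one]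
          have hmem : v * (e.symm q : L) * v⁻¹ * (e.symm q : L)⁻¹ ∈ V := by
            have h1 := mul_mem hvV (hVn _ (hOS (e.symm q).2) _ (inv_mem hvV))
            simpa [mul_assoc] using h1
          exact (sq _).symm.trans (hV2 _ hmem)
        have hgen : ∀ q : QuaternionGroup 2, σ q = q ∨ σ q = .a 2 * q := by
          intro q
          rcases q8_involution _ (hmove q) with h | h
          · exact Or.inl (mul_inv_eq_one.1 h)
          · exact Or.inr (mul_inv_eq_iff_eq_mul.1 h)
        obtain ⟨r, hr1, hr2⟩ := q8_inner (σ (.a 1)) (σ (.xa 0)) (hgen _) (hgen _)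
        have hinner : ∀ q : QuaternionGroup 2, σ q = r * q * r⁻¹ := by
          intro q
          obtain ⟨i, j, rfl⟩ := q8_gen q
          have h1 : σ (.xa 0) = MulAut.conj r (.xa 0) := hr2.symm
          have h2 : σ (.a 1) = MulAut.conj r (.a 1) := hr1.symm
          show σ _ = MulAut.conj r _
          simp only [map_mul, map_pow]
          rw [← h1, ← h2]
        -- so `v` lies in `O C(O) = O`
        obtain ⟨w, hw⟩ : ∃ w : O, w = e.symm r := ⟨_, rfl⟩
        have hcent : (w : L)⁻¹ * v ∈ centralizer (O : Set L) := by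
          refine mem_centralizer_iff.2 fun y hy => ?_
          have h := hinner (e ⟨y, hy⟩)
          rw [hσ] at h
          have h' : e (φ v ⟨y, hy⟩) = e (w * ⟨y, hy⟩ * w⁻¹) := by
            rw [map_mul, map_mul, map_inv, hw, e.apply_symm_apply]
            refine Eq.trans ?_ h
            show _ = e (φ v (e.symm (e ⟨y, hy⟩)))
            rw [e.symm_apply_apply]
          have h'' := congrArg Subtype.val (e.injective h')
          rw [hφ, MulAut.conjNormal_apply] at h''
          simp only [Subgroup.coe_mul, InvMemClass.coe_inv] at h''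
          have e2 : v * y = (w : L) * y * (w : L)⁻¹ * v := mul_inv_eq_iff_eq_mul.1 h''
          rw [mul_assoc ((w : L)⁻¹) v y, e2]
          group
        exact hvO (by simpa using mul_mem w.2 (hC hcent))
    · exact h2 ((CfsgLib.CyclicTwoAut.isPGroup_mulAut_quaternion hn).of_equiv (MulAut.congr e).symm)

end CfsgLib.CoreUnique
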