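import Cfsg.Agent.S0520
import Cfsg.Agent.S1297
import Cfsg.Agent.Lib.OddConseq.Basic
import Cfsg.Agent.Lib.OddConseq.CoreUniqueInvolution
import Cfsg.Agent.Lib.SolvSignalizer.Main
import Cfsg.Agent.Lib.Coprime.LBalance.LocalBalance
import Cfsg.Agent.Lib.Invol.StronglyEmbedded
import Cfsg.Agent.Lib.PGroup.CharPLocal
import Cfsg.Agent.Lib.Invol.BLayer.General
import Cfsg.Agent.Lib.PGroup.ElementaryBasic

/-!
# Cores of involution centralizers in groups not of component type

If the four-groups of a Sylow 2-subgroup are connected and the 2-rank is at least 3, the signalizer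
functor `O(C(t))` has a normalizer which is either everything or strongly embedded.
-/

set_option autoImplicit false

namespace CfsgLib.TwoGenCore

open Subgroup
open Cfsg.Agent.S0520 (Adj four_conj four_sq four_isPGroup lift_connected)

universe u

variable {G : Type u} [Group G] [Finite G]

local notation "θ" => Cfsg.centralizerPPrimeCore 2

theorem theta_le (x : G) : θ x ≤ centralizer ({x} : Set G) := map_subtype_le _

theorem theta_not_dvd (x : G) : ¬ 2 ∣ Nat.card ↥(θ x) := by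
  rw [Cfsg.centralizerPPrimeCore, card_map_of_injective (subtype_injective _)]
  exact CfsgLib.Coprime.pPrimeCore_not_dvd Nat.prime_two

theorem theta_solvable (hFT : CfsgLib.OddConseq.OddSolvable.{u}) (x : G) :
    Group.IsSolvable ↥(θ x) :=
  hFT.subgroup (Nat.not_even_iff_odd.1 fun h => theta_not_dvd x (even_iff_two_dvd.1 h))

theorem theta_conj (g x : G) : θ (g * x * g⁻¹) = (θ x).map (MulAut.conj g).toMonoidHom := by
  haveI : Fact (Nat.Prime 2) := ⟨Nat.prime_two⟩
  exact (CfsgLib.Coprime.map_centralizerPPrimeCore_equiv (MulAut.conj g) x).symm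

/-- The closure of `θ` over a subgroup. -/
def W (U : Subgroup G) : Subgroup G :=
  ⨆ e : {e : G // e ∈ U ∧ e ≠ 1}, Cfsg.centralizerPPrimeCore 2 (e : G)

theorem theta_le_W {U : Subgroup G} {e : G} (he : e ∈ U) (he1 : e ≠ 1) : θ e ≤ W U :=
  le_iSup (fun e : {e : G // e ∈ U ∧ e ≠ 1} => θ (e : G)) ⟨e, he, he1⟩

theorem W_conj (g : G) (U : Subgroup G) :
    W (U.map (MulAut.conj g).toMonoidHom) = (W U).map (MulAut.conj g).toMonoidHom := by
  refine le_antisymm (iSup_le ?_) ?_
  · rintro ⟨_, ⟨e, he, rfl⟩, he1⟩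
    show θ (g * e * g⁻¹) ≤ _
    rw [theta_conj]
    exact map_mono (theta_le_W he fun h => he1 (by simp [h]))
  · rw [W, Subgroup.map_iSup]
    refine iSup_le fun e => ?_
    rw [← theta_conj]
    exact theta_le_W ⟨e, e.2.1, rfl⟩ fun h => e.2.2 (conj_eq_one_iff.1 h)

theorem four_elem {U : Subgroup G} (hU : IsKleinFour U) : Cfsg.IsElementaryAbelian 2 U := by
  refine ⟨⟨⟨fun a b => ?_⟩⟩, fun a ha => four_sq hU ha⟩
  have h : ∀ c : U, c⁻¹ = c := fun c => inv_eq_of_mul_eq_one_right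
    (by rw [← sq]; exact Subtype.ext (four_sq hU c.2))
  calc a * b = (a * b)⁻¹ := (h _).symm
    _ = b * a := by rw [mul_inv_rev, h, h]

theorem four_orderOf {U : Subgroup G} (hU : IsKleinFour U) {x : G} (hx : x ∈ U) (hx1 : x ≠ 1) :
    orderOf x = 2 :=
  orderOf_eq_prime (hp := ⟨Nat.prime_two⟩) (four_sq hU hx) hx1

section

variable (hFT : CfsgLib.OddConseq.OddSolvable.{u}) (hbal : Cfsg.IsBalanced G)

include hFT hbal

theorem functor {B : Subgroup G} (hB : Cfsg.IsElementaryAbelian 2 B) :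
    Cfsg.IsSolvableSignalizerFunctor 2 B (θ : G → Subgroup G) := by
  haveI : Fact (Nat.Prime 2) := ⟨Nat.prime_two⟩
  refine ⟨⟨fun a _ _ => theta_le a, fun a _ _ => theta_not_dvd a, fun a ha _ b hb y hy => ?_,
    fun a ha ha1 b hb hb1 => ?_⟩, fun a _ _ => theta_solvable hFT a⟩
  · have h := theta_conj b a
    rw [show b * a * b⁻¹ = a by
      rw [CfsgLib.EABasic.comm_of_isElementaryAbelian hB hb ha, mul_inv_cancel_right]] at h
    rw [h]
    exact ⟨y, hy, rfl⟩
  · rw [hbal a b (orderOf_eq_prime (hB.2 a ha) ha1) (orderOf_eq_prime (hB.2 b hb) hb1)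
      (CfsgLib.EABasic.comm_of_isElementaryAbelian hB ha hb)]
    exact inf_le_left

theorem W_eq_of_le {U B : Subgroup G} (hU : IsKleinFour U) (hB : Cfsg.IsElementaryAbelian 2 B)
    (hB8 : 2 ^ 3 ≤ Nat.card B) (hUB : U ≤ B) : W U = W B ∧ ¬ 2 ∣ Nat.card ↥(W B) := by
  haveI : Fact (Nat.Prime 2) := ⟨Nat.prime_two⟩
  have hθ := functor hFT hbal hB
  obtain ⟨X, hX, hXθ⟩ := CfsgLib.SolvSignalizer.exists_complete hB hB8 hθ
  have hWX : W B ≤ X := iSup_le fun e => hXθ e e.2.1 e.2.2
  refine ⟨le_antisymm (iSup_le fun e => theta_le_W (hUB e.2.1) e.2.2) (iSup_le fun b => ?_),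
    fun hd => hX.2.1 (hd.trans (card_dvd_of_le hWX))⟩
  refine CfsgLib.SolvSignalizer.le_of_fixed_points (four_elem hU) (by rw [hU.card_four]; norm_num)
    (hUB.trans (CfsgLib.Invol.family_normalizer (CfsgLib.Invol.theta_mem_family hθ b.2.1 b.2.2)))
    (theta_not_dvd (b : G)) fun e he he1 => ?_
  exact (hθ.1.2.2.2 b b.2.1 b.2.2 e (hUB he) he1).trans (theta_le_W he he1)

theorem W_adj {U V : Subgroup G} (h : Adj U V) : W U = W V := by
  haveI : Fact (Nat.Prime 2) := ⟨Nat.prime_two⟩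
  obtain ⟨hU, hV, hc⟩ := h
  have hB := CfsgLib.EABasic.isElementaryAbelian_sup (four_elem hU) (four_elem hV) hc
  obtain ⟨k, hk⟩ := IsPGroup.iff_card.1 (CfsgLib.Invol.isPGroup_of_isElementaryAbelian hB)
  rcases Nat.lt_or_ge k 3 with hk3 | hk3
  · have hle : Nat.card (U ⊔ V : Subgroup G) ≤ 4 :=
      hk ▸ (Nat.pow_le_pow_right (by norm_num) (by omega : k ≤ 2))
    rw [Subgroup.eq_of_le_of_card_ge (le_sup_left : U ≤ U ⊔ V) (by rw [hU.card_four]; exact hle),
      ← Subgroup.eq_of_le_of_card_ge (le_sup_right : V ≤ U ⊔ V) (by rw [hV.card_four]; exact hle)]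
  · have h3 : 2 ^ 3 ≤ Nat.card (U ⊔ V : Subgroup G) := hk ▸ Nat.pow_le_pow_right (by norm_num) hk3
    rw [(W_eq_of_le hFT hbal hU hB h3 le_sup_left).1, (W_eq_of_le hFT hbal hV hB h3 le_sup_right).1]

theorem W_const {H : Subgroup G} (h : Cfsg.IsFourConnected H) {U V : Subgroup G} (hU : IsKleinFour U)
    (hV : IsKleinFour V) (hUH : U ≤ H) (hVH : V ≤ H) : W U = W V := by
  have := lift_connected h U V hU hV hUH hVH
  clear hV hVH
  induction this with
  | refl => rfl
  | tail _ h2 ih => exact ih.trans (W_adj hFT hbal h2)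

/-- Conjugating a four-group of `S` into `S` stays in the normalizer of `W`. -/
theorem mem_normalizer_W (S : Sylow 2 G) (hS : Cfsg.IsFourConnected ↥(S : Subgroup G))
    {U₀ U : Subgroup G} (hU₀ : IsKleinFour U₀) (hU₀S : U₀ ≤ (S : Subgroup G)) (hU : IsKleinFour U)
    (hUS : U ≤ (S : Subgroup G)) {g : G}
    (hg : ∀ x ∈ U, g * x * g⁻¹ ∈ (S : Subgroup G)) : g ∈ normalizer (W U₀ : Set G) := by
  have hgU : U.map (MulAut.conj g).toMonoidHom ≤ (S : Subgroup G) := by
    rintro _ ⟨x, hx, rfl⟩; exact hg x hx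
  have h1 := W_const hFT hbal hS hU₀ hU hU₀S hUS
  have h2 := W_const hFT hbal hS hU₀ (four_conj hU g) hU₀S hgU
  rw [mem_normalizer_iff_map_conj_eq]
  show (W U₀).map (MulAut.conj g).toMonoidHom = W U₀
  rw [h1, ← W_conj, ← h2, h1]

theorem normalizer_le_normalizer_W (S : Sylow 2 G) (hS : Cfsg.IsFourConnected ↥(S : Subgroup G))
    {U₀ U Q : Subgroup G} (hU₀ : IsKleinFour U₀) (hU₀S : U₀ ≤ (S : Subgroup G)) (hU : IsKleinFour U)
    (hUQ : U ≤ Q) (hQS : Q ≤ (S : Subgroup G)) :
    normalizer (Q : Set G) ≤ normalizer (W U₀ : Set G) := fun g hg =>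
  mem_normalizer_W hFT hbal S hS hU₀ hU₀S hU (hUQ.trans hQS) fun x hx =>
    hQS ((mem_normalizer_iff.1 hg x).1 (hUQ hx))

/-- The centralizer of an involution of `S` lies in the normalizer of `W`. -/
theorem centralizer_le_normalizer_W (hc : ¬ Cfsg.IsComponentType G) (S : Sylow 2 G)
    (hS : Cfsg.IsFourConnected ↥(S : Subgroup G)) {E : Subgroup G}
    (hE : Cfsg.IsElementaryAbelian 2 E) (hE8 : 4 < Nat.card E) (hES : E ≤ (S : Subgroup G))
    {z : G} (hzS : z ∈ (S : Subgroup G)) (hz : orderOf z = 2)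
    (hzc : ∀ s ∈ (S : Subgroup G), Commute s z)
    {U₀ : Subgroup G} (hU₀ : IsKleinFour U₀) (hU₀S : U₀ ≤ (S : Subgroup G))
    (hfour : ∀ t ∈ (S : Subgroup G), orderOf t = 2 → ∃ U : Subgroup G, IsKleinFour U ∧ t ∈ U ∧
      U ≤ (S : Subgroup G) ⊓ centralizer ({t} : Set G)) :
    ∀ n, ∀ t ∈ (S : Subgroup G), orderOf t = 2 →
      Nat.card G - Nat.card ↥((S : Subgroup G) ⊓ centralizer ({t} : Set G)) = n →
      centralizer ({t} : Set G) ≤ normalizer (W U₀ : Set G) := by
  haveI : Fact (Nat.Prime 2) := ⟨Nat.prime_two⟩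
  intro n
  induction n using Nat.strongRecOn with
  | ind n ih =>
  intro t htS ht hn
  obtain ⟨U, hU, htU, hUT⟩ := hfour t htS ht
  obtain ⟨C, hC⟩ : ∃ C, C = centralizer ({t} : Set G) := ⟨_, rfl⟩
  rw [← hC] at hn hUT ⊢
  obtain ⟨M, hM⟩ : ∃ M, M = normalizer (W U₀ : Set G) := ⟨_, rfl⟩
  rw [← hM]
  obtain ⟨T, hT⟩ : ∃ T, T = (S : Subgroup G) ⊓ C := ⟨_, rfl⟩
  rw [← hT] at hn hUT
  have hTS : T ≤ (S : Subgroup G) := hT ▸ inf_le_left
  have hTC : T ≤ C := hT ▸ inf_le_right
  have hTp : IsPGroup 2 T := S.isPGroup'.to_le hTS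
  have hNM : normalizer (T : Set G) ≤ M :=
    hM ▸ normalizer_le_normalizer_W hFT hbal S hS hU₀ hU₀S hU hUT hTS
  have hSM : (S : Subgroup G) ≤ M := fun s hs => hM ▸ mem_normalizer_W hFT hbal S hS hU₀ hU₀S hU
    (hUT.trans hTS) fun x hx => mul_mem (mul_mem hs (hTS (hUT hx))) (inv_mem hs)
  obtain ⟨T', hTT'⟩ := (hTp.comap_subtype (K := C)).exists_le_sylow
  have hT'C : (T' : Subgroup C).map C.subtype ≤ C := map_subtype_le _
  have hle : T ≤ (T' : Subgroup C).map C.subtype := fun x hx =>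
    ⟨⟨x, hTC hx⟩, hTT' (show (⟨x, hTC hx⟩ : C) ∈ T.comap C.subtype from hx), rfl⟩
  by_cases heq : T = (T' : Subgroup C).map C.subtype
  swap
  · -- move `t` to a point with a larger Sylow intersection
    obtain ⟨T1, hT1⟩ : ∃ T1, T1 = normalizer (T : Set G) ⊓ (T' : Subgroup C).map C.subtype :=
      ⟨_, rfl⟩
    have hT1p : IsPGroup 2 T1 := (T'.isPGroup'.map C.subtype).to_le (hT1 ▸ inf_le_right)
    have hlt : T < T1 := by
      refine lt_of_le_not_ge (hT1 ▸ le_inf le_normalizer hle) fun h => ?_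
      exact CfsgLib.Invol.normalizer_grows (T'.isPGroup'.map C.subtype) hle heq (hT1 ▸ h)
    have hT1M : T1 ≤ M := (hT1 ▸ inf_le_left).trans hNM
    obtain ⟨m, hm⟩ := CfsgLib.Invol.exists_conj_le_sylow (Q := T1.subgroupOf M)
      hT1p.comap_subtype (S.subtype hSM)
    obtain ⟨t', ht'⟩ : ∃ t', t' = (m : G) * t * (m : G)⁻¹ := ⟨_, rfl⟩
    have hmT1 : ∀ x ∈ T1, (m : G) * x * (m : G)⁻¹ ∈ (S : Subgroup G) := fun x hx => by
      exact hm ⟨x, hT1M hx⟩ hx
    have htT : t ∈ T := hUT htU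
    have hsub : T1.map (MulAut.conj (m : G)).toMonoidHom ≤
        (S : Subgroup G) ⊓ centralizer ({t'} : Set G) := by
      rintro _ ⟨x, hx, rfl⟩
      refine mem_inf.2 ⟨hmT1 x hx, mem_centralizer_singleton_iff.2 ?_⟩
      have hxC : x ∈ centralizer ({t} : Set G) := hC ▸ hT'C ((hT1 ▸ hx : x ∈ normalizer (T : Set G) ⊓ _).2)
      have hxt := mem_centralizer_singleton_iff.1 hxC
      rw [ht']
      show MulAut.conj (m : G) x * MulAut.conj (m : G) t = MulAut.conj (m : G) t * MulAut.conj (m : G) x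
      rw [← map_mul, hxt, map_mul]
    have h1 : Nat.card T < Nat.card T1 := lt_of_le_of_ne (card_le_of_le hlt.le) fun e =>
      hlt.ne (Subgroup.eq_of_le_of_card_ge hlt.le e.ge)
    have h2 : Nat.card T1 ≤ Nat.card ↥((S : Subgroup G) ⊓ centralizer ({t'} : Set G)) := by
      refine le_trans (le_of_eq ?_) (card_le_of_le hsub)
      rw [card_map_of_injective (MulAut.conj (m : G)).injective]
    have h3 : Nat.card ↥((S : Subgroup G) ⊓ centralizer ({t'} : Set G)) ≤ Nat.card G :=
      card_le_card_group _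
    have ht'S : t' ∈ (S : Subgroup G) := ht' ▸ hmT1 t (hlt.le htT)
    have hrec := ih _ (by omega) t' ht'S (ht' ▸ CfsgLib.Invol.invol_conj ht _) rfl
    rw [← hM] at hrec
    intro x hx
    rw [hC, mem_centralizer_singleton_iff] at hx
    have hx' : (m : G) * x * (m : G)⁻¹ ∈ M := hrec (mem_centralizer_singleton_iff.2 (by
      rw [ht']
      show MulAut.conj (m : G) x * MulAut.conj (m : G) t = MulAut.conj (m : G) t * MulAut.conj (m : G) x
      rw [← map_mul, hx, map_mul]))
    have := mul_mem (mul_mem (inv_mem m.2) hx') m.2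
    simpa [mul_assoc] using this
  · -- `T` is a Sylow 2-subgroup of `C(t)`
    obtain ⟨N, hN⟩ : ∃ N, N = Cfsg.oddCore ↥C := ⟨_, rfl⟩
    haveI hNn : N.Normal := by
      rw [hN]; haveI := CfsgLib.Coprime.pPrimeCore_characteristic (G := ↥C) 2; infer_instance
    obtain ⟨f, hf⟩ : ∃ f, f = QuotientGroup.mk' N := ⟨_, rfl⟩
    have hfs : Function.Surjective f := hf ▸ QuotientGroup.mk'_surjective N
    have hfk : f.ker = N := by rw [hf, QuotientGroup.ker_mk']
    have hclean : centralizer (Cfsg.pCore 2 (↥C ⧸ N) : Set (↥C ⧸ N)) ≤ Cfsg.pCore 2 (↥C ⧸ N) := by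
      refine CfsgLib.CoreUnique.centralizer_pCore_le ?_ ?_
      · subst hN; subst hC
        exact fun h => hc ⟨t, ht, h⟩
      · subst hN
        exact CfsgLib.Coprime.pPrimeCore_quotient_eq_bot Nat.prime_two
    obtain ⟨O, hO⟩ : ∃ O, O = Cfsg.pCore 2 (↥C ⧸ N) := ⟨_, rfl⟩
    rw [← hO] at hclean
    haveI hOn : O.Normal := hO ▸ CfsgLib.Coprime.pCore_normal' 2
    have hOp : IsPGroup 2 O := hO ▸ CfsgLib.Coprime.pCore_isPGroup 2
    obtain ⟨P, hP⟩ : ∃ P, P = O.comap f := ⟨_, rfl⟩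
    haveI hPn : P.Normal := hP ▸ hOn.comap f
    obtain ⟨Q, hQ⟩ : ∃ Q, Q = (T' : Subgroup C) ⊓ P := ⟨_, rfl⟩
    have hQp : IsPGroup 2 Q := T'.isPGroup'.to_le (hQ ▸ inf_le_left)
    have hOT : O ≤ (T' : Subgroup C).map f := by
      have h := hOp.le_sylow_of_normal (T'.mapSurjective hfs)
      rwa [Sylow.coe_mapSurjective] at h
    have hPQ : P ≤ N ⊔ Q := by
      intro p hp
      rw [hP, mem_comap] at hp
      obtain ⟨s, hs, hsp⟩ := hOT hp
      have hsP : s ∈ P := by rw [hP, mem_comap, hsp]; exact hp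
      have hn' : p * s⁻¹ ∈ N := by
        rw [← hfk, MonoidHom.mem_ker, map_mul, map_inv, hsp, mul_inv_cancel]
      have := mul_mem_sup hn' (show s ∈ Q from hQ ▸ mem_inf.2 ⟨hs, hsP⟩)
      rwa [inv_mul_cancel_right] at this
    have hNP : N ≤ P := fun x hx => by
      rw [hP, mem_comap, show f x = 1 from MonoidHom.mem_ker.1 (hfk.ge hx)]; exact one_mem _
    have hQP : Q ≤ P := hQ ▸ inf_le_right
    -- Frattini
    have hfrat : (⊤ : Subgroup C) ≤ normalizer (Q : Set C) ⊔ N := by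
      obtain ⟨R, hR⟩ := (hQp.comap_subtype (K := P)).exists_le_sylow
      have hRQ : (R : Subgroup P) = Q.subgroupOf P := by
        refine le_antisymm ?_ hR
        intro r hr
        obtain ⟨a, ha, q, hq, hq'⟩ := mem_sup_of_normal_left.1 (hPQ r.2)
        have haR : (⟨a, hNP ha⟩ : P) ∈ (R : Subgroup P) := by
          have : (⟨a, hNP ha⟩ : P) = r * (⟨q, hQP hq⟩ : P)⁻¹ := Subtype.ext (by
            show a = (r : C) * q⁻¹
            rw [← hq', mul_inv_cancel_right])
          rw [this]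
          exact mul_mem hr (inv_mem (hR hq))
        obtain ⟨i, hi⟩ := R.isPGroup' ⟨_, haR⟩
        have ha1 : a = 1 := by
          have h2 : orderOf a ∣ 2 ^ i := orderOf_dvd_of_pow_eq_one (congrArg (fun x : ↥(R : Subgroup P) => ((x : P) : C)) hi)
          have h3 : (orderOf a).Coprime 2 := (CfsgLib.Coprime.pPrimeCore_coprime Nat.prime_two).coprime_dvd_left
            (Subgroup.orderOf_dvd_natCard _ ((show a ∈ Cfsg.oddCore ↥C from hN ▸ ha)))
          exact orderOf_eq_one_iff.1 (Nat.eq_one_of_dvd_coprimes (h3.pow_right i) dvd_rfl h2)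
        rw [ha1, one_mul] at hq'
        rw [mem_subgroupOf, ← hq']
        exact hq
      have hmap : (R : Subgroup P).map P.subtype = Q := by
        rw [hRQ, map_subgroupOf_eq_of_le hQP]
      have h := Sylow.normalizer_sup_eq_top R
      rw [hmap] at h
      rw [← h]
      refine sup_le le_sup_left ?_
      exact hPQ.trans (sup_le le_sup_right (le_normalizer.trans le_sup_left))
    by_cases hfourQ : ∃ V : Subgroup G, IsKleinFour V ∧ V ≤ Q.map C.subtype
    · obtain ⟨V, hV, hVQ⟩ := hfourQ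
      have hQS : Q.map C.subtype ≤ (S : Subgroup G) :=
        (map_mono (hQ ▸ inf_le_left)).trans (heq ▸ hTS)
      have hNQ : normalizer (Q.map C.subtype : Set G) ≤ M :=
        hM ▸ normalizer_le_normalizer_W hFT hbal S hS hU₀ hU₀S hV hVQ hQS
      have hθ : N.map C.subtype ≤ M := by
        have h1 : N.map C.subtype = θ t := by subst hN; subst hC; rfl
        rw [h1, hM]
        refine (theta_le_W htU (fun e => by rw [e, orderOf_one] at ht; norm_num at ht)).trans ?_
        rw [← W_const hFT hbal hS hU₀ hU hU₀S (hUT.trans hTS)]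
        exact le_normalizer
      intro x hx
      obtain ⟨a, ha, b, hb, hab⟩ := mem_sup_of_normal_right.1 (hfrat (mem_top (⟨x, hx⟩ : C)))
      have := mul_mem (hNQ (le_normalizer_map C.subtype ⟨a, ha, rfl⟩)) (hθ ⟨b, hb, rfl⟩)
      rwa [← map_mul, hab] at this
    · exfalso
      have hinj : ∀ x ∈ (T' : Subgroup C), x ^ 2 = 1 → f x = 1 → x = 1 := by
        intro x _ hx2 hfx
        rw [← MonoidHom.mem_ker, hfk, hN] at hfx
        have h3 : (orderOf x).Coprime 2 := (CfsgLib.Coprime.pPrimeCore_coprime Nat.prime_two).coprime_dvd_left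
          (Subgroup.orderOf_dvd_natCard _ hfx)
        exact orderOf_eq_one_iff.1 (Nat.eq_one_of_dvd_coprimes h3 dvd_rfl (orderOf_dvd_of_pow_eq_one hx2))
      -- two elements of `Q` squaring to one and different from one are equal
      have hQone : ∀ x ∈ Q, ∀ y ∈ Q, x ^ 2 = 1 → y ^ 2 = 1 → x ≠ 1 → y ≠ 1 → Commute x y → x = y := by
        intro x hx y hy hx2 hy2 hx1 hy1 hxy
        by_contra hne
        refine hfourQ ⟨Subgroup.closure {(x : G), (y : G)}, CfsgLib.Invol.isKleinFour_closure_pair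
          ?_ ?_ (fun e => hne (Subtype.ext e)) (congrArg Subtype.val hxy.eq), ?_⟩
        · rw [Subgroup.orderOf_coe]; exact orderOf_eq_prime hx2 hx1
        · rw [Subgroup.orderOf_coe]; exact orderOf_eq_prime hy2 hy1
        · rw [closure_le]
          rintro w (rfl | rfl)
          exacts [⟨x, hx, rfl⟩, ⟨y, hy, rfl⟩]
      have hcentT : ∀ x : C, (x : G) ∈ T → (∀ s ∈ T, Commute s (x : G)) → x ∈ Q := by
        intro x hxT hxc
        have hxT' : x ∈ (T' : Subgroup C) := by
          obtain ⟨y, hy, hyx⟩ := (heq ▸ hxT : (x : G) ∈ (T' : Subgroup C).map C.subtype)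
          rwa [← Subtype.ext hyx]
        refine hQ ▸ mem_inf.2 ⟨hxT', ?_⟩
        rw [hP, mem_comap]
        refine hclean (mem_centralizer_iff.2 fun y hy => ?_)
        obtain ⟨s, hs, rfl⟩ := hOT hy
        have hsx : Commute s x := Subtype.ext (hxc (s : G) (heq.symm ▸ ⟨s, hs, rfl⟩))
        exact (hsx.map f).eq
      have htC : t ∈ C := hC ▸ mem_centralizer_singleton_iff.2 rfl
      have htQ : (⟨t, htC⟩ : C) ∈ Q := hcentT _ (hUT htU) fun s hs =>
        mem_centralizer_singleton_iff.1 (hC ▸ hTC hs)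
      have hzC : z ∈ C := hC ▸ mem_centralizer_singleton_iff.2 (hzc t htS).symm.eq
      have hzQ : (⟨z, hzC⟩ : C) ∈ Q := hcentT _ (hT ▸ mem_inf.2 ⟨hzS, hzC⟩) fun s hs => hzc s (hTS hs)
      have hne1 : ∀ {x : G}, orderOf x = 2 → x ≠ 1 := fun h e => by
        rw [e, orderOf_one] at h; norm_num at h
      have hzt : z = t := congrArg Subtype.val (hQone _ hzQ _ htQ
        (Subtype.ext (hz ▸ pow_orderOf_eq_one z)) (Subtype.ext (ht ▸ pow_orderOf_eq_one t))
        (fun e => hne1 hz (congrArg Subtype.val e)) (fun e => hne1 ht (congrArg Subtype.val e))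
        (Subtype.ext (hzc t htS).symm.eq))
      have hEC : E ≤ C := fun e he => hC ▸ mem_centralizer_singleton_iff.2
        (by rw [← hzt]; exact (hzc e (hES he)).eq)
      have hET' : E.subgroupOf C ≤ (T' : Subgroup C) := by
        intro e he
        obtain ⟨y, hy, hye⟩ := (heq ▸ (hT ▸ mem_inf.2 ⟨hES he, e.2⟩ : (e : G) ∈ T) :
          (e : G) ∈ (T' : Subgroup C).map C.subtype)
        rwa [← Subtype.ext hye]
      -- pass to the quotient
      have hEe : Cfsg.IsElementaryAbelian 2 ((E.subgroupOf C).map f) := by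
        refine ⟨⟨⟨?_⟩⟩, ?_⟩
        · rintro ⟨_, a, ha, rfl⟩ ⟨_, b, hb, rfl⟩
          refine Subtype.ext ?_
          show f a * f b = f b * f a
          rw [← map_mul, ← map_mul]
          exact congrArg f (Subtype.ext (CfsgLib.EABasic.comm_of_isElementaryAbelian hE ha hb))
        · rintro _ ⟨a, ha, rfl⟩
          rw [← map_pow, show a ^ 2 = 1 from Subtype.ext (hE.2 _ ha), map_one]
      have hEc : Nat.card ((E.subgroupOf C).map f) = Nat.card E := by
        rw [← Nat.card_congr (subgroupOfEquivOfLe hEC).toEquiv]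
        refine (Nat.card_congr (Equiv.ofBijective (fun x : ↥(E.subgroupOf C) =>
          (⟨f x, x, x.2, rfl⟩ : ↥((E.subgroupOf C).map f))) ⟨fun a b hab => ?_, fun y => ?_⟩)).symm
        · have hfab : f ((a : C) * (b : C)⁻¹) = 1 := by
            have hab' : f (a : C) = f (b : C) := congrArg Subtype.val hab
            rw [map_mul, map_inv, hab', mul_inv_cancel]
          have hm := mul_mem a.2 (inv_mem b.2)
          exact Subtype.ext (mul_inv_eq_one.1 (hinj _ (hET' hm) (Subtype.ext (hE.2 _ hm)) hfab))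
        · obtain ⟨x, hx, hxy⟩ := y.2
          exact ⟨⟨x, hx⟩, Subtype.ext hxy⟩
      refine CfsgLib.CoreUnique.false_of_unique (hO ▸ hclean) ?_ _ hEe (hEc.symm ▸ hE8)
      intro x y hx hy hx1
      have hlift : ∀ w : ↥(Cfsg.pCore 2 (↥C ⧸ N)), w ^ 2 = 1 → w ≠ 1 → (w : ↥C ⧸ N) = f ⟨t, htC⟩ := by
        intro w hw hw1
        have hwO : (w : ↥C ⧸ N) ∈ O := hO ▸ w.2
        obtain ⟨s, hs, hsw⟩ := hOT hwO
        have hsQ : s ∈ Q := hQ ▸ mem_inf.2 ⟨hs, by rw [hP, mem_comap, hsw]; exact hwO⟩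
        have hs2 : s ^ 2 = 1 := by
          have hfs2 : f (s ^ 2) = 1 := by
            rw [map_pow, hsw]; exact congrArg Subtype.val hw
          obtain ⟨i, hi⟩ := T'.isPGroup' ⟨s ^ 2, pow_mem hs 2⟩
          rw [← MonoidHom.mem_ker, hfk, hN] at hfs2
          have h3 : (orderOf (s ^ 2)).Coprime 2 :=
            (CfsgLib.Coprime.pPrimeCore_coprime Nat.prime_two).coprime_dvd_left
              (Subgroup.orderOf_dvd_natCard _ hfs2)
          exact orderOf_eq_one_iff.1 (Nat.eq_one_of_dvd_coprimes (h3.pow_right i) dvd_rfl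
            (orderOf_dvd_of_pow_eq_one (congrArg Subtype.val hi)))
        have hs1 : s ≠ 1 := fun e => hw1 (Subtype.ext (by rw [← hsw, e, map_one]; rfl))
        rw [← hsw, hQone s hsQ _ htQ hs2 (Subtype.ext (ht ▸ pow_orderOf_eq_one t)) hs1
          (fun e => hne1 ht (congrArg Subtype.val e))
          (Subtype.ext (mem_centralizer_singleton_iff.1 (hC ▸ s.2)))]
      by_cases hy1 : y = 1
      · exact hy1 ▸ one_mem _
      · rw [show y = x from Subtype.ext ((hlift y hy hy1).trans (hlift x hx hx1).symm)]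
        exact mem_zpowers x

/-- In a group not of component type with 2-rank at least 3 and connected Sylow 2-subgroup the cores of
the involution centralizers are trivial, if strongly embedded subgroups have their cores in the core. -/
theorem theta_eq_bot (hSE : ∀ H : Subgroup G, Cfsg.IsStronglyEmbedded H →
      (Cfsg.oddCore ↥H).map H.subtype ≤ Cfsg.oddCore G)
    (hrank : ¬ Cfsg.PRankLE 2 2 G) (hO : Cfsg.oddCore G = ⊥) (hc : ¬ Cfsg.IsComponentType G)
    (S : Sylow 2 G) (hS : Cfsg.IsFourConnected ↥(S : Subgroup G)) (t : G) (ht : orderOf t = 2) :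
    θ t = ⊥ := by
  haveI : Fact (Nat.Prime 2) := ⟨Nat.prime_two⟩
  -- an elementary subgroup of order at least 8 in `S`
  obtain ⟨E, hE, hE8, hES⟩ : ∃ E : Subgroup G, Cfsg.IsElementaryAbelian 2 E ∧ 4 < Nat.card E ∧
      E ≤ (S : Subgroup G) := by
    unfold Cfsg.PRankLE at hrank
    push Not at hrank
    obtain ⟨A, hA, hA2, hcard⟩ := hrank
    have hAe : Cfsg.IsElementaryAbelian 2 A := ⟨hA, hA2⟩
    obtain ⟨g, hg⟩ := CfsgLib.Invol.exists_conj_le_sylow
      (CfsgLib.Invol.isPGroup_of_isElementaryAbelian hAe) S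
    refine ⟨A.map (MulAut.conj g).toMonoidHom, ⟨⟨⟨?_⟩⟩, ?_⟩, ?_, ?_⟩
    · rintro ⟨_, a, ha, rfl⟩ ⟨_, b, hb, rfl⟩
      refine Subtype.ext ?_
      show MulAut.conj g a * MulAut.conj g b = MulAut.conj g b * MulAut.conj g a
      rw [← map_mul, ← map_mul, CfsgLib.EABasic.comm_of_isElementaryAbelian hAe ha hb]
    · rintro _ ⟨a, ha, rfl⟩
      rw [← map_pow, hA2 a ha, map_one]
    · rw [card_map_of_injective (MulAut.conj g).injective]
      simpa using hcard
    · rintro _ ⟨a, ha, rfl⟩; exact hg a ha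
  -- a central involution of `S`
  obtain ⟨z, hzS, hz, hzc⟩ : ∃ z ∈ (S : Subgroup G), orderOf z = 2 ∧
      ∀ s ∈ (S : Subgroup G), Commute s z := by
    haveI : Nontrivial ↥(S : Subgroup G) := Finite.one_lt_card_iff_nontrivial.1
      (lt_of_lt_of_le (by omega) (hE8.le.trans (card_le_of_le hES)))
    haveI := S.isPGroup'.center_nontrivial
    obtain ⟨k, hk⟩ := (S.isPGroup'.to_subgroup (center ↥(S : Subgroup G))).exists_card_eq
    have hk0 : k ≠ 0 := fun h => by
      have := Finite.one_lt_card (α := center ↥(S : Subgroup G))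
      rw [hk, h] at this; norm_num at this
    obtain ⟨x, hx⟩ := exists_prime_orderOf_dvd_card' 2 (hk ▸ dvd_pow_self 2 hk0 :
      2 ∣ Nat.card (center ↥(S : Subgroup G)))
    refine ⟨((x : ↥(S : Subgroup G)) : G), (x : ↥(S : Subgroup G)).2, ?_, fun s hs => ?_⟩
    · rwa [Subgroup.orderOf_coe, Subgroup.orderOf_coe]
    · exact congrArg Subtype.val (mem_center_iff.1 x.2 ⟨s, hs⟩)
  -- every involution of `S` lies in a four-group of its centralizer in `S`
  have hfour : ∀ t ∈ (S : Subgroup G), orderOf t = 2 → ∃ U : Subgroup G, IsKleinFour U ∧ t ∈ U ∧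
      U ≤ (S : Subgroup G) ⊓ centralizer ({t} : Set G) := by
    intro t htS ht
    obtain ⟨w, hwS, hw, hwt, hwc⟩ : ∃ w ∈ (S : Subgroup G), orderOf w = 2 ∧ w ≠ t ∧ Commute t w := by
      by_cases hzt : z = t
      · obtain ⟨e, he, he1, het⟩ : ∃ e ∈ E, e ≠ 1 ∧ e ≠ t := by
          by_contra hno
          push Not at hno
          have hle : E ≤ zpowers t := fun y hy => by
            by_cases hy1 : y = 1
            · exact hy1 ▸ one_mem _
            · rw [hno y hy hy1]; exact mem_zpowers t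
          have := Nat.le_of_dvd Nat.card_pos (card_dvd_of_le hle)
          rw [Nat.card_zpowers, ht] at this
          omega
        exact ⟨e, hES he, orderOf_eq_prime (hE.2 e he) he1, het, hzt ▸ (hzc e (hES he)).symm⟩
      · exact ⟨z, hzS, hz, hzt, hzc t htS⟩
    refine ⟨Subgroup.closure {t, w}, CfsgLib.Invol.isKleinFour_closure_pair ht hw hwt.symm hwc,
      subset_closure (Set.mem_insert _ _), (closure_le _).2 ?_⟩
    rintro y (rfl | rfl)
    · exact mem_inf.2 ⟨htS, mem_centralizer_singleton_iff.2 rfl⟩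
    · exact mem_inf.2 ⟨hwS, mem_centralizer_singleton_iff.2 hwc.symm.eq⟩
  obtain ⟨U₀, hU₀, hzU₀, hU₀S⟩ := hfour z hzS hz
  replace hU₀S := hU₀S.trans inf_le_left
  obtain ⟨M, hM⟩ : ∃ M, M = normalizer (W U₀ : Set G) := ⟨_, rfl⟩
  have hSM : (S : Subgroup G) ≤ M := fun s hs => hM ▸ mem_normalizer_W hFT hbal S hS hU₀ hU₀S hU₀
    hU₀S fun x hx => mul_mem (mul_mem hs (hU₀S hx)) (inv_mem hs)
  have hCM : ∀ t ∈ (S : Subgroup G), orderOf t = 2 → centralizer ({t} : Set G) ≤ M := fun t htS ht =>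
    hM ▸ centralizer_le_normalizer_W hFT hbal hc S hS hE hE8 hES hzS hz hzc hU₀ hU₀S hfour _ t htS ht rfl
  -- `W` has odd order
  have hWodd : ¬ 2 ∣ Nat.card ↥(W U₀) := by
    obtain ⟨a, ha, b, hb, hab⟩ : ∃ a ∈ E, ∃ b ∈ E, a ≠ b ∧ a ≠ 1 ∧ b ≠ 1 := by
      rcases E.bot_or_exists_ne_one with h | ⟨a, ha, ha1⟩
      · rw [h, card_bot] at hE8; omega
      · by_contra hno
        push Not at hno
        have hle : E ≤ zpowers a := fun y hy => by
          by_cases hy1 : y = 1
          · exact hy1 ▸ one_mem _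
          · by_cases hya : a = y
            · exact hya ▸ mem_zpowers a
            · exact absurd (hno a ha y hy hya ha1) hy1
        have := Nat.le_of_dvd Nat.card_pos (card_dvd_of_le hle)
        rw [Nat.card_zpowers, orderOf_eq_prime (hE.2 a ha) ha1] at this
        omega
    have hU := CfsgLib.Invol.isKleinFour_closure_pair (orderOf_eq_prime (hE.2 a ha) hab.2.1)
      (orderOf_eq_prime (hE.2 b hb) hab.2.2) hab.1 (CfsgLib.EABasic.comm_of_isElementaryAbelian hE ha hb)
    have hUE : Subgroup.closure {a, b} ≤ E := (closure_le _).2 (by rintro y (rfl | rfl) <;> assumption)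
    have h8 : 2 ^ 3 ≤ Nat.card E := by
      obtain ⟨k, hk⟩ := (CfsgLib.Invol.isPGroup_of_isElementaryAbelian hE).exists_card_eq
      rw [hk] at hE8 ⊢
      refine Nat.pow_le_pow_right (by norm_num) ?_
      by_contra hk3
      have := Nat.pow_le_pow_right (show 0 < 2 by norm_num) (by omega : k ≤ 2)
      omega
    have h := W_eq_of_le hFT hbal hU hE h8 hUE
    rw [W_const hFT hbal hS hU₀ hU hU₀S (hUE.trans hES), h.1]
    exact h.2
  obtain ⟨g, hg⟩ := CfsgLib.Invol.exists_conj_le_sylow (Q := zpowers t)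
    (IsPGroup.of_card (n := 1) (by rw [Nat.card_zpowers, ht, pow_one])) S
  have hkey : W U₀ = ⊥ → θ t = ⊥ := by
    intro hW
    obtain ⟨U, hU, htU, hUS⟩ := hfour _ (hg t (mem_zpowers t)) (CfsgLib.Invol.invol_conj ht g)
    have h := (theta_le_W htU (fun e => by
      have := CfsgLib.Invol.invol_conj ht g; rw [e, orderOf_one] at this; norm_num at this)).trans
      (le_of_eq ((W_const hFT hbal hS hU₀ hU hU₀S (hUS.trans inf_le_left)).symm.trans hW))
    rw [theta_conj, le_bot_iff] at h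
    exact (Subgroup.map_eq_bot_iff_of_injective _ (MulAut.conj g).injective).1 h
  apply hkey
  by_cases htop : M = ⊤
  · haveI : (W U₀).Normal := normalizer_eq_top_iff.1 (hM ▸ htop)
    exact le_bot_iff.1 (hO ▸ CfsgLib.Coprime.le_pPrimeCore_of_not_dvd Nat.prime_two hWodd)
  · have heven : Even (Nat.card M) := by
      rw [even_iff_two_dvd, ← hz]
      exact Subgroup.orderOf_dvd_natCard _ (hSM hzS)
    have hSEM : Cfsg.IsStronglyEmbedded M := by
      rw [CfsgLib.Invol.stronglyEmbedded_iff htop heven]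
      intro s hsM hs k hk
      have hconj : ∀ x ∈ M, orderOf x = 2 → ∃ m ∈ M, m * x * m⁻¹ ∈ (S : Subgroup G) := by
        intro x hxM hx
        obtain ⟨m, hm⟩ := CfsgLib.Invol.exists_conj_le_sylow (Q := zpowers (⟨x, hxM⟩ : M))
          (IsPGroup.of_card (n := 1) (by rw [Nat.card_zpowers, ← Subgroup.orderOf_coe, hx, pow_one]))
          (S.subtype hSM)
        refine ⟨m, m.2, ?_⟩
        exact hm _ (mem_zpowers _)
      obtain ⟨m, hmM, hms⟩ := hconj s hsM hs
      obtain ⟨n, hnM, hns⟩ := hconj _ hk (CfsgLib.Invol.invol_conj hs k)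
      obtain ⟨h, hh⟩ : ∃ h, h = n * k * m⁻¹ := ⟨_, rfl⟩
      have e : h * (m * s * m⁻¹) * h⁻¹ = n * (k * s * k⁻¹) * n⁻¹ := by rw [hh]; group
      obtain ⟨U, hU, -, hUS⟩ := hfour _ hms (CfsgLib.Invol.invol_conj hs m)
      have hUM : ∀ x ∈ U, h * x * h⁻¹ ∈ M := fun x hx => hCM _ hns
        (CfsgLib.Invol.invol_conj (CfsgLib.Invol.invol_conj hs k) n) (by
          rw [mem_centralizer_singleton_iff, ← e]
          have hxs := mem_centralizer_singleton_iff.1 (hUS hx).2
          show MulAut.conj h x * MulAut.conj h (m * s * m⁻¹) = MulAut.conj h (m * s * m⁻¹) * MulAut.conj h x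
          rw [← map_mul, hxs, map_mul])
      obtain ⟨r, hr⟩ := CfsgLib.Invol.exists_conj_le_sylow
        (Q := (U.map (MulAut.conj h).toMonoidHom).subgroupOf M)
        (((four_isPGroup hU).map _).comap_subtype) (S.subtype hSM)
      have hrh : (r : G) * h ∈ M := hM ▸ mem_normalizer_W hFT hbal S hS hU₀ hU₀S hU
        (hUS.trans inf_le_left) fun x hx => by
          have h1 : (r : G) * (h * x * h⁻¹) * (r : G)⁻¹ ∈ (S : Subgroup G) :=
            hr ⟨h * x * h⁻¹, hUM x hx⟩ ⟨x, hx, rfl⟩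
          simpa [mul_assoc] using h1
      have hhM : h ∈ M := by simpa using mul_mem (inv_mem r.2) hrh
      have := mul_mem (mul_mem (inv_mem hnM) hhM) hmM
      rwa [hh, show n⁻¹ * (n * k * m⁻¹) * m = k by group] at this
    have hWM : W U₀ ≤ M := hM ▸ le_normalizer
    haveI : ((W U₀).subgroupOf M).Normal := (normal_subgroupOf_iff_le_normalizer hWM).2 (hM ▸ le_rfl)
    have h1 : (W U₀).subgroupOf M ≤ Cfsg.oddCore ↥M :=
      CfsgLib.Coprime.le_pPrimeCore_of_not_dvd Nat.prime_two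
        (by rwa [Nat.card_congr (subgroupOfEquivOfLe hWM).toEquiv])
    have h2 := (map_mono h1).trans (hSE M hSEM)
    rw [map_subgroupOf_eq_of_le hWM, hO, le_bot_iff] at h2
    exact h2

end

/-- Groups not of component type are balanced. -/
theorem isBalanced_of_not_componentType (hc : ¬ Cfsg.IsComponentType G) : Cfsg.IsBalanced G :=
  Cfsg.Agent.S1297.result fun x hx K hK => absurd ⟨x, hx, K, hK.1, hK.2⟩ hc

/-- Groups not of component type with connected Sylow 2-subgroup and 2-rank at least 3 have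
characteristic 2 type, given the core theorem for strongly embedded subgroups. -/
theorem isCharacteristicTwoType (hFT : CfsgLib.OddConseq.OddSolvable.{u})
    (hSE : ∀ H : Subgroup G, Cfsg.IsStronglyEmbedded H →
      (Cfsg.oddCore ↥H).map H.subtype ≤ Cfsg.oddCore G)
    (hrank : ¬ Cfsg.PRankLE 2 2 G) (hO : Cfsg.oddCore G = ⊥) (hc : ¬ Cfsg.IsComponentType G)
    (S : Sylow 2 G) (hS : Cfsg.IsFourConnected ↥(S : Subgroup G)) :
    Cfsg.IsCharacteristicTwoType G := by
  haveI : Fact (Nat.Prime 2) := ⟨Nat.prime_two⟩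
  have hcore := theta_eq_bot hFT (isBalanced_of_not_componentType hc) hSE hrank hO hc S hS
  have hclean : ∀ t : G, orderOf t = 2 →
      CfsgLib.Invol.PClean 2 ↥(centralizer ({t} : Set G)) := by
    intro t ht
    have hbot : Cfsg.oddCore ↥(centralizer ({t} : Set G)) = ⊥ :=
      (Subgroup.map_eq_bot_iff_of_injective _ (subtype_injective _)).1 (hcore t ht)
    refine CfsgLib.Invol.pClean_of_centralizer_le (CfsgLib.CoreUnique.centralizer_pCore_le ?_ hbot)
    rintro ⟨K, hK, hKq⟩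
    obtain ⟨e, -⟩ : ∃ e : ↥(centralizer ({t} : Set G)) ≃*
        ↥(centralizer ({t} : Set G)) ⧸ Cfsg.oddCore ↥(centralizer ({t} : Set G)), True :=
      ⟨(QuotientGroup.quotientBot.symm.trans
        (QuotientGroup.quotientMulEquivOfEq hbot.symm)), trivial⟩
    refine hc ⟨t, ht, K.map e.toMonoidHom, ?_, ?_⟩
    · exact hK.map e.surjective
    · haveI := CfsgLib.Coprime.nontrivial_of_isQuasisimple hKq
      haveI : Nontrivial ↥(K.map e.toMonoidHom) :=
        (K.equivMapOfInjective e.toMonoidHom e.injective).symm.toEquiv.nontrivial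
      exact CfsgLib.Invol.BLayer.isQuasisimple_of_surjective hKq
        (f := (K.equivMapOfInjective e.toMonoidHom e.injective).toMonoidHom) (MulEquiv.surjective _)
  refine ⟨?_, fun T hT hT1 => ?_⟩
  · unfold Cfsg.PRankLE at hrank
    push Not at hrank
    obtain ⟨A, hA, hA2, hcard⟩ := hrank
    obtain ⟨k, hk⟩ := (CfsgLib.Invol.isPGroup_of_isElementaryAbelian (⟨hA, hA2⟩ :
      Cfsg.IsElementaryAbelian 2 A)).exists_card_eq
    have hk0 : k ≠ 0 := fun h => by rw [hk, h] at hcard; norm_num at hcard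
    exact even_iff_two_dvd.2 ((hk ▸ dvd_pow_self 2 hk0 : 2 ∣ Nat.card A).trans (card_subgroup_dvd_card A))
  · obtain ⟨k, hk⟩ := IsPGroup.iff_card.1 hT
    have hk0 : k ≠ 0 := fun h => hT1 (Subgroup.eq_bot_of_card_eq T (by rw [hk, h, pow_zero]))
    obtain ⟨z, hz⟩ := exists_prime_orderOf_dvd_card' 2 (hk ▸ dvd_pow_self 2 hk0 : 2 ∣ Nat.card T)
    rw [← Subgroup.orderOf_coe] at hz
    exact (CfsgLib.CharPLoc.pClean_normalizer_of_central hT z.2 (hclean _ hz)).centralizer_le

end CfsgLib.TwoGenCore
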