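import Cfsg.Agent.Lib.OddConseq.CentralFusion
import Cfsg.Agent.Lib.OddConseq.Basic
import Mathlib.GroupTheory.SemidirectProduct

/-!
# Two applications of central fusion

* `commutator_solvable_odd`: a 2-group with a central commutator sharing its centralizer.
* `centralizer_sylow_two`: automorphisms fixing a Sylow 2-subgroup pointwise.
-/

set_option autoImplicit false
set_option linter.style.haveILetI false
set_option linter.unusedSectionVars false

open Subgroup

namespace CfsgLib.OddConseq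

universe u

variable {G : Type u} [Group G] [Finite G]

theorem le_centralizer_of_shared {P Q : Subgroup G} (hP : IsPGroup 2 P) (hQ : IsPGroup 2 Q)
    (hQP : Q ≤ normalizer (P : Set G)) {t : G} (htQ : t ∈ Q) (htc : t ∈ centralizer (Q : Set G))
    (ht : t ∈ ⁅Q, Q⁆) (hC : P ⊓ centralizer (Q : Set G) = P ⊓ centralizer ({t} : Set G)) :
    P ≤ centralizer (Q : Set G) := by
  haveI : Fact (Nat.Prime 2) := ⟨Nat.prime_two⟩
  set C := P ⊓ centralizer (Q : Set G) with hCd
  by_contra hne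
  have hPC : ¬ P ≤ C := fun h => hne (h.trans inf_le_right)
  have hmemC : ∀ c, c ∈ P → c * t = t * c → c ∈ C := fun c hc h => by
    rw [hC]; exact mem_inf.2 ⟨hc, mem_centralizer_singleton_iff.2 h⟩
  have hCt : ∀ c ∈ C, c * t = t * c := fun c hc => (mem_centralizer_iff.1 hc.2 t htQ).symm
  set W := C ⊔ zpowers t with hW
  set V := P ⊔ zpowers t with hV
  have ht2 : ∃ k, t ^ 2 ^ k = 1 := by
    obtain ⟨k, hk⟩ := hQ ⟨t, htQ⟩
    exact ⟨k, congrArg Subtype.val hk⟩
  have htC : zpowers t ≤ normalizer (C : Set G) := zpowers_le.2 (mem_normalizer_fintype fun c hc => by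
    rw [← hCt c hc, mul_inv_cancel_right]; exact hc)
  have htP : zpowers t ≤ normalizer (P : Set G) := zpowers_le.2 (hQP htQ)
  have hWP : ∀ w ∈ W, w ∈ P → w ∈ C := by
    intro w hw hwP
    rw [hW, ← SetLike.mem_coe, coe_mul_of_right_le_normalizer_left _ _ htC] at hw
    obtain ⟨c, hc, _, ⟨i, rfl⟩, rfl⟩ := hw
    exact mul_mem hc (hmemC _ ((mul_mem_cancel_left (mem_inf.1 hc).1).1 hwP) (Commute.zpow_self t i).eq)
  have hV2 : IsPGroup 2 V := by
    rw [hV, sup_comm]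
    exact (isPGroup_zpowers ht2).to_sup_of_normal_right' hP htP
  have hVW : ¬ V ≤ W := fun h => hPC fun w hw => hWP w (h (mem_sup_left hw)) hw
  obtain ⟨v, hvV, hvW, hv⟩ := CfsgLib.Invol.exists_mem_normalizer_notMem hV2
    (sup_le_sup_right inf_le_left _) hVW
  rw [hV, ← SetLike.mem_coe, coe_mul_of_right_le_normalizer_left _ _ htP] at hvV
  obtain ⟨x, hx, _, ⟨i, rfl⟩, rfl⟩ := hvV
  have hti : t ^ i ∈ W := mem_sup_right (zpow_mem (mem_zpowers t) i)
  have hxW : x ∈ normalizer (W : Set G) := by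
    have := mul_mem hvW (inv_mem (le_normalizer hti))
    rwa [mul_inv_cancel_right] at this
  have hxC : x ∉ C := fun h => hv (mul_mem (mem_sup_left h) hti)
  have hxn : ∀ k ∈ C, x⁻¹ * k * x ∈ C := fun k hk => hWP _
    ((mem_normalizer_iff''.1 hxW k).1 (mem_sup_left hk))
    (mul_mem (mul_mem (inv_mem hx) hk.1) hx)
  obtain ⟨k, hk, hkx⟩ : ∃ k ∈ C, t * x * t⁻¹ = k * x := by
    refine ⟨t * x * t⁻¹ * x⁻¹, hWP _ ?_ ?_, by group⟩
    · rw [show t * x * t⁻¹ * x⁻¹ = t * (x * t⁻¹ * x⁻¹) by group]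
      exact mul_mem (mem_sup_right (mem_zpowers t)) ((mem_normalizer_iff.1 hxW _).1
        (inv_mem (mem_sup_right (mem_zpowers t))))
    · exact mul_mem ((mem_normalizer_iff.1 (hQP htQ) x).1 hx) (inv_mem hx)
  have hfix : ∀ q ∈ Q, ∀ c ∈ C, q * c * q⁻¹ = c := fun q hq c hc => by
    rw [mem_centralizer_iff.1 hc.2 q hq, mul_inv_cancel_right]
  have hcP : ∀ q ∈ Q, q * x * q⁻¹ * x⁻¹ ∈ P := fun q hq =>
    mul_mem ((mem_normalizer_iff.1 (hQP hq) x).1 hx) (inv_mem hx)
  have hcc : ∀ q ∈ Q, ∀ c ∈ C, (q * x * q⁻¹ * x⁻¹) * c = c * (q * x * q⁻¹ * x⁻¹) := by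
    intro q hq c hc
    refine mul_inv_eq_iff_eq_mul.1 ?_
    calc q * x * q⁻¹ * x⁻¹ * c * (q * x * q⁻¹ * x⁻¹)⁻¹
        = q * x * (q⁻¹ * (x⁻¹ * c * x) * q⁻¹⁻¹) * (q * x)⁻¹ := by group
      _ = q * x * (x⁻¹ * c * x) * (q * x)⁻¹ := by rw [hfix _ (inv_mem hq) _ (hxn c hc)]
      _ = q * c * q⁻¹ := by group
      _ = c := hfix q hq c hc
  have hcC : ∀ q ∈ Q, q * x * q⁻¹ * x⁻¹ ∈ C := by
    intro q hq
    refine hmemC _ (hcP q hq) (Eq.symm ?_)
    refine mul_inv_eq_iff_eq_mul.1 ?_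
    have htq : q * t = t * q := mem_centralizer_iff.1 htc q hq
    have htq' : q⁻¹ * t⁻¹ = t⁻¹ * q⁻¹ := by rw [← mul_inv_rev, ← mul_inv_rev, htq]
    calc t * (q * x * q⁻¹ * x⁻¹) * t⁻¹
        = (t * q) * x * q⁻¹ * x⁻¹ * t⁻¹ := by group
      _ = q * (t * x * t⁻¹) * (t * q⁻¹ * t⁻¹) * (t * x * t⁻¹)⁻¹ := by rw [← htq]; group
      _ = q * (k * x) * (t * (t⁻¹ * q⁻¹)) * (k * x)⁻¹ := by rw [hkx, mul_assoc t, htq']
      _ = (q * k * q⁻¹) * (q * x * q⁻¹ * x⁻¹) * k⁻¹ := by group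
      _ = q * x * q⁻¹ * x⁻¹ := by
        rw [hfix q hq k hk, ← hcc q hq k hk, mul_inv_cancel_right]
  have hmul : ∀ a b : Q, ((a * b : Q) : G) * x * ((a * b : Q) : G)⁻¹ * x⁻¹ =
      ((a : G) * x * (a : G)⁻¹ * x⁻¹) * ((b : G) * x * (b : G)⁻¹ * x⁻¹) := by
    intro a b
    rw [hcc _ a.2 _ (hcC _ b.2)]
    calc ((a * b : Q) : G) * x * ((a * b : Q) : G)⁻¹ * x⁻¹
        = (a : G) * ((b : G) * x * (b : G)⁻¹ * x⁻¹) * (a : G)⁻¹ *
          ((a : G) * x * (a : G)⁻¹ * x⁻¹) := by push_cast; group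
      _ = _ := by rw [hfix _ a.2 _ (hcC _ b.2)]
  let f : Q →* G := MonoidHom.mk' (fun a => (a : G) * x * (a : G)⁻¹ * x⁻¹) hmul
  have hker : ⁅Q, Q⁆ ≤ f.ker.map Q.subtype := commutator_le.2 fun a ha b hb => by
    refine ⟨⟨a, ha⟩ * ⟨b, hb⟩ * ⟨a, ha⟩⁻¹ * ⟨b, hb⟩⁻¹, ?_, rfl⟩
    show f _ = 1
    rw [map_mul, map_mul, map_mul, map_inv, map_inv,
      show f ⟨a, ha⟩ * f ⟨b, hb⟩ = f ⟨b, hb⟩ * f ⟨a, ha⟩ from hcc a ha _ (hcC b hb),
      mul_inv_cancel_right, mul_inv_cancel]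
  obtain ⟨s, hs, hst⟩ := hker ht
  have h1 : t * x * t⁻¹ * x⁻¹ = 1 := by
    rw [← hst]; exact hs
  rw [mul_inv_eq_one, mul_inv_eq_iff_eq_mul] at h1
  exact hxC (hmemC x hx h1.symm)

theorem commutator_solvable_odd (hFT : OddSolvable.{u}) {N Q : Subgroup G} [N.Normal]
    (hQ : IsPGroup 2 Q) {t : G} (htQ : t ∈ Q) (htc : t ∈ centralizer (Q : Set G))
    (ht : t ∈ ⁅Q, Q⁆)
    (hC : N ⊓ centralizer (Q : Set G) = N ⊓ centralizer ({t} : Set G)) :
    Group.IsSolvable (⁅N, Q⁆ : Subgroup G) ∧ Odd (Nat.card (⁅N, Q⁆ : Subgroup G)) := by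
  haveI : Fact (Nat.Prime 2) := ⟨Nat.prime_two⟩
  obtain ⟨S, hQS⟩ := hQ.exists_le_sylow
  set P := (S : Subgroup G) ⊓ N
  have hi : ¬ 2 ∣ P.relIndex N := CfsgLib.Fusion.Goldschmidt.not_dvd_relIndex_inf S
    (by rw [inf_top_eq, relIndex_top_right]; exact S.not_dvd_index) le_top
    ((normalizer_eq_top N).ge.trans' le_top)
  have hP : IsPGroup 2 P := S.2.to_le inf_le_left
  have hQP : Q ≤ normalizer (P : Set G) := fun q hq => mem_normalizer_fintype fun p hp =>
    mem_inf.2 ⟨mul_mem (mul_mem (hQS hq) hp.1) (inv_mem (hQS hq)), ‹N.Normal›.conj_mem p hp.2 q⟩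
  have hPQ : P ≤ centralizer (Q : Set G) := le_centralizer_of_shared hP hQ hQP htQ htc ht (by
    rw [show P = (S : Subgroup G) ⊓ N from rfl, inf_assoc, hC, inf_assoc])
  have hQc : Q ≤ centralizer (P : Set G) := le_centralizer_iff.1 hPQ
  have hkt := commutator_le_kerSub (N := N) (inf_le_right : P ≤ N) hP hQc ht
  have ht2 : ∃ k, t ^ 2 ^ k = 1 := by
    obtain ⟨k, hk⟩ := hQ ⟨t, htQ⟩
    exact ⟨k, congrArg Subtype.val hk⟩
  set O := (Cfsg.pPrimeCore 2 N).map N.subtype with hO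
  haveI hOn : O.Normal := by
    rw [hO, CfsgLib.Coprime.pPrimeCore_map_subtype_eq Nat.prime_two]; infer_instance
  have hOodd : Odd (Nat.card O) := by
    rw [hO, card_map_of_injective N.subtype_injective]
    exact Nat.coprime_two_right.1 (CfsgLib.Coprime.pPrimeCore_coprime Nat.prime_two)
  have hle : (⁅N, Q⁆ : Subgroup G) ≤ O := by
    refine commutator_le.2 fun n hn q hq => ?_
    set M := O ⊔ zpowers t with hM
    have htn : n * t * n⁻¹ ∈ M := by
      have := core_of_inKer inf_le_right hP hi hkt.1 ht2 hkt.2 hn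
      have h2 := mul_mem (inv_mem (mem_sup_left (T := zpowers t) this))
        (mem_sup_right (mem_zpowers t))
      simpa [mul_assoc] using h2
    have hiM : ¬ 2 ∣ (zpowers t).relIndex M := by
      rw [hM]
      intro h
      refine Nat.not_even_iff_odd.2 hOodd (even_iff_two_dvd.2 (h.trans ?_))
      have h1 : Nat.card (zpowers t) * (zpowers t).relIndex (O ⊔ zpowers t) =
          Nat.card (O ⊔ zpowers t : Subgroup G) := by
        rw [← Nat.card_congr (subgroupOfEquivOfLe (le_sup_right : zpowers t ≤ O ⊔ zpowers t)).toEquiv]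
        exact card_mul_index _
      refine (Nat.mul_dvd_mul_iff_left (Nat.card_pos (α := zpowers t))).1 ?_
      rw [h1, sup_comm]
      exact CfsgLib.Coprime.card_sup_dvd_of_normal _ _
    obtain ⟨y, hy, hyt⟩ := exists_conj_mem le_sup_right (isPGroup_zpowers ht2) hiM htn
      (ht2.imp fun k hk => by rw [conj_pow, hk, mul_one, mul_inv_cancel])
    obtain ⟨_, ⟨i, rfl⟩, o, ho, rfl⟩ := mem_sup_of_normal_right.1 (sup_comm O (zpowers t) ▸ hy)
    obtain ⟨j, hj⟩ := hyt
    simp only at hj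
    have hw : o * (n * t * n⁻¹) * o⁻¹ = t ^ j := by
      calc o * (n * t * n⁻¹) * o⁻¹
          = (t ^ i)⁻¹ * (t ^ i * o * (n * t * n⁻¹) * (t ^ i * o)⁻¹) * t ^ i := by group
        _ = (t ^ i)⁻¹ * t ^ j * t ^ i := by rw [hj]
        _ = t ^ j := by group
    have hjt : t ^ j = t := by
      have h3 : t ^ j * t⁻¹ ∈ O := by
        rw [← hw, show o * (n * t * n⁻¹) * o⁻¹ * t⁻¹ =
          o * (t * n * t⁻¹ * n⁻¹)⁻¹ * (t * o⁻¹ * t⁻¹) by group]
        exact mul_mem (mul_mem ho (inv_mem (core_of_inKer inf_le_right hP hi hkt.1 ht2 hkt.2 hn)))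
          (hOn.conj_mem _ (inv_mem ho) t)
      obtain ⟨k, hk⟩ := ht2
      have h4 : (t ^ j * t⁻¹) ^ 2 ^ k = 1 := by
        rw [← zpow_neg_one, ← zpow_add, ← zpow_natCast, zpow_comm, zpow_natCast, hk, one_zpow]
      exact mul_inv_eq_one.1 (CfsgLib.Invol.eq_one_of_odd_of_pow_two
        (Odd.of_dvd_nat hOodd (orderOf_mk _ h3 ▸ orderOf_dvd_natCard (⟨_, h3⟩ : O))) h4)
    rw [hjt] at hw
    have hon : o * n ∈ N ⊓ centralizer (Q : Set G) := by
      rw [hC]
      refine mem_inf.2 ⟨mul_mem (map_subtype_le _ ho) hn, mem_centralizer_singleton_iff.2 ?_⟩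
      calc o * n * t = o * (n * t * n⁻¹) * o⁻¹ * (o * n) := by group
        _ = t * (o * n) := by rw [hw]
    have hqn : q * (o * n) = o * n * q := mem_centralizer_iff.1 hon.2 q hq
    rw [commutatorElement_def, show n * q * n⁻¹ * q⁻¹ = o⁻¹ * (o * n * q * (o * n)⁻¹) * o * q⁻¹ by
      group, ← hqn, mul_inv_cancel_right, show o⁻¹ * q * o * q⁻¹ = o⁻¹ * (q * o * q⁻¹) by group]
    exact mul_mem (inv_mem ho) (hOn.conj_mem o ho q)
  have hodd : Odd (Nat.card (⁅N, Q⁆ : Subgroup G)) := Odd.of_dvd_nat hOodd (card_dvd_of_le hle)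
  exact ⟨hFT.subgroup hodd, hodd⟩

/-- Automorphisms fixing a Sylow 2-subgroup of a core-free group. -/
theorem centralizer_sylow_two (hFT : OddSolvable.{u})
    (hO : ∀ N : Subgroup G, N.Normal → Odd (Nat.card N) → N = ⊥) (S : Sylow 2 G)
    (C : Subgroup (MulAut G)) (hC : ∀ φ : MulAut G, φ ∈ C ↔ ∀ s : G, s ∈ S → φ s = s) :
    (∀ T : Sylow 2 C, (∀ a b : T, a * b = b * a) ∧
      ∃ N : Subgroup C, N.Normal ∧ Subgroup.IsComplement' N (T : Subgroup C)) ∧
      Group.IsSolvable C := by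
  haveI : Fact (Nat.Prime 2) := ⟨Nat.prime_two⟩
  haveI : Finite (G ⋊[C.subtype] C) := Finite.of_equiv _ SemidirectProduct.equivProd.symm
  set ι : G →* G ⋊[C.subtype] C := SemidirectProduct.inl
  have hι : Function.Injective ι := SemidirectProduct.inl_injective
  haveI hN : ι.range.Normal := by
    rw [SemidirectProduct.range_inl_eq_ker_rightHom]; infer_instance
  set N := ι.range with hNdef
  set P := (S : Subgroup G).map ι with hPdef
  have hPN : P ≤ N := map_le_range _ _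
  have hP : IsPGroup 2 P := S.2.map ι
  have hi : ¬ 2 ∣ P.relIndex N := by
    rw [hNdef, MonoidHom.range_eq_map, hPdef, relIndex_map_map_of_injective _ _ hι,
      relIndex_top_right]
    exact S.not_dvd_index
  have hA : ∀ c : C, (SemidirectProduct.inr c : G ⋊[C.subtype] C) ∈ centralizer (P : Set _) := by
    intro c
    refine mem_centralizer_iff.2 ?_
    rintro _ ⟨s, hs, rfl⟩
    have h1 := SemidirectProduct.inl_aut (φ := C.subtype) c s
    rw [show C.subtype c s = s from (hC c).1 c.2 s hs] at h1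
    rw [map_inv] at h1
    exact eq_mul_inv_iff_mul_eq.1 h1
  set K : Subgroup C := (kerSub N P hPN hP).comap SemidirectProduct.inr with hK
  have hcomm : ∀ a b : C, a * b * a⁻¹ * b⁻¹ ∈ K := fun a b => by
    rw [hK, mem_comap, map_mul, map_mul, map_mul, map_inv, map_inv]
    exact commutator_le_kerSub hPN hP (A := centralizer (P : Set _)) le_rfl
      (commutator_mem_commutator (hA a) (hA b))
  haveI hKn : K.Normal := ⟨fun w hw r => by
    have := mul_mem (hcomm r w) hw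
    rwa [inv_mul_cancel_right] at this⟩
  have hpow : ∀ a : C, a ^ Nat.card P ∈ K := fun a => by
    rw [hK, mem_comap, map_pow]
    exact pow_card_mem_kerSub hPN hP (hA a)
  have hKodd : Odd (Nat.card K) := by
    by_contra hev
    obtain ⟨⟨a, ha⟩, ha2⟩ := exists_prime_orderOf_dvd_card' (G := K) 2
      (even_iff_two_dvd.1 (Nat.not_odd_iff_even.1 hev))
    rw [orderOf_mk] at ha2
    have h2 : ∃ k, (SemidirectProduct.inr a : G ⋊[C.subtype] C) ^ 2 ^ k = 1 :=
      ⟨1, by rw [← map_pow, pow_one, ← ha2, pow_orderOf_eq_one, map_one]⟩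
    have hbot : (Cfsg.pPrimeCore 2 N).map N.subtype = ⊥ := by
      set L := (Cfsg.pPrimeCore 2 N).map N.subtype with hL
      haveI : L.Normal := by
        rw [hL, CfsgLib.Coprime.pPrimeCore_map_subtype_eq Nat.prime_two]; infer_instance
      have hLc : L.comap ι = ⊥ := hO _ inferInstance (Odd.of_dvd_nat (n := Nat.card L) (by
        rw [hL, card_map_of_injective N.subtype_injective]
        exact Nat.coprime_two_right.1 (CfsgLib.Coprime.pPrimeCore_coprime Nat.prime_two))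
        (by rw [← card_map_of_injective hι]; exact card_dvd_of_le (map_comap_le _ _)))
      exact (map_comap_eq_self (show L ≤ ι.range from map_subtype_le _)).symm.trans
        (by rw [hLc, Subgroup.map_bot])
    have hone : (a : MulAut G) = 1 := by
      refine MulEquiv.ext fun g => ?_
      have h := core_of_inKer hPN hP hi (hA a) h2 ha.2 (MonoidHom.mem_range.2 ⟨g, rfl⟩ : ι g ∈ N)
      rw [hbot, mem_bot, mul_inv_eq_one] at h
      rw [show ι g = SemidirectProduct.inl g from rfl, ← map_inv, ← SemidirectProduct.inl_aut] at h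
      exact hι h
    rw [show a = 1 from Subtype.ext hone, orderOf_one] at ha2
    exact absurd ha2 (by norm_num)
  have hKT : ∀ T : Sylow 2 C, ∀ w ∈ (T : Subgroup C), w ∈ K → w = 1 := fun T w hw hwK => by
    obtain ⟨k, hk⟩ := T.2 ⟨w, hw⟩
    exact CfsgLib.Invol.eq_one_of_odd_of_pow_two
      (Odd.of_dvd_nat hKodd (orderOf_mk w hwK ▸ orderOf_dvd_natCard (⟨w, hwK⟩ : K)))
      (congrArg Subtype.val hk)
  refine ⟨fun T => ⟨fun a b => Subtype.ext ?_, K, hKn,
    isComplement'_of_disjoint_and_mul_eq_univ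
      (disjoint_def.2 fun {w} hw hwT => hKT T w hwT hw) ?_⟩, ?_⟩
  · have := hKT T _ (mul_mem (mul_mem (mul_mem a.2 b.2) (inv_mem a.2)) (inv_mem b.2))
      (hcomm a b)
    rwa [mul_inv_eq_one, mul_inv_eq_iff_eq_mul] at this
  · obtain ⟨k, hk⟩ := IsPGroup.iff_card.1 hP
    have hQ : IsPGroup 2 (C ⧸ K) := fun q => ⟨k, by
      obtain ⟨q, rfl⟩ := QuotientGroup.mk'_surjective K q
      rw [← map_pow, ← hk]
      exact (QuotientGroup.eq_one_iff _).2 (hpow q)⟩
    obtain ⟨j, hj⟩ := IsPGroup.iff_card.1 hQ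
    have h2 : (K ⊔ (T : Subgroup C)).index = 1 := Nat.eq_one_of_dvd_coprimes
      (Nat.Coprime.pow_left j ((Nat.prime_two.coprime_iff_not_dvd).2 T.not_dvd_index))
      (hj ▸ index_eq_card K ▸ index_dvd_of_le le_sup_left) (index_dvd_of_le le_sup_right)
    rw [index_eq_one] at h2
    rw [← normal_mul, h2, coe_top]
  · haveI : Group.IsSolvable K := hFT.subgroup hKodd
    haveI : Group.IsSolvable (C ⧸ K) := isSolvable_of_comm fun x y => by
      obtain ⟨a, rfl⟩ := QuotientGroup.mk'_surjective K x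
      obtain ⟨b, rfl⟩ := QuotientGroup.mk'_surjective K y
      have := (QuotientGroup.eq_one_iff _).2 (hcomm a b)
      rw [← QuotientGroup.mk'_apply, map_mul, map_mul, map_mul, map_inv, map_inv, mul_inv_eq_one,
        mul_inv_eq_iff_eq_mul] at this
      exact this
    exact Group.isSolvable_of_ker_le_range K.subtype (QuotientGroup.mk' K) (by
      rw [QuotientGroup.ker_mk', range_subtype])

end CfsgLib.OddConseq
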