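import Cfsg.Prelude.Def_KGroupFacts
import Cfsg.Agent.Lib.OddConseq.CentralFusionApps

/-!
# Outer automorphisms of a simple group through a Sylow 2-subgroup

`sylowStab S` is the stabiliser of `S` in `MulAut G`, `sylowRestr S` its action on `S`.
By Sylow's theorem `sylowStab S` maps onto `Out G`, and the kernel of `sylowRestr S` is solvable,
so `Out G` is solvable as soon as the image of `sylowRestr S` is.
-/

set_option autoImplicit false
set_option linter.style.haveILetI false
set_option linter.unusedSectionVars false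

open Subgroup
open scoped Pointwise

namespace CfsgLib.OddConseq

universe u

variable {G : Type u} [Group G]

/-- The automorphisms of `G` mapping `S` onto itself. -/
def sylowStab (S : Subgroup G) : Subgroup (MulAut G) where
  carrier := {φ | ∀ x, φ x ∈ S ↔ x ∈ S}
  one_mem' := fun x => by simp
  mul_mem' := fun {φ ψ} hφ hψ x => by
    rw [MulAut.mul_apply]; exact (hφ (ψ x)).trans (hψ x)
  inv_mem' := fun {φ} hφ x => by
    have h := hφ (φ⁻¹ x)
    rw [MulAut.apply_inv_self] at h
    exact h.symm

theorem mem_sylowStab {S : Subgroup G} {φ : MulAut G} :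
    φ ∈ sylowStab S ↔ ∀ x, φ x ∈ S ↔ x ∈ S := Iff.rfl

/-- The restriction of the stabiliser of `S` to `S`. -/
def sylowRestr (S : Subgroup G) : sylowStab S →* MulAut S where
  toFun φ :=
    { toFun := fun x => ⟨(φ : MulAut G) x, (φ.2 x).2 x.2⟩
      invFun := fun x => ⟨((φ⁻¹ : sylowStab S) : MulAut G) x, ((φ⁻¹).2 x).2 x.2⟩
      left_inv := fun x => Subtype.ext (by simp)
      right_inv := fun x => Subtype.ext (by simp)
      map_mul' := fun x y => Subtype.ext (by simp) }
  map_one' := by
    apply MulEquiv.ext; intro x; apply Subtype.ext; simp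
  map_mul' φ ψ := by
    apply MulEquiv.ext; intro x; apply Subtype.ext; simp

theorem sylowRestr_apply (S : Subgroup G) (φ : sylowStab S) (x : S) :
    ((sylowRestr S φ x : S) : G) = (φ : MulAut G) x := rfl

/-- `Out G` is solvable if the automorphisms of `G` induce a solvable group on a nontrivial
Sylow 2-subgroup of the simple group `G`. -/
theorem out_solvable_of_range [Finite G] [IsSimpleGroup G] (hFT : OddSolvable.{u}) (S : Sylow 2 G)
    (hS : (S : Subgroup G) ≠ ⊥) (hR : Group.IsSolvable (sylowRestr (S : Subgroup G)).range) :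
    Group.IsSolvable (Cfsg.Out G) := by
  haveI : Fact (Nat.Prime 2) := ⟨Nat.prime_two⟩
  set M := sylowStab (S : Subgroup G) with hM
  have hO : ∀ N : Subgroup G, N.Normal → Odd (Nat.card N) → N = ⊥ := by
    intro N hN hodd
    rcases hN.eq_bot_or_eq_top with h | h
    · exact h
    · exfalso
      rw [h, Subgroup.card_top] at hodd
      apply hS
      rw [← Subgroup.card_eq_one]
      obtain ⟨k, hk⟩ := S.isPGroup'.exists_card_eq
      have hd : Nat.card (S : Subgroup G) ∣ Nat.card G := Subgroup.card_subgroup_dvd_card _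
      have h2 : Odd (Nat.card (S : Subgroup G)) := hodd.of_dvd_nat hd
      rw [hk] at h2 ⊢
      rcases k with _ | k
      · simp
      · exact absurd h2 (by rw [Nat.not_odd_iff_even, pow_succ]; exact Even.mul_left even_two _)
  let C : Subgroup (MulAut G) :=
    { carrier := {φ | ∀ s : G, s ∈ S → φ s = s}
      one_mem' := fun s _ => by simp
      mul_mem' := fun {φ ψ} hφ hψ s hs => by rw [MulAut.mul_apply, hψ s hs, hφ s hs]
      inv_mem' := fun {φ} hφ s hs => by
        conv_lhs => rw [← hφ s hs]
        rw [MulAut.inv_apply_self] }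
  have hC : Group.IsSolvable C := (centralizer_sylow_two hFT hO S C (fun φ => Iff.rfl)).2
  have hker : ∀ φ : M, φ ∈ (sylowRestr (S : Subgroup G)).ker → (φ : MulAut G) ∈ C := by
    intro φ hφ s hs
    have := congrArg (fun (β : MulAut (S : Subgroup G)) => ((β ⟨s, hs⟩ : (S : Subgroup G)) : G))
      (MonoidHom.mem_ker.1 hφ)
    exact this
  haveI := hC
  haveI hk : Group.IsSolvable (sylowRestr (S : Subgroup G)).ker :=
    Group.isSolvable_of_isSolvable_injective
      (f := { toFun := fun φ => (⟨((φ : M) : MulAut G), hker φ φ.2⟩ : C)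
              map_one' := rfl
              map_mul' := fun _ _ => rfl })
      (fun a b h => Subtype.ext (Subtype.ext (congrArg (fun c : C => (c : MulAut G)) h)))
  haveI := hR
  haveI hMsol : Group.IsSolvable M :=
    Group.isSolvable_of_ker_le_range (sylowRestr (S : Subgroup G)).ker.subtype
      (sylowRestr (S : Subgroup G)).rangeRestrict
      (by rw [MonoidHom.ker_rangeRestrict, Subgroup.range_subtype])
  have hsurj : Function.Surjective ((QuotientGroup.mk' (Cfsg.Inn G)).comp M.subtype) := by
    intro q
    obtain ⟨φ, rfl⟩ := QuotientGroup.mk'_surjective (Cfsg.Inn G) q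
    have hp : IsPGroup 2 ((S : Subgroup G).map φ.toMonoidHom) := S.isPGroup'.map _
    obtain ⟨P, hP⟩ := hp.exists_le_sylow
    have hPeq : (P : Subgroup G) = (S : Subgroup G).map φ.toMonoidHom := by
      refine (Subgroup.eq_of_le_of_card_ge hP ?_).symm
      rw [Sylow.card_eq_multiplicity, Nat.card_congr
        (Subgroup.equivMapOfInjective _ _ φ.injective).toEquiv.symm, Sylow.card_eq_multiplicity]
    obtain ⟨g, hg⟩ := MulAction.exists_smul_eq G P S
    have h1 : (S : Subgroup G) = MulAut.conj g • (P : Subgroup G) := by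
      rw [← hg]; rfl
    have hmem : ∀ x, MulAut.conj g (φ x) ∈ (S : Subgroup G) ↔ x ∈ (S : Subgroup G) := by
      intro x
      conv_lhs =>
        rw [h1, Subgroup.mem_pointwise_smul_iff_inv_smul_mem, MulAut.smul_def,
          MulAut.inv_apply_self, hPeq]
      exact ⟨fun ⟨y, hy, he⟩ => φ.injective he ▸ hy, fun h => ⟨x, h, rfl⟩⟩
    refine ⟨⟨MulAut.conj g * φ, fun x => by rw [MulAut.mul_apply]; exact hmem x⟩, ?_⟩
    show (QuotientGroup.mk' (Cfsg.Inn G)) (MulAut.conj g * φ) = QuotientGroup.mk' (Cfsg.Inn G) φ
    rw [map_mul]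
    have : (QuotientGroup.mk' (Cfsg.Inn G)) (MulAut.conj g) = 1 :=
      (QuotientGroup.eq_one_iff _).2 ⟨g, rfl⟩
    rw [this, one_mul]
  exact Group.isSolvable_of_surjective hsurj

/-- `Out G` is solvable if `Aut S` is. -/
theorem out_solvable_of_aut [Finite G] [IsSimpleGroup G] (hFT : OddSolvable.{u}) (S : Sylow 2 G)
    (hS : (S : Subgroup G) ≠ ⊥) (hA : Group.IsSolvable (MulAut (S : Subgroup G))) :
    Group.IsSolvable (Cfsg.Out G) :=
  haveI := hA
  out_solvable_of_range hFT S hS inferInstance

end CfsgLib.OddConseq
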