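import Cfsg.Agent.Lib.Fusion.AlperinGoldschmidt
import Cfsg.Agent.Lib.Invol.ZStar
import Cfsg.Agent.Lib.Invol.NormalizerCriterion

/-!
# Elements centralizing a Sylow 2-subgroup of a normal subgroup

`N` normal, `P` a Sylow 2-subgroup of `N`. For `a` centralizing `P` and an admissible pair
`(Q, n)` the odd part of the commutator `[a, n]` gives a homomorphism into an abelian 2-group
(`exists_phi`). A 2-element in all the kernels (`InKer`) satisfies `[N, a] ≤ O(N)`.
-/

set_option autoImplicit false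
set_option linter.style.haveILetI false
set_option linter.unusedSectionVars false

open Subgroup
open CfsgLib.Coprime (conjBy)

namespace CfsgLib.OddConseq

universe u

variable {X : Type u} [Group X] [Finite X]

/-- An admissible pair. -/
def Adm (N P Q : Subgroup X) (n : X) : Prop :=
  Q ≤ P ∧ n ∈ N ∧ n ∈ normalizer (Q : Set X) ∧ P ⊓ centralizer (Q : Set X) ≤ Q ∧
    ¬ 2 ∣ (P ⊓ centralizer (Q : Set X)).relIndex (N ⊓ centralizer (Q : Set X))

/-- All the odd parts vanish. -/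
def InKer (N P : Subgroup X) (a : X) : Prop :=
  ∀ (Q : Subgroup X) (n : X), Adm N P Q n → Odd (orderOf (a * n * a⁻¹ * n⁻¹))

theorem mul_pow_of_central {C Z : Subgroup X} (_hZC : Z ≤ C)
    (hc : ∀ z ∈ Z, ∀ c ∈ C, z * c = c * z) {x y : X} (hx : x ∈ C) (hy : y ∈ C) :
    (x * y) ^ Z.relIndex C = x ^ Z.relIndex C * y ^ Z.relIndex C ∧ x ^ Z.relIndex C ∈ Z := by
  haveI : FiniteIndex (Z.subgroupOf C) := inferInstance
  letI : CommGroup (Z.subgroupOf C) :=
    { (inferInstance : Group (Z.subgroupOf C)) with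
      mul_comm := fun a b => Subtype.ext (Subtype.ext (hc _ a.2 _ b.1.2)) }
  have key : ∀ g : C, ∀ (k : ℕ) (g₀ : C), g₀⁻¹ * g ^ k * g₀ ∈ Z.subgroupOf C →
      g₀⁻¹ * g ^ k * g₀ = g ^ k := by
    intro g k g₀ h
    have h1 : (g₀⁻¹ * g ^ k * g₀) * g₀⁻¹ = g₀⁻¹ * (g₀⁻¹ * g ^ k * g₀) :=
      Subtype.ext (hc _ h _ (g₀⁻¹).2)
    rw [mul_inv_cancel_right] at h1
    exact (mul_left_cancel h1).symm
  let f := MonoidHom.id (Z.subgroupOf C)
  have hf : ∀ g : C, MonoidHom.transfer f g =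
      f ⟨g ^ (Z.subgroupOf C).index, MonoidHom.transfer_eq_pow_aux g (key g)⟩ :=
    fun g => MonoidHom.transfer_eq_pow f g (key g)
  refine ⟨?_, mem_subgroupOf.1 (MonoidHom.transfer_eq_pow_aux (⟨x, hx⟩ : C) (key _))⟩
  have h := map_mul (MonoidHom.transfer f) ⟨x, hx⟩ ⟨y, hy⟩
  rw [hf, hf, hf] at h
  exact congrArg (fun w : Z.subgroupOf C => ((w : C) : X)) h

theorem odd_order_iff {C Z : Subgroup X} (hZC : Z ≤ C)
    (hc : ∀ z ∈ Z, ∀ c ∈ C, z * c = c * z) (hZ : IsPGroup 2 Z) (hi : ¬ 2 ∣ Z.relIndex C)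
    {x : X} (hx : x ∈ C) : Odd (orderOf x) ↔ x ^ Z.relIndex C = 1 := by
  refine ⟨fun h => ?_, fun h => Odd.of_dvd_nat ?_ (orderOf_dvd_of_pow_eq_one h)⟩
  · obtain ⟨k, hk⟩ := hZ ⟨_, (mul_pow_of_central hZC hc hx hx).2⟩
    exact CfsgLib.Invol.eq_one_of_odd_of_pow_two
      (Odd.of_dvd_nat h (orderOf_pow_dvd _)) (congrArg Subtype.val hk)
  · exact Nat.odd_iff.2 (Nat.two_dvd_ne_zero.1 hi)

theorem comm_mem {N Q : Subgroup X} [N.Normal] {a n : X} (ha : a ∈ centralizer (Q : Set X))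
    (hn : n ∈ N) (hnQ : n ∈ normalizer (Q : Set X)) :
    a * n * a⁻¹ * n⁻¹ ∈ N ⊓ centralizer (Q : Set X) := by
  refine mem_inf.2 ⟨mul_mem (‹N.Normal›.conj_mem n hn a) (inv_mem hn), mem_centralizer_iff.2 fun q hq => ?_⟩
  have h1 : q * a = a * q := mem_centralizer_iff.1 ha q hq
  have h2 : (n⁻¹ * q * n) * a⁻¹ = a⁻¹ * (n⁻¹ * q * n) :=
    mem_centralizer_iff.1 (Subgroup.inv_mem _ ha) _ ((mem_normalizer_iff''.1 hnQ q).1 hq)
  calc q * (a * n * a⁻¹ * n⁻¹) = (q * a) * n * a⁻¹ * n⁻¹ := by group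
    _ = a * n * ((n⁻¹ * q * n) * a⁻¹) * n⁻¹ := by rw [h1]; group
    _ = a * n * a⁻¹ * n⁻¹ * q := by rw [h2]; group

/-- The homomorphism attached to an admissible pair. -/
theorem exists_phi {N P Q : Subgroup X} [N.Normal] (hPN : P ≤ N) (hP : IsPGroup 2 P) {n : X}
    (h : Adm N P Q n) :
    ∃ f : centralizer (P : Set X) →* X, (∀ a, f a ∈ P) ∧ (∀ a b, f a * f b = f b * f a) ∧
      ∀ a, f a = 1 ↔ Odd (orderOf ((a : X) * n * (a : X)⁻¹ * n⁻¹)) := by
  obtain ⟨hQP, hn, hnQ, hPQ, hi⟩ := h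
  set Z := P ⊓ centralizer (Q : Set X)
  set C := N ⊓ centralizer (Q : Set X)
  have hZC : Z ≤ C := inf_le_inf_right _ hPN
  have hc : ∀ z ∈ Z, ∀ c ∈ C, z * c = c * z := fun z hz c hc =>
    mem_centralizer_iff.1 hc.2 z (hPQ hz)
  have hK : centralizer (P : Set X) ≤ centralizer (Q : Set X) := centralizer_le hQP
  have hmem : ∀ a ∈ centralizer (P : Set X), a * n * a⁻¹ * n⁻¹ ∈ C := fun a ha =>
    comm_mem (hK ha) hn hnQ
  let m := Z.relIndex C
  let F : centralizer (P : Set X) → X := fun a => ((a : X) * n * (a : X)⁻¹ * n⁻¹) ^ m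
  have hF : ∀ a, F a ∈ Z := fun a => (mul_pow_of_central hZC hc (hmem _ a.2) (hmem _ a.2)).2
  have hcomm : ∀ a b, F a * F b = F b * F a := fun a b =>
    mem_centralizer_iff.1 (hF b).2 _ (hPQ (hF a))
  have hmul : ∀ a b, F (a * b) = F a * F b := by
    intro a b
    have hca : (a : X) * ((b : X) * n * (b : X)⁻¹ * n⁻¹) * (a : X)⁻¹ ∈ C :=
      mem_inf.2 ⟨‹N.Normal›.conj_mem _ (hmem _ b.2).1 _,
        mul_mem (mul_mem (hK a.2) (hmem _ b.2).2) (inv_mem (hK a.2))⟩
    show ((a : X) * (b : X) * n * ((a : X) * (b : X))⁻¹ * n⁻¹) ^ m = _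
    rw [show (a : X) * (b : X) * n * ((a : X) * (b : X))⁻¹ * n⁻¹ =
        (a : X) * ((b : X) * n * (b : X)⁻¹ * n⁻¹) * (a : X)⁻¹ *
          ((a : X) * n * (a : X)⁻¹ * n⁻¹) by group,
      (mul_pow_of_central hZC hc hca (hmem _ a.2)).1, conj_pow]
    rw [show (a : X) * F b = F b * a from (mem_centralizer_iff.1 a.2 _ (hF b).1).symm,
      mul_inv_cancel_right]
    exact hcomm b a
  exact ⟨MonoidHom.mk' F hmul, fun a => (hF a).1, hcomm,
    fun a => (odd_order_iff hZC hc (hP.to_le inf_le_left) hi (hmem _ a.2)).symm⟩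

/-- The elements of `C(P)` with `InKer`. -/
def kerSub (N P : Subgroup X) [N.Normal] (hPN : P ≤ N) (hP : IsPGroup 2 P) : Subgroup X where
  carrier := {a | a ∈ centralizer (P : Set X) ∧ InKer N P a}
  one_mem' := ⟨one_mem _, fun Q n _ => by simp⟩
  mul_mem' := fun {a b} ha hb => ⟨mul_mem ha.1 hb.1, fun Q n h => by
    obtain ⟨f, -, -, hf⟩ := exists_phi hPN hP h
    refine (hf (⟨a, ha.1⟩ * ⟨b, hb.1⟩)).1 ?_
    rw [map_mul, (hf ⟨a, ha.1⟩).2 (ha.2 Q n h), (hf ⟨b, hb.1⟩).2 (hb.2 Q n h), mul_one]⟩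
  inv_mem' := fun {a} ha => ⟨inv_mem ha.1, fun Q n h => by
    obtain ⟨f, -, -, hf⟩ := exists_phi hPN hP h
    refine (hf (⟨a, ha.1⟩⁻¹)).1 ?_
    rw [map_inv, (hf ⟨a, ha.1⟩).2 (ha.2 Q n h), inv_one]⟩

theorem commutator_le_kerSub {N P A : Subgroup X} [N.Normal] (hPN : P ≤ N) (hP : IsPGroup 2 P)
    (hA : A ≤ centralizer (P : Set X)) : ⁅A, A⁆ ≤ kerSub N P hPN hP := by
  refine commutator_le.2 fun a ha b hb => ⟨?_, fun Q n h => ?_⟩
  · exact mul_mem (mul_mem (mul_mem (hA ha) (hA hb)) (inv_mem (hA ha))) (inv_mem (hA hb))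
  · obtain ⟨f, -, hcm, hf⟩ := exists_phi hPN hP h
    refine (hf ((⟨a, hA ha⟩ : centralizer (P : Set X)) * ⟨b, hA hb⟩ * ⟨a, hA ha⟩⁻¹ * ⟨b, hA hb⟩⁻¹)).1 ?_
    rw [map_mul, map_mul, map_mul, map_inv, map_inv, hcm, mul_inv_cancel_right, mul_inv_cancel]

theorem pow_card_mem_kerSub {N P : Subgroup X} [N.Normal] (hPN : P ≤ N) (hP : IsPGroup 2 P)
    {a : X} (ha : a ∈ centralizer (P : Set X)) : a ^ Nat.card P ∈ kerSub N P hPN hP := by
  refine ⟨pow_mem ha _, fun Q n h => ?_⟩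
  obtain ⟨f, hfP, -, hf⟩ := exists_phi hPN hP h
  refine (hf (⟨a, ha⟩ ^ Nat.card P)).1 ?_
  rw [map_pow]
  exact congrArg Subtype.val (pow_card_eq_one' (x := (⟨_, hfP ⟨a, ha⟩⟩ : P)))

theorem pgroup_le_of_odd_index {P R N : Subgroup X} (hPR : P ≤ R) (hRN : R ≤ N) (hR : IsPGroup 2 R)
    (hi : ¬ 2 ∣ P.relIndex N) : R ≤ P := by
  haveI : Fact (Nat.Prime 2) := ⟨Nat.prime_two⟩
  obtain ⟨k, hk⟩ := hR.index (P.subgroupOf R)
  rw [← relIndex_eq_one]
  rcases Nat.eq_zero_or_pos k with rfl | hk0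
  · exact hk.trans (pow_zero 2)
  · exact absurd ((dvd_pow_self 2 hk0.ne').trans (hk.symm ▸ Dvd.intro _
      (relIndex_mul_relIndex P R N hPR hRN) : 2 ^ k ∣ P.relIndex N)) hi

omit [Finite X] in
theorem isPGroup_zpowers {p : ℕ} {w : X} (hw : ∃ k, w ^ p ^ k = 1) : IsPGroup p (zpowers w) := by
  rintro ⟨_, i, rfl⟩
  obtain ⟨k, hk⟩ := hw
  refine ⟨k, Subtype.ext ?_⟩
  show (w ^ i) ^ p ^ k = 1
  rw [← zpow_natCast (w ^ i), zpow_comm, zpow_natCast, hk, one_zpow]

theorem exists_conj_mem {R M : Subgroup X} (hRM : R ≤ M) (hR : IsPGroup 2 R)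
    (hi : ¬ 2 ∣ R.relIndex M) {w : X} (hwM : w ∈ M) (hw : ∃ k, w ^ 2 ^ k = 1) :
    ∃ y ∈ M, y * w * y⁻¹ ∈ R := by
  haveI : Fact (Nat.Prime 2) := ⟨Nat.prime_two⟩
  let T : Sylow 2 M := (hR.of_equiv (subgroupOfEquivOfLe hRM).symm).toSylow hi
  have hW : IsPGroup 2 (zpowers (⟨w, hwM⟩ : M)) := isPGroup_zpowers
    (hw.imp fun k hk => Subtype.ext hk)
  obtain ⟨y, hy⟩ := CfsgLib.Invol.exists_conj_le_sylow hW T
  exact ⟨y, y.2, mem_subgroupOf.1 (hy _ (mem_zpowers _))⟩

theorem mem_of_mem_internal {Z E M : Subgroup X} (hE : IsPGroup 2 E) (hO : Odd (Nat.card Z))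
    (h : Cfsg.IsInternalDirectProduct Z E M) {x : X} (hx : x ∈ M) (hx2 : ∃ k, x ^ 2 ^ k = 1) :
    x ∈ E := by
  obtain ⟨hZM, hEM, hc, -, hsup⟩ := h
  have hn : Z ≤ normalizer (E : Set X) := (le_centralizer_iff.1 (fun e he =>
    mem_centralizer_iff.2 fun z hz => hc z hz e he)).trans (centralizer_le_normalizer _)
  rw [← hsup, ← SetLike.mem_coe, coe_mul_of_left_le_normalizer_right Z E hn] at hx
  obtain ⟨o, ho, e, he, rfl⟩ := hx
  obtain ⟨k, hk⟩ := hx2
  obtain ⟨j, hj⟩ := hE ⟨e, he⟩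
  have hcm : Commute o e := hc o ho e he
  have h1 : (o * e) ^ 2 ^ (k + j) = 1 := by rw [pow_add, pow_mul, hk, one_pow]
  have he1 : e ^ 2 ^ (k + j) = 1 := by
    rw [add_comm, pow_add, pow_mul, show e ^ 2 ^ j = 1 from congrArg Subtype.val hj, one_pow]
  rw [hcm.mul_pow, he1, mul_one] at h1
  rw [CfsgLib.Invol.eq_one_of_odd_of_pow_two
    (Odd.of_dvd_nat hO (orderOf_mk o ho ▸ orderOf_dvd_natCard (⟨o, ho⟩ : Z))) h1]
  show 1 * e ∈ E
  rw [one_mul]
  exact he

/-- The key step: a member of the conjugation family containing `a` is centralised at `a`. -/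
theorem commute_of_good {N P : Subgroup X} [N.Normal] (hPN : P ≤ N) (hP : IsPGroup 2 P)
    (hi : ¬ 2 ∣ P.relIndex N) {a : X} (ha : a ∈ centralizer (P : Set X))
    (ha2 : ∃ k, a ^ 2 ^ k = 1) (htop : N ⊔ zpowers a = ⊤) (hker : InKer N P a) (S : Sylow 2 X)
    (hS : (S : Subgroup X) ⊓ N = P) {E : Subgroup X} (hE : CfsgLib.Fusion.Goldschmidt.Good S E)
    (haE : a ∈ E) {x : X} (hx : x ∈ normalizer (E : Set X)) : x * a = a * x := by
  haveI : Fact (Nat.Prime 2) := ⟨Nat.prime_two⟩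
  obtain ⟨hES, hCE, hdir, hiE⟩ := hE
  have hE2 : IsPGroup 2 E := S.2.to_le hES
  set Q := E ⊓ N
  have hQP : Q ≤ P := hS ▸ inf_le_inf_right _ hES
  have haQ : a ∈ centralizer (Q : Set X) := centralizer_le hQP ha
  have hdec : ∀ y : X, ∃ m ∈ N, ∃ i : ℤ, m * a ^ i = y := by
    intro y
    obtain ⟨m, hm, _, ⟨i, rfl⟩, he⟩ := mem_sup_of_normal_left.1 (htop ▸ mem_top y)
    exact ⟨m, hm, i, he⟩
  have hEdec : ∀ e ∈ E, ∃ m ∈ Q, ∃ i : ℤ, m * a ^ i = e := fun e he => by
    obtain ⟨m, hm, i, rfl⟩ := hdec e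
    exact ⟨m, mem_inf.2 ⟨(mul_mem_cancel_right (zpow_mem haE i)).1 he, hm⟩, i, rfl⟩
  have hCQ : ∀ c ∈ centralizer (Q : Set X), c * a = a * c → c ∈ centralizer (E : Set X) := by
    intro c hc hca
    refine mem_centralizer_iff.2 fun e he => ?_
    obtain ⟨m, hm, i, rfl⟩ := hEdec e he
    exact (Commute.mul_left (mem_centralizer_iff.1 hc m hm) (Commute.zpow_left hca.symm i)).eq
  have hO : Odd (Nat.card (CfsgLib.Fusion.Goldschmidt.core' 2 E)) := by
    rw [card_map_of_injective (subtype_injective _)]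
    exact Nat.coprime_two_right.1 (CfsgLib.Coprime.pPrimeCore_coprime Nat.prime_two)
  set Z := P ⊓ centralizer (Q : Set X) with hZd
  have hZQ : Z ≤ Q := by
    intro p hp
    obtain ⟨k, hk⟩ := hP ⟨p, hp.1⟩
    exact mem_inf.2 ⟨mem_of_mem_internal hE2 hO hdir
      (hCE (hCQ p hp.2 (mem_centralizer_iff.1 ha p hp.1))) ⟨k, congrArg Subtype.val hk⟩, hPN hp.1⟩
  have hN : ∀ y ∈ normalizer (E : Set X), y ∈ normalizer (Q : Set X) := fun y hy =>
    mem_normalizer_iff.2 fun q => ⟨fun hq => mem_inf.2 ⟨(mem_normalizer_iff.1 hy q).1 hq.1,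
      ‹N.Normal›.conj_mem q hq.2 y⟩, fun hq => mem_inf.2 ⟨(mem_normalizer_iff.1 hy q).2 hq.1,
      (by simpa [mul_assoc] using ‹N.Normal›.conj_mem _ hq.2 y⁻¹)⟩⟩
  have hadm : ∀ n ∈ N, n ∈ normalizer (E : Set X) → Adm N P Q n := by
    refine fun n hn hnE => ⟨hQP, hn, hN n hnE, hZQ, fun hdvd => ?_⟩
    set C := N ⊓ centralizer (Q : Set X) with hCd
    have hZC : Z ≤ C := inf_le_inf_right _ hPN
    have haC : ∀ c ∈ C, a * c * a⁻¹ ∈ C := fun c hc =>
      mem_inf.2 ⟨‹N.Normal›.conj_mem c hc.1 a, mul_mem (mul_mem haQ hc.2) (inv_mem haQ)⟩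
    have haC' : zpowers a ≤ normalizer (C : Set X) := by
      rw [zpowers_le]
      exact mem_normalizer_fintype haC
    set D := C ⊔ zpowers a with hDd
    set R := Z ⊔ zpowers a with hRd
    have hRD : R ≤ D := sup_le_sup_right hZC _
    have hR : IsPGroup 2 R := (hP.to_le inf_le_left).to_sup_of_normal_right'
      (isPGroup_zpowers ha2) ((le_centralizer_iff.1 (zpowers_le.2
        (centralizer_le inf_le_left ha))).trans (centralizer_le_normalizer _))
    have hRE : R ≤ E := sup_le (hZQ.trans inf_le_left) (zpowers_le.2 haE)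
    obtain ⟨U, hRU⟩ := (hR.of_equiv (subgroupOfEquivOfLe hRD).symm).exists_le_sylow
    set V := (U : Subgroup D).map D.subtype with hVd
    have hV : IsPGroup 2 V := U.2.map _
    have hRV : R ≤ V := fun r hr => ⟨⟨r, hRD hr⟩, hRU (mem_subgroupOf.2 hr), rfl⟩
    have hVR : ¬ V ≤ R := by
      intro hle
      refine U.not_dvd_index (dvd_trans hdvd (?_ : Z.relIndex C ∣ (U : Subgroup D).index))
      have h1 : C.subgroupOf D ⊓ (U : Subgroup D) ≤ Z.subgroupOf D := by
        intro w hw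
        have hwR : (w : X) ∈ R := hle ⟨w, hw.2, rfl⟩
        rw [hRd, ← SetLike.mem_coe, coe_mul_of_right_le_normalizer_left _ _ ((zpowers_le.2
          (mem_normalizer_fintype fun z hz => (mem_centralizer_iff.1 ha z hz.1).symm ▸
            (by rw [mul_inv_cancel_right]; exact hz))))] at hwR
        obtain ⟨z, hz, _, ⟨i, rfl⟩, hzi⟩ := hwR
        change z * a ^ i = (w : X) at hzi
        have hiC : a ^ i ∈ C := (mul_mem_cancel_left (hZC hz)).1
          (hzi.symm ▸ mem_subgroupOf.1 hw.1)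
        have hcP : zpowers (a ^ i) ≤ centralizer (P : Set X) := zpowers_le.2 (zpow_mem ha i)
        have hiP : a ^ i ∈ P := pgroup_le_of_odd_index (R := P ⊔ zpowers (a ^ i)) le_sup_left
          (sup_le hPN (zpowers_le.2 hiC.1))
          (hP.to_sup_of_normal_right' (isPGroup_zpowers (by
            obtain ⟨k, hk⟩ := ha2
            exact ⟨k, by rw [← zpow_natCast (a ^ i), zpow_comm, zpow_natCast, hk, one_zpow]⟩))
            ((le_centralizer_iff.1 hcP).trans (centralizer_le_normalizer _)))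
          hi (mem_sup_right (mem_zpowers _))
        rw [mem_subgroupOf, ← hzi]
        exact mul_mem hz (mem_inf.2 ⟨hiP, hiC.2⟩)
      haveI : (C.subgroupOf D).Normal := (normal_subgroupOf_iff_le_normalizer le_sup_left).2
        (sup_le le_normalizer haC')
      have h2 := relIndex_mul_index (inf_le_left : C.subgroupOf D ⊓ (U : Subgroup D) ≤ _)
      rw [← relIndex_subgroupOf (le_sup_left : C ≤ D)]
      refine (relIndex_dvd_of_le_left _ h1).trans ?_
      rw [inf_relIndex_left]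
      obtain ⟨q, hq⟩ := relIndex_dvd_index_of_normal (C.subgroupOf D) (U : Subgroup D)
      have h4 := relIndex_mul_index (inf_le_right : C.subgroupOf D ⊓ (U : Subgroup D) ≤ _)
      rw [inf_relIndex_left] at h2
      rw [inf_relIndex_right, ← h2, hq, mul_left_comm] at h4
      exact Dvd.intro q (Nat.eq_of_mul_eq_mul_left (Nat.pos_of_ne_zero
        (by exact index_ne_zero_of_finite)) h4.symm)
    obtain ⟨u, huV, huR, hu⟩ := CfsgLib.Invol.exists_mem_normalizer_notMem hV hRV hVR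
    obtain ⟨u', hu'U, rfl⟩ := huV
    have huD : (u' : X) ∈ ((C ⊔ zpowers a : Subgroup X) : Set X) := u'.2
    rw [coe_mul_of_right_le_normalizer_left _ _ haC'] at huD
    obtain ⟨c, hc, _, ⟨i, rfl⟩, hci⟩ := huD
    change c * a ^ i = (u' : X) at hci
    have haiR : a ^ i ∈ R := mem_sup_right (zpow_mem (mem_zpowers a) i)
    have hcR : c ∈ normalizer (R : Set X) := by
      have := mul_mem huR (inv_mem (le_normalizer haiR))
      rwa [subtype_apply, ← hci, mul_inv_cancel_right] at this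
    have hcV : c ∈ V := by
      have := mul_mem (⟨u', hu'U, rfl⟩ : (u' : X) ∈ V) (inv_mem (hRV haiR))
      rwa [← hci, mul_inv_cancel_right] at this
    obtain ⟨k, hk⟩ := hV ⟨c, hcV⟩
    have hcE : c ∈ normalizer (E : Set X) := by
      refine mem_normalizer_fintype fun e he => ?_
      obtain ⟨m, hm, j, rfl⟩ := hEdec e he
      rw [show c * (m * a ^ j) * c⁻¹ = (c * m * c⁻¹) * (c * a ^ j * c⁻¹) by group,
        show c * m * c⁻¹ = m by rw [← mem_centralizer_iff.1 hc.2 m hm, mul_inv_cancel_right]]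
      exact mul_mem hm.1
        (hRE ((mem_normalizer_iff.1 hcR _).1 (mem_sup_right (zpow_mem (mem_zpowers a) j))))
    obtain ⟨y, hy, hyS⟩ := exists_conj_mem inf_le_right (S.2.to_le inf_le_left) hiE hcE
      ⟨k, congrArg Subtype.val hk⟩
    have hyP : y * c * y⁻¹ ∈ P := hS ▸ mem_inf.2 ⟨hyS.1, ‹N.Normal›.conj_mem c hc.1 y⟩
    have hyQ : y * c * y⁻¹ ∈ centralizer (Q : Set X) := by
      refine mem_centralizer_iff.2 fun q hq => ?_
      have h3 := mem_centralizer_iff.1 hc.2 _ ((mem_normalizer_iff''.1 (hN y hy) q).1 hq)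
      calc q * (y * c * y⁻¹) = y * ((y⁻¹ * q * y) * c) * y⁻¹ := by group
        _ = y * c * y⁻¹ * q := by rw [h3]; group
    have hcQ : c ∈ Q := (mem_normalizer_iff.1 (hN y hy) c).2 (hZQ (mem_inf.2 ⟨hyP, hyQ⟩))
    refine hu ?_
    rw [subtype_apply, ← hci]
    exact mul_mem (mem_sup_left (mem_inf.2 ⟨hQP hcQ, hc.2⟩)) haiR
  obtain ⟨n, hn, i, rfl⟩ := hdec x
  have haiN : a ^ i ∈ normalizer (E : Set X) := le_normalizer (zpow_mem haE i)
  have hnE : n ∈ normalizer (E : Set X) := by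
    have := mul_mem hx (inv_mem haiN)
    rwa [mul_inv_cancel_right] at this
  have h1 : a * n * a⁻¹ * n⁻¹ ∈ E := by
    rw [show a * n * a⁻¹ * n⁻¹ = a * (n * a⁻¹ * n⁻¹) by group]
    exact mul_mem haE ((mem_normalizer_iff.1 hnE _).1 (inv_mem haE))
  obtain ⟨k, hk⟩ := hE2 ⟨_, h1⟩
  have h2 : a * n = n * a := by
    have := CfsgLib.Invol.eq_one_of_odd_of_pow_two (hker Q n (hadm n hn hnE))
      (congrArg Subtype.val hk)
    rwa [mul_inv_eq_one, mul_inv_eq_iff_eq_mul] at this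
  exact (Commute.mul_left (h2.symm : Commute n a) (Commute.zpow_self a i)).eq

/-- A weakly closed 2-element is central modulo the odd core. -/
theorem core_of_weakly_closed : ∀ (k : ℕ) (Y : Type u) [Group Y] [Finite Y], Nat.card Y ≤ k →
    ∀ (S : Sylow 2 Y) (z : Y), z ∈ S → (∀ g : Y, g * z * g⁻¹ ∈ S → g * z * g⁻¹ = z) →
      ∀ g : Y, z * g * z⁻¹ * g⁻¹ ∈ Cfsg.pPrimeCore 2 Y := by
  haveI : Fact (Nat.Prime 2) := ⟨Nat.prime_two⟩
  intro k
  induction k with
  | zero => intro Y _ _ h; exact absurd h (not_le.2 Nat.card_pos)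
  | succ k ih =>
    intro Y _ _ hY S z hzS hwc g
    by_cases hO : Cfsg.pPrimeCore 2 Y = ⊥
    · obtain ⟨j, hj⟩ := S.2 ⟨z, hzS⟩
      obtain ⟨d, -, hd⟩ := (Nat.dvd_prime_pow Nat.prime_two).1
        (orderOf_dvd_of_pow_eq_one (show z ^ 2 ^ j = 1 from congrArg Subtype.val hj))
      rcases d with _ | d
      · rw [pow_zero, orderOf_eq_one_iff] at hd
        simp [hd]
      set i := z ^ 2 ^ d with hid
      have hi2 : orderOf i = 2 := by
        rw [hid, orderOf_pow' _ (pow_ne_zero _ two_ne_zero), hd, pow_succ,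
          Nat.gcd_eq_right (dvd_mul_right _ 2), Nat.mul_div_cancel_left _ (pow_pos two_pos _)]
      have hwi : ∀ h : Y, h * i * h⁻¹ ∈ S → h * i * h⁻¹ = i := by
        intro h hh
        set C := centralizer ({h * i * h⁻¹} : Set Y) with hC
        have hmemC : ∀ w, w ∈ C ↔ Commute (h * i * h⁻¹) w := fun w => by
          rw [hC, mem_centralizer_singleton_iff]; exact ⟨Eq.symm, Eq.symm⟩
        have hzC : z ∈ C := by
          rw [hmemC]
          exact mul_inv_eq_iff_eq_mul.1 (hwc _ (mul_mem (mul_mem hh hzS) (inv_mem hh)))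
        have hz'C : h * z * h⁻¹ ∈ C := by
          rw [hmemC]
          exact ((Commute.self_pow z _).symm).conj h
        obtain ⟨T, hT⟩ := (isPGroup_zpowers (p := 2) (w := (⟨z, hzC⟩ : C))
          ⟨j, Subtype.ext (congrArg Subtype.val hj : z ^ 2 ^ j = 1)⟩).exists_le_sylow
        obtain ⟨y, hy⟩ := CfsgLib.Invol.exists_conj_le_sylow (isPGroup_zpowers (p := 2)
          (w := (⟨h * z * h⁻¹, hz'C⟩ : C)) ⟨j, Subtype.ext (by
            show (h * z * h⁻¹) ^ 2 ^ j = 1
            rw [conj_pow, show z ^ 2 ^ j = 1 from congrArg Subtype.val hj, mul_one,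
              mul_inv_cancel])⟩) T
        obtain ⟨T', hT'⟩ := (T.2.map C.subtype).exists_le_sylow
        obtain ⟨r, rfl⟩ := MulAction.exists_smul_eq Y S T'
        have hmem : ∀ w, w ∈ (r • S : Sylow 2 Y) → r⁻¹ * w * r ∈ S := fun w hw => by
          have hw' : w ∈ ((r • S : Sylow 2 Y) : Subgroup Y) := hw
          rw [Sylow.coe_subgroup_smul, mem_pointwise_smul_iff_inv_smul_mem] at hw'
          show r⁻¹ * w * r ∈ (S : Subgroup Y)
          simpa [MulAut.conj_symm_apply] using hw'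
        have hzT : z ∈ (r • S : Sylow 2 Y) := hT' ⟨_, hT (mem_zpowers _), rfl⟩
        have hyT : (y : Y) * (h * z * h⁻¹) * (y : Y)⁻¹ ∈ (r • S : Sylow 2 Y) :=
          hT' ⟨_, hy _ (mem_zpowers _), rfl⟩
        have e1 : r⁻¹ * z * r = z := by simpa using hwc r⁻¹ (by simpa using hmem _ hzT)
        have e2 : r⁻¹ * ((y : Y) * (h * z * h⁻¹) * (y : Y)⁻¹) * r = z := by
          have := hwc (r⁻¹ * y * h) (by simpa [mul_assoc] using hmem _ hyT)
          simpa [mul_assoc] using this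
        have e3 : (y : Y) * (h * z * h⁻¹) * (y : Y)⁻¹ = z := by
          have := e2.trans e1.symm
          exact mul_left_cancel (mul_right_cancel this)
        have e4 := congrArg (· ^ 2 ^ d) e3
        simp only [conj_pow] at e4
        rw [← hid, show (y : Y) * (h * i * h⁻¹) * (y : Y)⁻¹ = h * i * h⁻¹ by
          rw [← ((hmemC _).1 y.2).eq, mul_inv_cancel_right]] at e4
        exact e4
      have hcent : ∀ w, i * w = w * i := fun w => by
        have := CfsgLib.Invol.zstar_of_weakly_closed S hi2 hwi w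
        rw [hO, mem_bot, mul_inv_eq_one, mul_inv_eq_iff_eq_mul] at this
        exact this
      haveI : (zpowers i).Normal := ⟨fun w hw r => by
        obtain ⟨m, rfl⟩ := hw
        rw [← ((show Commute i r from hcent r).zpow_left m).eq, mul_inv_cancel_right]
        exact zpow_mem (mem_zpowers _) m⟩
      set f := QuotientGroup.mk' (zpowers i) with hf
      have hiS : zpowers i ≤ (S : Subgroup Y) := zpowers_le.2 (pow_mem hzS _)
      have hsurj : Function.Surjective f := QuotientGroup.mk'_surjective _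
      have hlt : Nat.card (Y ⧸ zpowers i) ≤ k := by
        have := card_eq_card_quotient_mul_card_subgroup (zpowers i)
        rw [Nat.card_zpowers, hi2] at this
        have : 0 < Nat.card (Y ⧸ zpowers i) := Nat.card_pos
        omega
      have hmemS : ∀ w, f w ∈ (S.mapSurjective hsurj : Subgroup _) → w ∈ (S : Subgroup Y) := by
        rintro w ⟨w', hw', e⟩
        rw [hf, QuotientGroup.mk'_apply, QuotientGroup.mk'_apply, QuotientGroup.eq] at e
        simpa using mul_mem hw' (hiS e)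
      have h1 := ih _ hlt (S.mapSurjective hsurj) (f z) ⟨z, hzS, rfl⟩ (fun q hq => by
        obtain ⟨q, rfl⟩ := hsurj q
        rw [← map_inv, ← map_mul, ← map_mul] at hq ⊢
        rw [hwc q (hmemS _ hq)]) (f g)
      rw [← map_inv, ← map_inv, ← map_mul, ← map_mul, ← map_mul] at h1
      set M := (Cfsg.pPrimeCore 2 (Y ⧸ zpowers i)).comap f with hM
      have hiM : zpowers i ≤ M := fun w hw => by
        rw [hM, mem_comap, show f w = 1 from (QuotientGroup.eq_one_iff w).2 hw]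
        exact one_mem _
      have hM2 : ¬ 2 ∣ (zpowers i).relIndex M := by
        have hcard := CfsgLib.Coprime.card_eq_card_mul_card_map_mk' (zpowers i) hiM
        rw [show M.map (QuotientGroup.mk' (zpowers i)) = Cfsg.pPrimeCore 2 (Y ⧸ zpowers i) from
          map_comap_eq_self_of_surjective hsurj _] at hcard
        have h3 : Nat.card (zpowers i) * (zpowers i).relIndex M = Nat.card M := by
          rw [← Nat.card_congr (subgroupOfEquivOfLe hiM).toEquiv]
          exact card_mul_index _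
        rw [hcard] at h3
        rw [Nat.eq_of_mul_eq_mul_left Nat.card_pos h3]
        exact CfsgLib.Coprime.pPrimeCore_not_dvd Nat.prime_two
      have hcM : ∀ w ∈ zpowers i, ∀ c ∈ M, w * c = c * w := by
        rintro _ ⟨m, rfl⟩ c -
        exact ((show Commute i c from hcent c).zpow_left m).eq
      have hi1 : IsPGroup 2 (zpowers i) :=
        isPGroup_zpowers ⟨1, by rw [pow_one, pow_two, CfsgLib.Invol.invol_mul_self hi2]⟩
      set m := (zpowers i).relIndex M with hm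
      haveI : M.Normal := (inferInstance : (Cfsg.pPrimeCore 2 (Y ⧸ zpowers i)).Normal).comap f
      let L : Subgroup Y :=
        { carrier := {w | w ∈ M ∧ w ^ m = 1}
          one_mem' := ⟨one_mem _, one_pow _⟩
          mul_mem' := fun {a b} ha hb => ⟨mul_mem ha.1 hb.1, by
            rw [(mul_pow_of_central hiM hcM ha.1 hb.1).1, ha.2, hb.2, one_mul]⟩
          inv_mem' := fun {a} ha => ⟨inv_mem ha.1, by rw [inv_pow, ha.2, inv_one]⟩ }
      haveI : L.Normal := ⟨fun w hw r => ⟨‹M.Normal›.conj_mem w hw.1 r, by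
        rw [conj_pow, hw.2, mul_one, mul_inv_cancel]⟩⟩
      have hL : L = ⊥ := by
        rw [eq_bot_iff, ← hO]
        refine CfsgLib.Coprime.le_pPrimeCore_of_not_dvd Nat.prime_two fun hd => ?_
        obtain ⟨w, hw⟩ := exists_prime_orderOf_dvd_card' 2 hd
        have := (orderOf_dvd_of_pow_eq_one (w.2.2))
        rw [orderOf_coe, hw] at this
        exact hM2 this
      have hMi : M ≤ zpowers i := fun w hw => by
        have h2 := (mul_pow_of_central hiM hcM hw hw).2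
        have h3 : w * (w ^ m)⁻¹ ∈ L := ⟨mul_mem hw (inv_mem (hiM h2)), by
          rw [(mul_pow_of_central hiM hcM hw (inv_mem (hiM h2))).1, inv_pow, mul_inv_eq_one]
          obtain ⟨q, hq⟩ := Nat.odd_iff.2 (Nat.two_dvd_ne_zero.1 hM2)
          obtain ⟨e, he⟩ := h2
          have hsq : (w ^ m) * (w ^ m) = 1 := by
            rw [← he, ← (Commute.refl i).mul_zpow, CfsgLib.Invol.invol_mul_self hi2, one_zpow]
          have hpow : ∀ u : Y, u * u = 1 → u ^ m = u := fun u hu => by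
            rw [hq, pow_succ, pow_mul, pow_two, hu, one_pow, one_mul]
          exact (hpow _ hsq).symm⟩
        rw [hL, mem_bot, mul_inv_eq_one] at h3
        rw [h3]
        exact h2
      have h4 : z * g * z⁻¹ * g⁻¹ ∈ (S : Subgroup Y) := hiS (hMi h1)
      have h5 : g * z * g⁻¹ ∈ (S : Subgroup Y) := by
        have := inv_mem (mul_mem (inv_mem (show z ∈ (S : Subgroup Y) from hzS)) h4)
        simpa [mul_assoc] using this
      have h6 := hwc g h5
      rw [show z * g * z⁻¹ * g⁻¹ = 1 by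
        rw [show z * g * z⁻¹ * g⁻¹ = z * (g * z * g⁻¹)⁻¹ by group, h6, mul_inv_cancel]]
      exact one_mem _
    · set f := QuotientGroup.mk' (Cfsg.pPrimeCore 2 Y) with hf
      have hsurj : Function.Surjective f := QuotientGroup.mk'_surjective _
      have hlt : Nat.card (Y ⧸ Cfsg.pPrimeCore 2 Y) ≤ k := by
        have := card_eq_card_quotient_mul_card_subgroup (Cfsg.pPrimeCore 2 Y)
        have h2 := one_lt_card_iff_ne_bot _ |>.2 hO
        have : 0 < Nat.card (Y ⧸ Cfsg.pPrimeCore 2 Y) := Nat.card_pos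
        nlinarith
      have h1 := ih _ hlt (S.mapSurjective hsurj) (f z) ⟨z, hzS, rfl⟩ (fun q hq => by
        obtain ⟨q, rfl⟩ := hsurj q
        rw [← map_inv, ← map_mul, ← map_mul] at hq ⊢
        obtain ⟨s, hs, he⟩ := hq
        set w := q * z * q⁻¹ with hw
        have hwM : w ∈ (S : Subgroup Y) ⊔ Cfsg.pPrimeCore 2 Y := by
          rw [hf, QuotientGroup.mk'_apply, QuotientGroup.mk'_apply, QuotientGroup.eq] at he
          simpa using mul_mem (mem_sup_left (T := Cfsg.pPrimeCore 2 Y) hs) (mem_sup_right he)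
        obtain ⟨j, hj⟩ := S.2 ⟨z, hzS⟩
        obtain ⟨y, hy, hyS⟩ := exists_conj_mem le_sup_left S.2
          (fun h => S.not_dvd_index (h.trans (Dvd.intro _ (relIndex_mul_index le_sup_left))))
          hwM ⟨j, by rw [hw, conj_pow, show z ^ 2 ^ j = 1 from congrArg Subtype.val hj, mul_one,
            mul_inv_cancel]⟩
        obtain ⟨s', hs', o, ho, rfl⟩ := mem_sup_of_normal_right.1 hy
        have hoS : o * w * o⁻¹ ∈ (S : Subgroup Y) := by
          have := mul_mem (mul_mem (inv_mem hs') hyS) hs'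
          simpa [mul_assoc] using this
        have h7 := hwc (o * q) (show o * q * z * (o * q)⁻¹ ∈ (S : Subgroup Y) by
          simpa [hw, mul_assoc] using hoS)
        have h8 : f (o * w * o⁻¹) = f w := by
          rw [map_mul, map_mul, map_inv, show f o = 1 from (QuotientGroup.eq_one_iff o).2 ho,
            one_mul, inv_one, mul_one]
        rw [← h8]
        exact congrArg f (by simpa [hw, mul_assoc] using h7)) (f g)
      rw [CfsgLib.Coprime.pPrimeCore_quotient_eq_bot Nat.prime_two, mem_bot, ← map_inv, ← map_inv,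
        ← map_mul, ← map_mul, ← map_mul] at h1
      exact (QuotientGroup.eq_one_iff _).1 h1

theorem core_top {N P : Subgroup X} [N.Normal] (hPN : P ≤ N) (hP : IsPGroup 2 P)
    (hi : ¬ 2 ∣ P.relIndex N) {a : X} (ha : a ∈ centralizer (P : Set X))
    (ha2 : ∃ k, a ^ 2 ^ k = 1) (htop : N ⊔ zpowers a = ⊤) (hker : InKer N P a) (g : X) :
    a * g * a⁻¹ * g⁻¹ ∈ Cfsg.pPrimeCore 2 X := by
  haveI : Fact (Nat.Prime 2) := ⟨Nat.prime_two⟩
  set S₀ := P ⊔ zpowers a with hS₀
  have hS2 : IsPGroup 2 S₀ := hP.to_sup_of_normal_right' (isPGroup_zpowers ha2)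
    ((le_centralizer_iff.1 (zpowers_le.2 ha)).trans (centralizer_le_normalizer _))
  have hSN : S₀ ⊓ N = P := le_antisymm (pgroup_le_of_odd_index (le_inf le_sup_left hPN)
    inf_le_right (hS2.to_le inf_le_left) hi) (le_inf le_sup_left hPN)
  have hidx : ¬ 2 ∣ S₀.index := by
    have h1 : N ⊔ S₀ = ⊤ := top_le_iff.1 (htop ▸ sup_le_sup_left le_sup_right N)
    have h2 : N.index = N.relIndex S₀ := by
      rw [← relIndex_top_right, ← h1, sup_comm, relIndex_sup_right]
    have h3 := relIndex_mul_index (inf_le_left : S₀ ⊓ N ≤ S₀)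
    rw [inf_relIndex_left, ← h2, hSN] at h3
    have h4 := relIndex_mul_index hPN
    rw [← h3, mul_comm] at h4
    exact Nat.eq_of_mul_eq_mul_left (Nat.pos_of_ne_zero index_ne_zero_of_finite) h4 ▸ hi
  set S : Sylow 2 X := hS2.toSylow hidx with hS
  have haS : a ∈ S := (IsPGroup.mem_toSylow _ _).2 (mem_sup_right (mem_zpowers a))
  refine core_of_weakly_closed _ X le_rfl S a haS (fun y hy => ?_) g
  obtain ⟨D, c, h, hAD, -, hc, hch, he⟩ := CfsgLib.Fusion.Goldschmidt.exists_gchain S {a} y⁻¹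
    (Set.singleton_subset_iff.2 haS) (by
      rw [Set.image_singleton, Set.singleton_subset_iff, inv_inv]; exact hy)
  have hch' : ∀ (D : Subgroup X) (h : X), CfsgLib.Fusion.Goldschmidt.GChain S D h → a ∈ D →
      h * a = a * h := by
    intro D h hh
    induction hh with
    | nil D => intro; rw [one_mul, mul_one]
    | @cons D g E x hE hx hD _ ih =>
      intro haD
      have hxa := commute_of_good hPN hP hi ha ha2 htop hker S hSN hE (hD haD) hx
      have haD' : a ∈ conjBy x⁻¹ D := by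
        rw [CfsgLib.Coprime.mem_conjBy, inv_inv, hxa, mul_inv_cancel_right]
        exact haD
      exact (Commute.mul_left (hxa : Commute x a) (ih haD')).eq
  have hca : c * a = a * c := (mem_centralizer_singleton_iff.1 hc)
  have hyc : y = (c * h)⁻¹ := inv_eq_iff_eq_inv.1 he
  rw [hyc, inv_inv]
  have hcomm : c * h * a = a * (c * h) :=
    (Commute.mul_left (hca : Commute c a) (hch' D h hch (hAD rfl))).eq
  rw [mul_assoc, ← hcomm, inv_mul_cancel_left]

/-- A 2-element with `InKer` centralises `N` modulo the odd core of `N`. -/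
theorem core_of_inKer {N P : Subgroup X} [N.Normal] (hPN : P ≤ N) (hP : IsPGroup 2 P)
    (hi : ¬ 2 ∣ P.relIndex N) {a : X} (ha : a ∈ centralizer (P : Set X))
    (ha2 : ∃ k, a ^ 2 ^ k = 1) (hker : InKer N P a) {n : X} (hn : n ∈ N) :
    a * n * a⁻¹ * n⁻¹ ∈ (Cfsg.pPrimeCore 2 N).map N.subtype := by
  set Y := N ⊔ zpowers a with hY
  have hNY : N ≤ Y := le_sup_left
  have haY : a ∈ Y := mem_sup_right (mem_zpowers a)
  set N' := N.subgroupOf Y
  set P' := P.subgroupOf Y
  set a' : Y := ⟨a, haY⟩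
  have hcen : ∀ Q : Subgroup Y, ∀ w : Y,
      w ∈ centralizer (Q : Set Y) ↔ (w : X) ∈ centralizer ((Q.map Y.subtype : Subgroup X) : Set X) := by
    intro Q w
    simp only [mem_centralizer_iff, SetLike.mem_coe, mem_map]
    refine ⟨?_, fun h q hq => Subtype.ext (h q ⟨q, hq, rfl⟩)⟩
    rintro h _ ⟨q, hq, rfl⟩
    exact congrArg Subtype.val (h q hq)
  have hker' : InKer N' P' a' := by
    rintro Q m ⟨hQP, hm, hmQ, hPQ, hQi⟩
    have hQP' : Q.map Y.subtype ≤ P := by
      rintro _ ⟨q, hq, rfl⟩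
      exact hQP hq
    have hmap : ∀ R : Subgroup X, R ≤ Y →
        (R.subgroupOf Y ⊓ centralizer (Q : Set Y)).map Y.subtype =
          R ⊓ centralizer ((Q.map Y.subtype : Subgroup X) : Set X) := by
      intro R hR
      ext w
      constructor
      · rintro ⟨w, hw, rfl⟩
        exact mem_inf.2 ⟨hw.1, (hcen Q w).1 hw.2⟩
      · rintro ⟨hwR, hwc⟩
        exact ⟨⟨w, hR hwR⟩, mem_inf.2 ⟨hwR, (hcen Q ⟨w, hR hwR⟩).2 hwc⟩, rfl⟩
    have hodd : Odd (orderOf (a * (m : X) * a⁻¹ * (m : X)⁻¹)) := by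
      refine hker (Q.map Y.subtype) m ⟨hQP', hm, le_normalizer_map _ ⟨m, hmQ, rfl⟩, ?_, ?_⟩
      · rw [← hmap P (hPN.trans hNY)]
        exact map_mono hPQ
      · rwa [← hmap P (hPN.trans hNY), ← hmap N hNY,
          relIndex_map_map_of_injective _ _ Y.subtype_injective]
    rwa [show a * (m : X) * a⁻¹ * (m : X)⁻¹ = ((a' * m * a'⁻¹ * m⁻¹ : Y) : X) from rfl,
      orderOf_coe] at hodd
  have htop : N' ⊔ zpowers a' = ⊤ := by
    refine map_injective Y.subtype_injective ?_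
    rw [Subgroup.map_sup, MonoidHom.map_zpowers, ← MonoidHom.range_eq_map, range_subtype,
      subgroupOf_map_subtype, inf_eq_left.2 hNY]
    rfl
  obtain ⟨k, hk⟩ := ha2
  have h := core_top (N := N') (P := P') (subgroupOf_mono _ hPN)
    (hP.of_equiv (subgroupOfEquivOfLe (hPN.trans hNY)).symm)
    (by rwa [relIndex_subgroupOf hNY]) (a := a') ((hcen P' a').2 (by
      rwa [subgroupOf_map_subtype, inf_eq_left.2 (hPN.trans hNY)]))
    ⟨k, Subtype.ext hk⟩ htop hker' ⟨n, hNY hn⟩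
  set L := (Cfsg.pPrimeCore 2 Y).map Y.subtype ⊓ N
  haveI : (L.subgroupOf N).Normal := by
    refine ⟨fun w hw r => mem_subgroupOf.2 (mem_inf.2 ⟨?_, (r * w * r⁻¹).2⟩)⟩
    obtain ⟨v, hv, hvw⟩ := (mem_inf.1 (mem_subgroupOf.1 hw)).1
    refine ⟨⟨r, hNY r.2⟩ * v * ⟨r, hNY r.2⟩⁻¹,
      (inferInstance : (Cfsg.pPrimeCore 2 Y).Normal).conj_mem v hv _, ?_⟩
    simp only [map_mul, map_inv, subtype_apply] at hvw ⊢
    rw [hvw]
    rfl
  have hcop : (Nat.card (L.subgroupOf N)).Coprime 2 := by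
    rw [Nat.card_congr (subgroupOfEquivOfLe (inf_le_right : L ≤ N)).toEquiv]
    refine Nat.Coprime.coprime_dvd_left ?_ (CfsgLib.Coprime.pPrimeCore_coprime (G := Y) Nat.prime_two)
    rw [← card_map_of_injective Y.subtype_injective]
    exact card_dvd_of_le inf_le_left
  have hmem : a * n * a⁻¹ * n⁻¹ ∈ L := mem_inf.2 ⟨⟨_, h, rfl⟩,
    mul_mem (‹N.Normal›.conj_mem n hn a) (inv_mem hn)⟩
  exact ⟨⟨_, (mem_inf.1 hmem).2⟩, CfsgLib.Coprime.le_pPrimeCore hcop hmem, rfl⟩

end CfsgLib.OddConseq
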