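import Cfsg.Agent.Lib.PGroup.CocyclicCentralizers
import Cfsg.Agent.Lib.OddConseq.Basic

/-!
# Generation of `C_Y(B)` when `Y = [Y, A]`

For an abelian group `A` acting coprimely on the solvable group `Y = [Y, A]` and `B ≤ A`,
`C_Y(B)` is generated by the intersections with `[C_Y(B₀), A]`, `B₀` cocyclic in `B`.
-/

set_option autoImplicit false
set_option linter.style.haveILetI false
set_option linter.unusedSectionVars false

open Subgroup
open CfsgLib.PGroup (cocyclicSubgroups)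
open scoped commutatorElement

namespace CfsgLib.OddConseq

universe u

variable {X : Type u} [Group X] [Finite X]

/-- `[C_Y(B₀), A]`. -/
abbrev locComm (A B₀ Y : Subgroup X) : Subgroup X := ⁅Y ⊓ centralizer (B₀ : Set X), A⁆

/-- The subgroup generated by the `C_Y(B) ∩ [C_Y(B₀), A]`. -/
abbrev genSup (A B Y : Subgroup X) : Subgroup X :=
  ⨆ B₀ ∈ cocyclicSubgroups B, Y ⊓ centralizer (B : Set X) ⊓ locComm A B₀ Y

theorem le_genSup {A B Y : Subgroup X} {B₀ : Subgroup X} (hB₀ : B₀ ∈ cocyclicSubgroups B) :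
    Y ⊓ centralizer (B : Set X) ⊓ locComm A B₀ Y ≤ genSup A B Y :=
  le_iSup₂ (f := fun B₀ (_ : B₀ ∈ cocyclicSubgroups B) =>
    Y ⊓ centralizer (B : Set X) ⊓ locComm A B₀ Y) B₀ hB₀

theorem commutator_le_pieces {A B U : Subgroup X} (hA : IsMulCommutative A) (hBA : B ≤ A)
    (hAU : A ≤ normalizer (U : Set X)) (hcop : (Nat.card A).Coprime (Nat.card U)) :
    ⁅U, A⁆ ≤ ⨆ B₀ ∈ cocyclicSubgroups B, ⁅U ⊓ centralizer (B₀ : Set X), A⁆ := by
  have hcomm : ∀ x ∈ A, ∀ y ∈ A, x * y = y * x := fun x hx y hy =>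
    congrArg Subtype.val (isMulCommutative_iff.1 hA ⟨x, hx⟩ ⟨y, hy⟩)
  have hBab : IsMulCommutative B := isMulCommutative_iff.2 fun a b =>
    Subtype.ext (hcomm _ (hBA a.2) _ (hBA b.2))
  have hgen := (CfsgLib.PGroup.coprime_cocyclic_generation hBab (hBA.trans hAU)
    (hcop.coprime_dvd_left (card_dvd_of_le hBA))).1
  set R := ⨆ B₀ ∈ cocyclicSubgroups B, ⁅U ⊓ centralizer (B₀ : Set X), A⁆ with hR
  have hRle : ∀ B₀ ∈ cocyclicSubgroups B, ⁅U ⊓ centralizer (B₀ : Set X), A⁆ ≤ R := fun B₀ hB₀ =>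
    le_iSup₂ (f := fun B₀ (_ : B₀ ∈ cocyclicSubgroups B) =>
      ⁅U ⊓ centralizer (B₀ : Set X), A⁆) B₀ hB₀
  set Z := U ⊓ centralizer (A : Set X) with hZ
  have hAB : ∀ B₀ ∈ cocyclicSubgroups B,
      A ≤ normalizer ((U ⊓ centralizer (B₀ : Set X) : Subgroup X) : Set X) := fun B₀ hB₀ =>
    Coprime.inf_le_normalizer hAU
      (le_trans (fun a ha => mem_centralizer_iff.2 fun b hb => hcomm b (hBA (hB₀.1 hb)) a ha)
        le_normalizer)
  have hnorm : A ⊔ Z ≤ normalizer (R : Set X) := by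
    intro g hg
    rw [← Coprime.conjBy_eq_self_iff]
    refine eq_of_le_of_card_ge ?_ (Coprime.card_conjBy g R).ge
    show R.map _ ≤ R
    simp only [hR, Subgroup.map_iSup]
    refine iSup₂_le fun B₀ hB₀ => ?_
    have h1 : A ⊔ Z ≤ normalizer ((U ⊓ centralizer (B₀ : Set X) : Subgroup X) : Set X) :=
      sup_le (hAB B₀ hB₀) (le_trans (fun z hz => mem_inf.2
        ⟨hz.1, centralizer_le (hB₀.1.trans hBA) hz.2⟩) le_normalizer)
    have h2 : A ⊔ Z ≤ normalizer (A : Set X) :=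
      sup_le le_normalizer (inf_le_right.trans (Coprime.centralizer_le_normalizer_self A))
    rw [Subgroup.map_commutator,
      show (U ⊓ centralizer (B₀ : Set X)).map (MulAut.conj g).toMonoidHom =
        Coprime.conjBy g (U ⊓ centralizer (B₀ : Set X)) from rfl,
      Coprime.conjBy_eq_self_iff.2 (h1 hg),
      show A.map (MulAut.conj g).toMonoidHom = Coprime.conjBy g A from rfl,
      Coprime.conjBy_eq_self_iff.2 (h2 hg)]
    exact hRle B₀ hB₀
  have hUR : U ≤ R ⊔ Z := by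
    rw [← hgen]
    refine iSup₂_le fun B₀ hB₀ => ?_
    conv_lhs => rw [← Coprime.commutator_sup_centralizer (hAB B₀ hB₀)
      (hcop.coprime_dvd_right (card_dvd_of_le inf_le_left))
      (Or.inl (Coprime.isSolvable_of_isMulCommutative hA))]
    exact sup_le_sup (hRle B₀ hB₀) (inf_le_inf_right _ inf_le_left)
  rw [commutator_le]
  intro g hg a ha
  obtain ⟨r, hr, z, hz, rfl⟩ := Coprime.mem_sup_exists (le_sup_right.trans hnorm) (hUR hg)
  rw [commutatorElement_def,
    show r * z * a * (r * z)⁻¹ * a⁻¹ = r * (z * a * z⁻¹) * r⁻¹ * a⁻¹ by group,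
    show z * a * z⁻¹ = a by rw [← mem_centralizer_iff.1 hz.2 a ha, mul_inv_cancel_right],
    show r * a * r⁻¹ * a⁻¹ = r * (a * r⁻¹ * a⁻¹) by group]
  exact mul_mem hr ((mem_normalizer_iff.1 (hnorm (mem_sup_left ha)) r⁻¹).1 (inv_mem hr))

theorem exists_lift {H M B : Subgroup X} [M.Normal] (hBH : B ≤ normalizer (H : Set X))
    (hcop : (Nat.card B).Coprime (Nat.card (M ⊓ H : Subgroup X))) (hsolv : Group.IsSolvable B) {x : X}
    (hx : x ∈ H) (hfix : ∀ b ∈ B, b * x * b⁻¹ * x⁻¹ ∈ M) :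
    ∃ y ∈ H ⊓ centralizer (B : Set X), x⁻¹ * y ∈ M := by
  have hnM : B ≤ normalizer (M : Set X) := (normalizer_eq_top M).symm ▸ le_top
  obtain ⟨n, hn, hc⟩ := Coprime.exists_fixed_in_coset (N := M ⊓ H)
    (Coprime.inf_le_normalizer hnM hBH) hcop (Or.inl hsolv)
    (k := x) (Coprime.inf_le_normalizer (A := H) ((normalizer_eq_top M).symm ▸ le_top) le_normalizer hx)
    (fun b hb => mem_inf.2 ⟨hfix b hb,
      mul_mem (Coprime.conj_mem_of_le_normalizer hBH hb hx) (inv_mem hx)⟩)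
  exact ⟨x * n, mem_inf.2 ⟨mul_mem hx hn.2, hc⟩, by rw [inv_mul_cancel_left]; exact hn.1⟩

/-- Some nontrivial normal subgroup whose fixed points lie in `genSup`. -/
theorem exists_good_normal {A B Y : Subgroup X} [Y.Normal] (hA : IsMulCommutative A) (hBA : B ≤ A)
    (htop : Y ⊔ A = ⊤) (hcop : (Nat.card A).Coprime (Nat.card Y)) [Group.IsSolvable Y]
    (hYA : ⁅Y, A⁆ = Y) (hY : Y ≠ ⊥) :
    ∃ M : Subgroup X, M.Normal ∧ M ≤ Y ∧ M ≠ ⊥ ∧
      M ⊓ centralizer (B : Set X) ≤ genSup A B Y := by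
  classical
  have hcomm : ∀ x ∈ A, ∀ y ∈ A, x * y = y * x := fun x hx y hy =>
    congrArg Subtype.val (isMulCommutative_iff.1 hA ⟨x, hx⟩ ⟨y, hy⟩)
  have hBsolv : Group.IsSolvable B := Coprime.isSolvable_of_le hBA
    (Coprime.isSolvable_of_isMulCommutative hA)
  have hcen : ∀ z : X, (∀ y ∈ Y, z * y = y * z) → (∀ a ∈ A, z * a = a * z) → z ∈ center X := by
    intro z h1 h2
    have hle : (⊤ : Subgroup X) ≤ centralizer ({z} : Set X) := htop ▸
      sup_le (fun y hy => mem_centralizer_singleton_iff.2 (h1 y hy).symm)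
        (fun a ha => mem_centralizer_singleton_iff.2 (h2 a ha).symm)
    exact mem_center_iff.2 fun g => mem_centralizer_singleton_iff.1 (hle (mem_top g))
  -- the derived term
  obtain ⟨U, hUn, hUY, hUZ, hU'⟩ : ∃ U : Subgroup X, U.Normal ∧ U ≤ Y ∧ ¬ U ≤ center X ∧
      ⁅U, U⁆ ≤ center X := by
    set D : ℕ → Subgroup X := fun n => (derivedSeries Y n).map Y.subtype with hD
    have hsucc : ∀ n, D (n + 1) = ⁅D n, D n⁆ := fun n => by
      simp only [hD, derivedSeries_succ, map_commutator]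
    obtain ⟨n, hn⟩ := (Group.isSolvable_def Y).1 inferInstance
    have hex : ∃ n, D n ≤ center X := ⟨n, by simp [hD, hn]⟩
    have h0 : Nat.find hex ≠ 0 := by
      intro h
      have h' := Nat.find_spec hex
      rw [h] at h'
      simp only [hD, derivedSeries_zero, ← MonoidHom.range_eq_map, range_subtype] at h'
      refine hY (eq_bot_iff.2 (hYA ▸ commutator_le.2 fun y hy a _ => ?_))
      rw [mem_bot, commutatorElement_eq_one_iff_mul_comm]
      exact (mem_center_iff.1 (h' hy) a).symm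
    obtain ⟨m, hm⟩ := Nat.exists_eq_succ_of_ne_zero h0
    haveI : (derivedSeries Y m).Characteristic := derivedSeries_characteristic Y m
    refine ⟨D m, inferInstance, map_subtype_le _, Nat.find_min hex (by omega), ?_⟩
    rw [← hsucc]
    have h' := Nat.find_spec hex
    rw [hm] at h'
    exact h'
  haveI := hUn
  have hAU : A ≤ normalizer (U : Set X) := (normalizer_eq_top U).symm ▸ le_top
  have hUodd : (Nat.card A).Coprime (Nat.card U) := hcop.coprime_dvd_right (card_dvd_of_le hUY)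
  set V := ⨆ B₀ ∈ cocyclicSubgroups B, U ⊓ locComm A B₀ Y with hV
  have hVle : ∀ B₀ ∈ cocyclicSubgroups B, U ⊓ locComm A B₀ Y ≤ V := fun B₀ hB₀ =>
    le_iSup₂ (f := fun B₀ (_ : B₀ ∈ cocyclicSubgroups B) => U ⊓ locComm A B₀ Y) B₀ hB₀
  have hVU : V ≤ U := iSup₂_le fun _ _ => inf_le_left
  have hUA : ⁅U, A⁆ ≤ V := (commutator_le_pieces hA hBA hAU hUodd).trans (iSup₂_le fun B₀ hB₀ =>
    (le_inf ((commutator_mono inf_le_left le_rfl).trans (commutator_le_left U A))
      (commutator_mono (inf_le_inf_right _ hUY) le_rfl)).trans (hVle B₀ hB₀))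
  have hdec : ∀ B₀ ∈ cocyclicSubgroups B, ∀ u ∈ U,
      ∃ d ∈ ⁅U, B₀⁆, ∃ c ∈ U ⊓ centralizer (B₀ : Set X), d * c = u := by
    intro B₀ hB₀ u hu
    have h := Coprime.commutator_sup_centralizer (K := U) (A := B₀)
      ((hB₀.1.trans hBA).trans hAU) (hUodd.coprime_dvd_left (card_dvd_of_le (hB₀.1.trans hBA)))
      (Or.inl (Coprime.isSolvable_of_le (hB₀.1.trans hBA) (Coprime.isSolvable_of_isMulCommutative hA)))
    exact Coprime.mem_sup_exists (inf_le_left.trans (normalizer_commutator_ge_left U B₀))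
      (h.symm ▸ hu)
  have hKY : ∀ B₀ : Subgroup X, locComm A B₀ Y ≤ Y := fun B₀ =>
    (commutator_mono inf_le_left le_rfl).trans (commutator_le_left Y A)
  have hKc : ∀ B₀ ∈ cocyclicSubgroups B, ∀ k ∈ locComm A B₀ Y, k ∈ centralizer (B₀ : Set X) := by
    intro B₀ hB₀
    refine commutator_le.2 fun c hc a ha => ?_
    have haB : a ∈ centralizer (B₀ : Set X) :=
      mem_centralizer_iff.2 fun b hb => hcomm b (hBA (hB₀.1 hb)) a ha
    rw [commutatorElement_def]
    exact mul_mem (mul_mem (mul_mem hc.2 haB) (inv_mem hc.2)) (inv_mem haB)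
  have hkU : ∀ B₀ ∈ cocyclicSubgroups B, ∀ k ∈ locComm A B₀ Y, ∀ u ∈ U,
      ⁅u, k⁆ ∈ V := by
    intro B₀ hB₀ k hk u hu
    obtain ⟨d, hd, c, hc, rfl⟩ := hdec B₀ hB₀ u hu
    have hdV : ⁅U, B₀⁆ ≤ V := (commutator_mono le_rfl (hB₀.1.trans hBA)).trans hUA
    have h1 : ⁅c, k⁆ ∈ U ⊓ locComm A B₀ Y := by
      refine mem_inf.2 ⟨?_, ?_⟩
      · rw [commutatorElement_def, show c * k * c⁻¹ * k⁻¹ = c * (k * c⁻¹ * k⁻¹) by group]
        exact mul_mem hc.1 (hUn.conj_mem _ (inv_mem hc.1) k)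
      · rw [commutatorElement_def]
        exact mul_mem ((mem_normalizer_iff.1 (normalizer_commutator_ge_left _ A
          (mem_inf.2 ⟨hUY hc.1, hc.2⟩)) k).1 hk) (inv_mem hk)
    have h2 : k * d * k⁻¹ ∈ ⁅U, B₀⁆ := by
      have hk' : Coprime.conjBy k ⁅U, B₀⁆ = ⁅U, B₀⁆ := by
        rw [show Coprime.conjBy k ⁅U, B₀⁆ = (⁅U, B₀⁆).map (MulAut.conj k).toMonoidHom from rfl,
          map_commutator]
        congr 1
        · exact Coprime.conjBy_eq_self_iff.2 ((normalizer_eq_top U).symm ▸ mem_top k)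
        · exact Coprime.conjBy_eq_self_iff.2
            (Coprime.centralizer_le_normalizer_self B₀ (hKc B₀ hB₀ k hk))
      exact (mem_normalizer_iff.1 (Coprime.conjBy_eq_self_iff.1 hk') d).1 hd
    rw [show ⁅d * c, k⁆ = d * ⁅c, k⁆ * (k * d * k⁻¹)⁻¹ by
      simp only [commutatorElement_def]; group]
    exact mul_mem (mul_mem (hdV hd) (hVle B₀ hB₀ h1)) (inv_mem (hdV h2))
  let T : Subgroup X :=
    { carrier := {y | y ∈ normalizer (V : Set X) ∧ ∀ u ∈ U, ⁅u, y⁆ ∈ V}
      one_mem' := ⟨one_mem _, fun u _ => by simp⟩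
      mul_mem' := fun {y z} hy hz => ⟨mul_mem hy.1 hz.1, fun u hu => by
        rw [show ⁅u, y * z⁆ = ⁅u, y⁆ * (y * ⁅u, z⁆ * y⁻¹) by simp only [commutatorElement_def]; group]
        exact mul_mem (hy.2 u hu) ((mem_normalizer_iff.1 hy.1 _).1 (hz.2 u hu))⟩
      inv_mem' := fun {y} hy => ⟨inv_mem hy.1, fun u hu => by
        rw [show ⁅u, y⁻¹⁆ = y⁻¹ * ⁅u, y⁆⁻¹ * y by simp only [commutatorElement_def]; group]
        exact (mem_normalizer_iff''.1 hy.1 _).1 (inv_mem (hy.2 u hu))⟩ }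
  have hnorm : ∀ y : X, (∀ u ∈ U, ⁅u, y⁆ ∈ V) → y ∈ normalizer (V : Set X) := fun y hy =>
    mem_normalizer_fintype fun v hv => by
      rw [show y * v * y⁻¹ = ⁅v, y⁆⁻¹ * v by simp only [commutatorElement_def]; group]
      exact mul_mem (inv_mem (hy v (hVU hv))) hv
  have hT : T = ⊤ := by
    refine top_le_iff.1 (htop ▸ sup_le ?_ fun a ha => ?_)
    · rw [← hYA]
      refine (commutator_le_pieces hA hBA ((normalizer_eq_top Y).symm ▸ le_top) hcop).trans
        (iSup₂_le fun B₀ hB₀ k hk => ⟨hnorm k (hkU B₀ hB₀ k hk), hkU B₀ hB₀ k hk⟩)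
    · exact ⟨hnorm a fun u hu => hUA (commutator_mem_commutator hu ha),
        fun u hu => hUA (commutator_mem_commutator hu ha)⟩
  haveI hVn : V.Normal := normalizer_eq_top_iff.1
    (top_le_iff.1 fun y _ => (show y ∈ T from hT ▸ mem_top y).1)
  by_cases hM : ⁅V, U⁆ = ⊥
  · refine ⟨V, hVn, hVU.trans hUY, fun h0 => hUZ fun u hu => ?_, ?_⟩
    · refine mem_center_iff.2 fun g => ?_
      have := (show g ∈ T from hT ▸ mem_top g).2 u hu
      rw [h0, mem_bot, commutatorElement_eq_one_iff_mul_comm] at this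
      exact this.symm
    -- averaging
    letI : CommGroup V := { (inferInstance : Group V) with
      mul_comm := fun a b => Subtype.ext (commutatorElement_eq_one_iff_mul_comm.1
        (mem_bot.1 (hM ▸ commutator_mem_commutator a.2 (hVU b.2)))) }
    haveI : Fintype B := Fintype.ofFinite _
    let π : V →* V :=
      { toFun := fun v => ∏ b : B, MulAut.conjNormal (b : X) v
        map_one' := by simp
        map_mul' := fun v w => by simp [Finset.prod_mul_distrib] }
    set S := genSup A B Y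
    have hπfix : ∀ v : V, ∀ c ∈ B, c * (π v : X) * c⁻¹ = (π v : X) := by
      intro v c hc
      have : MulAut.conjNormal c (π v) = π v := by
        show MulAut.conjNormal c (∏ b : B, MulAut.conjNormal (b : X) v) = _
        rw [map_prod]
        refine Fintype.prod_equiv (Equiv.mulLeft (⟨c, hc⟩ : B)) _ _ fun b => ?_
        simp [map_mul]
      exact (MulAut.conjNormal_apply c (π v)).symm.trans (congrArg Subtype.val this)
    have hle : V ≤ ((S.subgroupOf V).comap π).map V.subtype := by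
      refine iSup₂_le fun B₀ hB₀ w hw => ⟨⟨w, hVle B₀ hB₀ hw⟩, ?_, rfl⟩
      rw [SetLike.mem_coe, mem_comap, mem_subgroupOf]
      refine le_genSup hB₀ (mem_inf.2 ⟨mem_inf.2 ⟨hUY (hVU (π _).2), ?_⟩, ?_⟩)
      · exact Coprime.mem_centralizer_iff_conj_eq.2 (hπfix _)
      · have hmem : π ⟨w, hVle B₀ hB₀ hw⟩ ∈ (locComm A B₀ Y).subgroupOf V := by
          refine prod_mem fun b _ => mem_subgroupOf.2 ?_
          rw [MulAut.conjNormal_apply]
          refine (mem_normalizer_iff.1 (?_ : (b : X) ∈ normalizer _) w).1 hw.2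
          rw [show locComm A B₀ Y = ⁅Y ⊓ centralizer (B₀ : Set X), A⁆ from rfl, commutator_comm]
          exact normalizer_commutator_ge_left A _ (hBA b.2)
        exact hmem
    intro v hv
    obtain ⟨v', hv', rfl⟩ := hle hv.1
    have hv2 : π v' = v' ^ Nat.card B := by
      show ∏ b : B, MulAut.conjNormal (b : X) v' = _
      rw [Finset.prod_eq_pow_card (b := v') fun b _ => Subtype.ext (by
        rw [MulAut.conjNormal_apply]
        exact Coprime.mem_centralizer_iff_conj_eq.1 hv.2 b b.2), Finset.card_univ,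
        Nat.card_eq_fintype_card]
    have hcopv : (Nat.card B).Coprime (orderOf (v' : X)) :=
      Nat.Coprime.coprime_dvd_left (card_dvd_of_le hBA) (hcop.coprime_dvd_right
        (orderOf_coe (⟨v', hUY (hVU v'.2)⟩ : Y) ▸ orderOf_dvd_natCard _))
    obtain ⟨k, hk⟩ := exists_pow_eq_self_of_coprime hcopv
    have h1 : ((v' : X)) ^ Nat.card B ∈ S := by
      have := mem_subgroupOf.1 (mem_comap.1 hv')
      rwa [hv2, Subgroup.coe_pow] at this
    show (v' : X) ∈ S
    rw [← hk]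
    exact pow_mem h1 k
  · refine ⟨⁅V, U⁆, inferInstance, (commutator_le_right V U).trans hUY, hM, inf_le_left.trans ?_⟩
    have hVU' : ⁅V, U⁆ ≤ center X := (commutator_mono hVU le_rfl).trans hU'
    set S := genSup A B Y
    let L : Subgroup X :=
      { carrier := {x | x ∈ U ∧ ∀ y ∈ U, ⁅x, y⁆ ∈ S}
        one_mem' := ⟨one_mem _, fun y _ => by simp⟩
        mul_mem' := fun {x x'} hx hx' => ⟨mul_mem hx.1 hx'.1, fun y hy => by
          have hz := mem_center_iff.1 (hU' (commutator_mem_commutator hx'.1 hy)) x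
          rw [show ⁅x * x', y⁆ = x * ⁅x', y⁆ * x⁻¹ * ⁅x, y⁆ by simp only [commutatorElement_def]; group,
            hz, mul_inv_cancel_right]
          exact mul_mem (hx'.2 y hy) (hx.2 y hy)⟩
        inv_mem' := fun {x} hx => ⟨inv_mem hx.1, fun y hy => by
          have hz := mem_center_iff.1 (inv_mem (hU' (commutator_mem_commutator hx.1 hy))) x⁻¹
          rw [show ⁅x⁻¹, y⁆ = x⁻¹ * ⁅x, y⁆⁻¹ * x by simp only [commutatorElement_def]; group,
            hz, inv_mul_cancel_right]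
          exact inv_mem (hx.2 y hy)⟩ }
    have hVL : V ≤ L := by
      refine iSup₂_le fun B₀ hB₀ x hx => ⟨hx.1, fun y hy => ?_⟩
      obtain ⟨d, hd, c, hc, rfl⟩ := hdec B₀ hB₀ y hy
      -- the part moved by `B₀` pairs trivially
      let J : Subgroup X := U ⊓ centralizer ({x} : Set X)
      have hdJ : ⁅U, B₀⁆ ≤ J := commutator_le.2 fun w hw b hb => by
        have hwb : w * b * w⁻¹ * b⁻¹ ∈ U :=
          commutator_le_left U B₀ (commutator_mem_commutator hw hb)
        refine mem_inf.2 ⟨hwb, mem_centralizer_singleton_iff.2 (Eq.symm ?_)⟩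
        have hxb : b * x = x * b := mem_centralizer_iff.1 (hKc B₀ hB₀ x hx.2) b hb
        have hz1 := mem_center_iff.1 (hU' (commutator_mem_commutator hx.1 hw))
        have hxw : x * w * x⁻¹ = ⁅x, w⁆ * w := by simp only [commutatorElement_def]; group
        have hxb' : x * b * x⁻¹ = b := by rw [← hxb, mul_inv_cancel_right]
        refine mul_inv_eq_iff_eq_mul.1 ?_
        rw [commutatorElement_def,
          show x * (w * b * w⁻¹ * b⁻¹) * x⁻¹ = (x * w * x⁻¹) * (x * b * x⁻¹) * (x * w * x⁻¹)⁻¹ *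
            (x * b * x⁻¹)⁻¹ by group, hxw, hxb',
          show ⁅x, w⁆ * w * b * (⁅x, w⁆ * w)⁻¹ * b⁻¹ = ⁅x, w⁆ * (w * b * w⁻¹) * ⁅x, w⁆⁻¹ * b⁻¹ by group,
          ← hz1, mul_inv_cancel_right]
      have h0 : x * d = d * x := (mem_centralizer_singleton_iff.1 (hdJ hd).2).symm
      have hxd : ⁅x, d⁆ = 1 := commutatorElement_eq_one_iff_mul_comm.2 h0
      rw [show ⁅x, d * c⁆ = ⁅x, d⁆ * (d * ⁅x, c⁆ * d⁻¹) by simp only [commutatorElement_def]; group,
        hxd, one_mul, mem_center_iff.1 (hU' (commutator_mem_commutator hx.1 hc.1)) d,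
        mul_inv_cancel_right]
      refine le_genSup hB₀ (mem_inf.2 ⟨mem_inf.2 ⟨hUY (commutator_le_left U U
        (commutator_mem_commutator hx.1 hc.1)), mem_centralizer_iff.2 fun b _ =>
          mem_center_iff.1 (hU' (commutator_mem_commutator hx.1 hc.1)) b⟩, ?_⟩)
      rw [show ⁅x, c⁆ = x * (c * x⁻¹ * c⁻¹) by simp only [commutatorElement_def]; group]
      exact mul_mem hx.2 ((mem_normalizer_iff.1 (normalizer_commutator_ge_left _ A
        (mem_inf.2 ⟨hUY hc.1, hc.2⟩)) x⁻¹).1 (inv_mem hx.2))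
    exact commutator_le.2 fun v hv y hy => (hVL hv).2 y hy

theorem centralizer_generation : ∀ (n : ℕ) (X : Type u) [Group X] [Finite X] (A B Y : Subgroup X)
    [Y.Normal], Nat.card Y ≤ n → IsMulCommutative A → B ≤ A → Y ⊔ A = ⊤ →
    (Nat.card A).Coprime (Nat.card Y) → Group.IsSolvable Y → ⁅Y, A⁆ = Y →
    Y ⊓ centralizer (B : Set X) ≤ genSup A B Y := by
  intro n
  induction n with
  | zero => intro X _ _ A B Y _ h; exact absurd h (not_le.2 Nat.card_pos)
  | succ n ih =>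
    intro X _ _ A B Y _ hn hA hBA htop hcop hsolv hYA
    by_cases hY : Y = ⊥
    · rw [hY]; exact inf_le_left.trans bot_le
    obtain ⟨M, hMn, hMY, hM, hMS⟩ := exists_good_normal hA hBA htop hcop hYA hY
    haveI := hMn
    set S := genSup A B Y
    set f := QuotientGroup.mk' M
    have hsurj : Function.Surjective f := QuotientGroup.mk'_surjective M
    have hcomm : ∀ x ∈ A, ∀ y ∈ A, x * y = y * x := fun x hx y hy =>
      congrArg Subtype.val (isMulCommutative_iff.1 hA ⟨x, hx⟩ ⟨y, hy⟩)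
    have hAM : (Nat.card A).Coprime (Nat.card M) := hcop.coprime_dvd_right (card_dvd_of_le hMY)
    haveI : (Y.map f).Normal := (inferInstance : Y.Normal).map f hsurj
    have hlt : Nat.card (Y.map f) ≤ n := by
      have h1 := CfsgLib.Coprime.card_eq_card_mul_card_map_mk' M hMY
      have h2 := one_lt_card_iff_ne_bot M |>.2 hM
      have : 0 < Nat.card (Y.map f) := Nat.card_pos
      nlinarith
    have hsol' : Group.IsSolvable (Y.map f) :=
      Group.isSolvable_of_surjective (f := f.subgroupMap Y) (f.subgroupMap_surjective Y)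
    haveI hA' : IsMulCommutative (A.map f) := isMulCommutative_iff.2 <| by
      rintro ⟨_, a, ha, rfl⟩ ⟨_, b, hb, rfl⟩
      exact Subtype.ext (by simp only [Subgroup.coe_mul, ← map_mul, hcomm a ha b hb])
    have hlift : ∀ (H C : Subgroup X), C ≤ A → C ≤ normalizer (H : Set X) → H ≤ Y → ∀ x ∈ H,
        f x ∈ centralizer ((C.map f : Subgroup _) : Set _) →
        ∃ y ∈ H ⊓ centralizer (C : Set X), f y = f x := by
      intro H C hCA hCH hHY x hx hfx
      obtain ⟨y, hy, hxy⟩ := exists_lift (M := M) hCH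
        ((hAM.coprime_dvd_left (card_dvd_of_le hCA)).coprime_dvd_right (card_dvd_of_le inf_le_left))
        (Coprime.isSolvable_of_le hCA (Coprime.isSolvable_of_isMulCommutative hA)) hx (fun c hc => by
          refine (QuotientGroup.eq_one_iff _).1 ?_
          show f (c * x * c⁻¹ * x⁻¹) = 1
          rw [map_mul, map_mul, map_mul, map_inv, map_inv, mul_inv_eq_one, mul_inv_eq_iff_eq_mul]
          exact mem_centralizer_iff.1 hfx _ (mem_map_of_mem f hc))
      exact ⟨y, hy, ((QuotientGroup.eq).2 hxy).symm⟩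
    have hgoal : (Y.map f) ⊓ centralizer ((B.map f : Subgroup _) : Set _) ≤ S.map f := by
      refine (ih _ (A.map f) (B.map f) (Y.map f) hlt hA' (map_mono hBA)
        (by rw [← Subgroup.map_sup, htop, map_top_of_surjective f hsurj])
        (Nat.Coprime.coprime_dvd_left (CfsgLib.Coprime.card_map_dvd_card f A)
          (hcop.coprime_dvd_right (CfsgLib.Coprime.card_map_dvd_card f Y)))
        hsol' (by rw [← Subgroup.map_commutator, hYA])).trans (iSup₂_le fun B₁ hB₁ => ?_)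
      obtain ⟨hB₁le, a', ⟨a, ha, rfl⟩, hB₁a⟩ := hB₁
      set B₀ := B ⊓ B₁.comap f
      have hB₀map : B₀.map f = B₁ := le_antisymm (by
        rintro _ ⟨b, hb, rfl⟩; exact hb.2) fun w hw => by
          obtain ⟨b, hb, rfl⟩ := hB₁le hw
          exact mem_map_of_mem f (mem_inf.2 ⟨hb, hw⟩)
      have hinj : ∀ x ∈ B, f x = 1 → x = 1 := fun x hx h => by
        have hxM : x ∈ A ⊓ M := mem_inf.2 ⟨hBA hx, (QuotientGroup.eq_one_iff x).1 h⟩
        rwa [Coprime.disjoint_of_coprime_card hAM, mem_bot] at hxM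
      have hB₀ : B₀ ∈ cocyclicSubgroups B := by
        refine ⟨inf_le_left, a, ha, le_antisymm (sup_le inf_le_left (zpowers_le.2 ha)) fun x hx => ?_⟩
        have h1 : f x ∈ (B₀ ⊔ zpowers a).map f := by
          rw [Subgroup.map_sup, hB₀map, MonoidHom.map_zpowers, hB₁a]
          exact mem_map_of_mem f hx
        obtain ⟨y, hy, hyx⟩ := h1
        have hyB : y ∈ B := sup_le (inf_le_left : B₀ ≤ B) (zpowers_le.2 ha) hy
        rw [← mul_inv_eq_one.1 (hinj (x * y⁻¹) (mul_mem hx (inv_mem hyB)) (by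
          rw [map_mul, map_inv, hyx, mul_inv_cancel]))] at hy
        exact hy
      have hK : Y.map f ⊓ centralizer (B₁ : Set (X ⧸ M)) ≤
          (Y ⊓ centralizer (B₀ : Set X)).map f := by
        rintro _ ⟨⟨y, hy, rfl⟩, hc⟩
        obtain ⟨y', hy', e⟩ := hlift Y B₀ (inf_le_left.trans hBA)
          ((normalizer_eq_top Y).symm ▸ le_top) le_rfl y hy (by rw [hB₀map]; exact hc)
        exact ⟨y', hy', e⟩
      intro w hw
      have hwK : w ∈ (locComm A B₀ Y).map f := by
        rw [show locComm A B₀ Y = ⁅Y ⊓ centralizer (B₀ : Set X), A⁆ from rfl, map_commutator]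
        exact commutator_mono hK le_rfl hw.2
      obtain ⟨k, hk, rfl⟩ := hwK
      obtain ⟨y, hy, e⟩ := hlift (locComm A B₀ Y) B hBA (by
          rw [show locComm A B₀ Y = ⁅Y ⊓ centralizer (B₀ : Set X), A⁆ from rfl, commutator_comm]
          exact hBA.trans (normalizer_commutator_ge_left A _))
        ((commutator_mono inf_le_left le_rfl).trans hYA.le) k hk hw.1.2
      exact ⟨y, le_genSup hB₀ (mem_inf.2 ⟨mem_inf.2
        ⟨hYA.le (commutator_mono inf_le_left le_rfl hy.1), hy.2⟩, hy.1⟩), e⟩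
    intro w hw
    obtain ⟨s, hs, e⟩ := hgoal (mem_inf.2 ⟨mem_map_of_mem f hw.1, by
      refine mem_centralizer_iff.2 ?_
      rintro _ ⟨b, hb, rfl⟩
      rw [← map_mul, ← map_mul, mem_centralizer_iff.1 hw.2 b hb]⟩ : f w ∈ _)
    have hsW : s ∈ Y ⊓ centralizer (B : Set X) := (iSup₂_le fun _ _ => inf_le_left : S ≤ _) hs
    have hm : s⁻¹ * w ∈ M ⊓ centralizer (B : Set X) := mem_inf.2
      ⟨QuotientGroup.eq.1 e, mul_mem (inv_mem hsW.2) hw.2⟩
    simpa using mul_mem hs (hMS hm)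

/-- `C_Y(B)` is generated by the `C_Y(B) ∩ [C_Y(B₀), A]`. -/
theorem centralizer_eq_iSup (hFT : OddSolvable.{u}) (A B Y : Subgroup X) (hA2 : IsPGroup 2 ↥A)
    (hAc : IsMulCommutative ↥A) (hB : B ≤ A) (hYodd : Odd (Nat.card ↥Y))
    (hAY : A ≤ Subgroup.normalizer (Y : Set X)) (hYA : ⁅Y, A⁆ = Y) :
    Y ⊓ centralizer (B : Set X) =
      ⨆ B₀ : {B₀ : Subgroup X // B₀ ≤ B ∧ ∀ [(B₀.subgroupOf B).Normal],
        IsCyclic (↥B ⧸ B₀.subgroupOf B)},
        Y ⊓ centralizer (B : Set X) ⊓ ⁅Y ⊓ centralizer ((B₀ : Subgroup X) : Set X), A⁆ := by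
  refine le_antisymm ?_ (iSup_le fun _ => inf_le_left)
  set L := Y ⊔ A with hL
  have hYL : Y ≤ L := le_sup_left
  have hAL : A ≤ L := le_sup_right
  have hBL : B ≤ L := hB.trans hAL
  haveI : (Y.subgroupOf L).Normal := (normal_subgroupOf_iff_le_normalizer hYL).2
    (sup_le le_normalizer hAY)
  have hinj := L.subtype_injective
  have hmap : ∀ H : Subgroup X, H ≤ L → (H.subgroupOf L).map L.subtype = H := fun H hH => by
    rw [subgroupOf_map_subtype, inf_eq_left.2 hH]
  have hcop : (Nat.card A).Coprime (Nat.card Y) := by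
    haveI : Fact (Nat.Prime 2) := ⟨Nat.prime_two⟩
    obtain ⟨k, hk⟩ := IsPGroup.iff_card.1 hA2
    rw [hk]
    exact (Nat.coprime_two_left.2 hYodd).pow_left k
  have hA' : IsMulCommutative (A.subgroupOf L) := isMulCommutative_iff.2 fun a b =>
    Subtype.ext (Subtype.ext (show ((a : L) : X) * ((b : L) : X) = ((b : L) : X) * ((a : L) : X) from
      congrArg Subtype.val (isMulCommutative_iff.1 hAc ⟨_, a.2⟩ ⟨_, b.2⟩)))
  have hsolv : Group.IsSolvable (Y.subgroupOf L) := hFT _ (by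
    rwa [Nat.card_congr (subgroupOfEquivOfLe hYL).toEquiv])
  have h := centralizer_generation _ L (A.subgroupOf L) (B.subgroupOf L) (Y.subgroupOf L) le_rfl hA'
    (subgroupOf_mono _ hB) (by
      refine map_injective hinj ?_
      rw [Subgroup.map_sup, hmap Y hYL, hmap A hAL, ← MonoidHom.range_eq_map, range_subtype])
    (by rwa [Nat.card_congr (subgroupOfEquivOfLe hYL).toEquiv,
      Nat.card_congr (subgroupOfEquivOfLe hAL).toEquiv]) hsolv (by
      refine map_injective hinj ?_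
      rw [map_commutator, hmap Y hYL, hmap A hAL, hYA])
  have hcen : ∀ (H : Subgroup L) (x : L), x ∈ centralizer (H : Set L) ↔
      (x : X) ∈ centralizer ((H.map L.subtype : Subgroup X) : Set X) := by
    intro H x
    simp only [mem_centralizer_iff, SetLike.mem_coe, mem_map]
    refine ⟨?_, fun h q hq => Subtype.ext (h q ⟨q, hq, rfl⟩)⟩
    rintro h _ ⟨q, hq, rfl⟩
    exact congrArg Subtype.val (h q hq)
  intro w hw
  have hwL : (⟨w, hYL hw.1⟩ : L) ∈ Y.subgroupOf L ⊓ centralizer ((B.subgroupOf L : Subgroup L) : Set L) :=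
    mem_inf.2 ⟨hw.1, (hcen _ _).2 (by rw [hmap B hBL]; exact hw.2)⟩
  suffices hle : genSup (A.subgroupOf L) (B.subgroupOf L) (Y.subgroupOf L) ≤ Subgroup.comap L.subtype
      (⨆ B₀ : {B₀ : Subgroup X // B₀ ≤ B ∧ ∀ [(B₀.subgroupOf B).Normal],
        IsCyclic (↥B ⧸ B₀.subgroupOf B)},
        Y ⊓ centralizer (B : Set X) ⊓ ⁅Y ⊓ centralizer ((B₀ : Subgroup X) : Set X), A⁆) from
    hle (h hwL)
  refine iSup₂_le fun B₁ hB₁ => ?_
  rw [← map_le_iff_le_comap (f := L.subtype)]
  have hle : B₁.map L.subtype ≤ B := (map_mono hB₁.1).trans (hmap B hBL).le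
  have hcyc : ∀ [((B₁.map L.subtype).subgroupOf B).Normal],
      IsCyclic (↥B ⧸ (B₁.map L.subtype).subgroupOf B) := by
    intro hn
    obtain ⟨a, ha, hsup⟩ := hB₁.2
    set H := (B₁.map L.subtype).subgroupOf B
    refine ⟨QuotientGroup.mk' H ⟨a, ha⟩, fun q => ?_⟩
    obtain ⟨b, rfl⟩ := QuotientGroup.mk'_surjective H q
    have hb : (⟨(b : X), hBL b.2⟩ : L) ∈ B₁ ⊔ zpowers a := hsup.symm ▸ b.2
    obtain ⟨k, hk, _, ⟨i, rfl⟩, he⟩ := Coprime.mem_sup_exists (N := B₁) (H := zpowers a) (by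
      rw [zpowers_le]
      refine mem_normalizer_fintype fun c hc => ?_
      rw [show a * c * a⁻¹ = c from mul_inv_eq_iff_eq_mul.2
        (congrArg Subtype.val (isMulCommutative_iff.1 hA' ⟨a, subgroupOf_mono _ hB ha⟩
          ⟨c, subgroupOf_mono _ hB (hB₁.1 hc)⟩))]
      exact hc) hb
    refine ⟨i, ?_⟩
    show (QuotientGroup.mk' H ⟨a, ha⟩) ^ i = _
    rw [← map_zpow, QuotientGroup.mk'_eq_mk']
    refine ⟨⟨(k : X), hle (mem_map_of_mem L.subtype hk)⟩, mem_map_of_mem L.subtype hk,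
      Subtype.ext ?_⟩
    have hcm : (a : X) ^ i * k = k * (a : X) ^ i := by
      have := congrArg Subtype.val (congrArg Subtype.val (isMulCommutative_iff.1 hA'
        ⟨a ^ i, zpow_mem (subgroupOf_mono _ hB ha) i⟩ ⟨k, subgroupOf_mono _ hB (hB₁.1 hk)⟩))
      simpa using this
    have := congrArg Subtype.val he
    simp only [Subgroup.coe_mul, SubgroupClass.coe_zpow] at this ⊢
    rw [hcm, this]
  refine le_trans ?_ (le_iSup (fun B₀ : {B₀ : Subgroup X // B₀ ≤ B ∧ ∀ [(B₀.subgroupOf B).Normal],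
      IsCyclic (↥B ⧸ B₀.subgroupOf B)} =>
      Y ⊓ centralizer (B : Set X) ⊓ ⁅Y ⊓ centralizer ((B₀ : Subgroup X) : Set X), A⁆)
    ⟨B₁.map L.subtype, hle, hcyc⟩)
  rintro _ ⟨x, ⟨⟨hxY, hxB⟩, hxK⟩, rfl⟩
  refine mem_inf.2 ⟨mem_inf.2 ⟨hxY, ?_⟩, ?_⟩
  · rw [← hmap B hBL]
    exact (hcen _ _).1 hxB
  · have h1 := mem_map_of_mem L.subtype hxK
    rw [show locComm (A.subgroupOf L) B₁ (Y.subgroupOf L) =
      ⁅Y.subgroupOf L ⊓ centralizer (B₁ : Set L), A.subgroupOf L⁆ from rfl, map_commutator,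
      hmap A hAL] at h1
    refine commutator_mono ?_ le_rfl h1
    rintro _ ⟨v, hv, rfl⟩
    exact mem_inf.2 ⟨hv.1, (hcen _ _).1 hv.2⟩

end CfsgLib.OddConseq
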