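import Cfsg.Agent.Lib.PGroup.JordanCover
import Mathlib.GroupTheory.Transfer
import Mathlib.GroupTheory.Sylow
import Mathlib.GroupTheory.Solvable
import Mathlib.GroupTheory.Index
import Mathlib.GroupTheory.QuotientGroup.Basic

/-!
# Groups in which no class size is divisible by four

With the odd order theorem as hypothesis such groups are solvable.  In a non-abelian simple
group of even order there is an element `z ≠ 1` such that every subgroup of index at most `2`
of a Sylow `2`-subgroup contains a conjugate of `z`: a square `≠ 1`, or any involution if the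
Sylow subgroup is elementary abelian (the product of the involutions of an odd fusion class
would otherwise survive the transfer).
-/

set_option autoImplicit false
set_option linter.style.haveILetI false

open Subgroup
open scoped IsMulCommutative

namespace CfsgLib.OddConseq.ClassFour

universe u

/-- The class size in a normal subgroup divides the class size. -/
theorem index_centralizer_normal_dvd {G : Type*} [Group G] [Finite G] (N : Subgroup G) [N.Normal]
    (x : N) : (centralizer ({x} : Set N)).index ∣ (centralizer ({(x : G)} : Set G)).index := by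
  set C := centralizer ({(x : G)} : Set G)
  have h1 : (centralizer ({x} : Set N)).index = C.relIndex N := by
    show _ = (C.subgroupOf N).index
    congr 1
    ext c
    simp only [C, mem_centralizer_singleton_iff, mem_subgroupOf, Subtype.ext_iff, Subgroup.coe_mul]
  have h2 : C.relIndex (N ⊔ C) * (N ⊔ C).index = C.index := relIndex_mul_index le_sup_right
  have h3 : C.relIndex N = C.relIndex (N ⊔ C) := by
    have e1 := relIndex_mul_relIndex (C ⊓ N) C (N ⊔ C) inf_le_left le_sup_right
    rw [show (C ⊓ N).relIndex C = N.relIndex C by rw [inf_comm, inf_relIndex_right]] at e1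
    have e2 := relIndex_mul_relIndex (C ⊓ N) N (N ⊔ C) inf_le_right le_sup_left
    rw [inf_relIndex_right, relIndex_sup_left] at e2
    rw [mul_comm] at e2
    exact Nat.eq_of_mul_eq_mul_left (Nat.pos_of_ne_zero (by
      rw [← relIndex_sup_left]; exact index_ne_zero_of_finite)) (e2.trans e1.symm)
  rw [h1, h3, ← h2]
  exact dvd_mul_right _ _

/-- The class size of an image divides that of the element. -/
theorem index_centralizer_map_dvd {G H : Type*} [Group G] [Group H] {f : G →* H}
    (hf : Function.Surjective f) (x : G) :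
    (centralizer ({f x} : Set H)).index ∣ (centralizer ({x} : Set G)).index := by
  refine (index_dvd_of_le ?_).trans (index_map_dvd _ hf)
  rintro _ ⟨c, hc, rfl⟩
  refine mem_centralizer_singleton_iff.2 ?_
  rw [← map_mul, mem_centralizer_singleton_iff.1 hc, map_mul]

variable {G : Type u} [Group G] [Finite G]

/-- The `2`-part of a class size being at most `2`, a subgroup of index at most `2` of the
fixed Sylow `2`-subgroup centralises a conjugate of the element. -/
theorem exists_conj_centralizes (S : Sylow 2 G) {x : G}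
    (hx : ¬ 4 ∣ (centralizer ({x} : Set G)).index) :
    ∃ (g : G) (M : Subgroup G), M ≤ (S : Subgroup G) ∧ M.relIndex (S : Subgroup G) ∣ 2 ∧
      ∀ m ∈ M, g * m * g⁻¹ * x = x * (g * m * g⁻¹) := by
  set C := centralizer ({x} : Set G)
  let Q : Sylow 2 C := default
  set Q' := (Q : Subgroup C).map C.subtype with hQ'
  obtain ⟨T, hT⟩ := (Q.isPGroup'.map C.subtype : IsPGroup 2 Q').exists_le_sylow
  have hidx : Q'.relIndex (T : Subgroup G) ∣ 2 := by
    obtain ⟨n, hn⟩ := T.isPGroup'.index (Q'.subgroupOf (T : Subgroup G))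
    change Q'.relIndex (T : Subgroup G) = 2 ^ n at hn
    rw [hn]
    have hd : 2 ^ n ∣ Q'.index := hn ▸ ⟨_, (relIndex_mul_index hT).symm⟩
    rw [hQ', index_map_subtype] at hd
    have hd2 : 2 ^ n ∣ C.index := by
      refine (Nat.Coprime.pow_left n ?_).dvd_of_dvd_mul_left hd
      exact Nat.prime_two.coprime_iff_not_dvd.2 Q.not_dvd_index
    rcases n with _ | _ | n
    · simp
    · simp
    · exact absurd ((dvd_mul_left 4 (2 ^ n)).trans (by rw [show 2 ^ n * 4 = 2 ^ (n + 2) by ring]; exact hd2)) hx
  obtain ⟨g, hg⟩ := MulAction.exists_smul_eq G S T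
  have hconj : (T : Subgroup G) = (S : Subgroup G).map (MulAut.conj g).toMonoidHom := by
    rw [← hg]; rfl
  refine ⟨g, Q'.comap (MulAut.conj g).toMonoidHom, ?_, ?_, fun m hm => ?_⟩
  · intro m hm
    have h := hT hm
    rw [hconj] at h
    obtain ⟨s, hs, hse⟩ := h
    rwa [(MulAut.conj g).injective hse] at hs
  · rw [relIndex_comap, ← hconj]
    exact hidx
  · obtain ⟨c, -, hc⟩ := hm
    have h := mem_centralizer_singleton_iff.1 c.2
    simp only [coe_subtype, MulEquiv.coe_toMonoidHom, MulAut.conj_apply] at hc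
    rwa [hc] at h

/-- In a non-abelian simple group with elementary abelian Sylow `2`-subgroup, every subgroup
of index at most `2` of it contains a conjugate of any given element of it. -/
theorem exists_isConj_mem_of_sq_eq_one (hsimp : ∀ N : Subgroup G, N.Normal → N = ⊥ ∨ N = ⊤)
    (hnc : ¬ IsMulCommutative G) (S : Sylow 2 G) (hsq : ∀ a ∈ (S : Subgroup G), a ^ 2 = 1)
    {t : G} (ht : t ∈ (S : Subgroup G)) {M : Subgroup G} (hMS : M ≤ (S : Subgroup G))
    (hM : M.relIndex (S : Subgroup G) ∣ 2) : ∃ c ∈ M, IsConj t c := by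
  classical
  by_contra hcon
  push Not at hcon
  have hM2 : M.relIndex (S : Subgroup G) = 2 := by
    rcases (Nat.dvd_prime Nat.prime_two).1 hM with h | h
    · exact absurd (IsConj.refl t) (hcon t (relIndex_eq_one.1 h ht))
    · exact h
  haveI hScomm : IsMulCommutative (S : Subgroup G) := ⟨⟨fun a b => Subtype.ext <| by
    have hinv : ∀ c ∈ (S : Subgroup G), c⁻¹ = c := fun c hc =>
      inv_eq_of_mul_eq_one_right (by rw [← pow_two]; exact hsq c hc)
    have h := hinv _ (mul_mem a.2 b.2)
    rw [mul_inv_rev, hinv _ a.2, hinv _ b.2] at h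
    simpa using h.symm⟩⟩
  have hScen : (S : Subgroup G) ≤ centralizer ((S : Subgroup G) : Set G) := fun a ha =>
    mem_centralizer_iff.2 fun b hb =>
      congrArg Subtype.val (hScomm.is_comm.comm (⟨b, hb⟩ : (S : Subgroup G)) ⟨a, ha⟩)
  have hScz : ∀ a ∈ (S : Subgroup G), (S : Subgroup G) ≤ centralizer ({a} : Set G) :=
    fun a ha b hb => mem_centralizer_singleton_iff.2
      ((mem_centralizer_iff.1 (hScen ha)) b hb)
  -- the fusion class
  haveI := Fintype.ofFinite (S : Subgroup G)
  let O : Finset (S : Subgroup G) := Finset.univ.filter fun a => IsConj t (a : G)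
  have hfus : ∀ a b : G, a ∈ (S : Subgroup G) → b ∈ (S : Subgroup G) → IsConj a b →
      ∃ n ∈ normalizer ((S : Subgroup G) : Set G), n * a * n⁻¹ = b := by
    intro a b ha hb hab
    obtain ⟨g, hg⟩ := isConj_iff.1 hab
    have hb' : (g⁻¹)⁻¹ * a * g⁻¹ ∈ centralizer ((S : Subgroup G) : Set G) := by
      rw [inv_inv, hg]; exact hScen hb
    obtain ⟨n, hn, e⟩ := S.conj_eq_normalizer_conj_of_mem_centralizer a g⁻¹ (hScen ha) hb'
    refine ⟨n⁻¹, inv_mem hn, ?_⟩
    rw [inv_inv, ← hg]
    rw [inv_inv] at e
    exact e.symm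
  have hnS : ∀ n ∈ normalizer ((S : Subgroup G) : Set G), ∀ a : (S : Subgroup G),
      n * (a : G) * n⁻¹ ∈ (S : Subgroup G) := fun n hn a =>
    (mem_normalizer_iff.1 hn a).1 a.2
  -- its size is odd
  have hodd : Odd O.card := by
    set N := normalizer ((S : Subgroup G) : Set G)
    set K := (centralizer ({t} : Set G)).subgroupOf N
    have hK : ¬ 2 ∣ K.index := fun h => S.not_dvd_index <| by
      refine h.trans ?_
      refine dvd_trans ?_ (relIndex_dvd_index_of_le le_normalizer)
      exact relIndex_dvd_of_le_left N (hScz t ht)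
    let f : N ⧸ K → O := fun q => ⟨⟨(q.out : G) * t * (q.out : G)⁻¹, hnS _ q.out.2 ⟨t, ht⟩⟩,
      Finset.mem_filter.2 ⟨Finset.mem_univ _, isConj_iff.2 ⟨_, rfl⟩⟩⟩
    have key : ∀ a b : N, (a : G) * t * (a : G)⁻¹ = b * t * (b : G)⁻¹ ↔ a⁻¹ * b ∈ K := by
      intro a b
      rw [mem_subgroupOf, mem_centralizer_singleton_iff]
      push_cast
      constructor
      · intro h
        calc (a : G)⁻¹ * b * t = (a : G)⁻¹ * (b * t * (b : G)⁻¹) * b := by group
          _ = t * ((a : G)⁻¹ * b) := by rw [← h]; group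
      · intro h
        calc (a : G) * t * (a : G)⁻¹ = a * (t * ((a : G)⁻¹ * b)) * (b : G)⁻¹ := by group
          _ = b * t * (b : G)⁻¹ := by rw [← h]; group
    have hf : Function.Bijective f := by
      constructor
      · intro p q hpq
        have h := (key p.out q.out).1 (congrArg (fun o : O => ((o.1 : (S : Subgroup G)) : G)) hpq)
        have := QuotientGroup.eq.2 h
        rwa [QuotientGroup.out_eq', QuotientGroup.out_eq'] at this
      · rintro ⟨a, ha⟩
        obtain ⟨n, hn, hna⟩ := hfus t a ht a.2 (Finset.mem_filter.1 ha).2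
        refine ⟨((⟨n, hn⟩ : N) : N ⧸ K), Subtype.ext (Subtype.ext ?_)⟩
        refine Eq.trans ((key _ ⟨n, hn⟩).2 ?_) hna
        exact QuotientGroup.eq.1 (QuotientGroup.out_eq' _)
    have hcard : Nat.card (N ⧸ K) = O.card := by
      rw [Nat.card_congr (Equiv.ofBijective f hf), Nat.card_eq_fintype_card, Fintype.card_coe]
    rw [Nat.odd_iff]
    have : ¬ 2 ∣ O.card := by rwa [← hcard, ← index_eq_card]
    omega
  -- the product of the class
  let v : (S : Subgroup G) := ∏ a ∈ O, a
  have hv : v ≠ 1 := by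
    intro hv1
    have hout : ∀ a ∈ O, a ∉ M.subgroupOf (S : Subgroup G) := fun a ha hm =>
      hcon _ hm (Finset.mem_filter.1 ha).2
    have par : ∀ T : Finset (S : Subgroup G), T ⊆ O →
        ((∏ a ∈ T, a) ∈ M.subgroupOf (S : Subgroup G) ↔ Even T.card) := by
      intro T
      induction T using Finset.induction with
      | empty => simp
      | insert a T ha ih =>
        intro hT
        rw [Finset.prod_insert ha, Finset.card_insert_of_notMem ha,
          mul_mem_iff_of_index_two hM2, Nat.even_add_one, ← ih fun b hb => hT (Finset.mem_insert_of_mem hb)]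
        simp [hout a (hT (Finset.mem_insert_self a T))]
    have := (par O subset_rfl).1 (by show v ∈ _; rw [hv1]; exact one_mem _)
    exact Nat.not_even_iff_odd.2 hodd this
  -- it is fixed by the normaliser
  have hvfix : ∀ n ∈ normalizer ((S : Subgroup G) : Set G), n * (v : G) * n⁻¹ = v := by
    intro n hn
    let φ : (S : Subgroup G) →* (S : Subgroup G) :=
      { toFun := fun a => ⟨n * a * n⁻¹, hnS n hn a⟩
        map_one' := Subtype.ext (by simp)
        map_mul' := fun a b => Subtype.ext (by simp [mul_assoc]) }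
    have hφ : φ v = v := by
      show φ (∏ a ∈ O, a) = _
      rw [map_prod]
      refine Finset.prod_bij (fun a _ => φ a) (fun a ha => ?_) (fun a _ b _ h => ?_)
        (fun b hb => ?_) (fun a _ => rfl)
      · exact Finset.mem_filter.2 ⟨Finset.mem_univ _, (Finset.mem_filter.1 ha).2.trans
          (isConj_iff.2 ⟨n, rfl⟩)⟩
      · exact Subtype.ext (mul_left_cancel (mul_right_cancel (congrArg Subtype.val h)))
      · refine ⟨⟨n⁻¹ * b * n⁻¹⁻¹, hnS _ (inv_mem hn) b⟩,
          Finset.mem_filter.2 ⟨Finset.mem_univ _, (Finset.mem_filter.1 hb).2.trans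
            (isConj_iff.2 ⟨n⁻¹, rfl⟩)⟩, Subtype.ext ?_⟩
        show n * (n⁻¹ * b * n⁻¹⁻¹) * n⁻¹ = b
        group
    exact congrArg Subtype.val hφ
  -- transfer
  let τ := MonoidHom.transfer (MonoidHom.id (S : Subgroup G))
  have key : ∀ (k : ℕ) (g₀ : G), g₀⁻¹ * (v : G) ^ k * g₀ ∈ (S : Subgroup G) →
      g₀⁻¹ * (v : G) ^ k * g₀ = (v : G) ^ k := by
    intro k g₀ hk
    obtain ⟨n, hn, hne⟩ := hfus _ _ (pow_mem v.2 k) hk (isConj_iff.2 ⟨g₀⁻¹, by group⟩)
    rw [← hne, ← conj_pow, hvfix n hn]
  rcases hsimp τ.ker inferInstance with hker | hker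
  · refine hnc ⟨⟨fun a b => (MonoidHom.ker_eq_bot_iff τ).1 hker ?_⟩⟩
    rw [map_mul, map_mul]
    exact hScomm.is_comm.comm _ _
  · have h := MonoidHom.transfer_eq_pow (MonoidHom.id (S : Subgroup G)) (v : G) key
    have h' : τ (v : G) = 1 := MonoidHom.mem_ker.1 (hker ▸ mem_top _)
    have hpow : (v : G) ^ (S : Subgroup G).index = 1 :=
      congrArg Subtype.val (h.symm.trans h')
    obtain ⟨j, hj⟩ : Odd (S : Subgroup G).index := Nat.odd_iff.2 (by have := S.not_dvd_index; omega)
    rw [hj, pow_succ, pow_mul, hsq _ v.2, one_pow, one_mul] at hpow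
    exact hv (Subtype.ext hpow)

/-- No non-abelian simple group of even order has all class sizes prime to `4`. -/
theorem false_of_simple (hsimp : ∀ N : Subgroup G, N.Normal → N = ⊥ ∨ N = ⊤)
    (hnc : ¬ IsMulCommutative G) (heven : 2 ∣ Nat.card G)
    (h : ∀ x : G, ¬ 4 ∣ (centralizer ({x} : Set G)).index) : False := by
  classical
  let S : Sylow 2 G := default
  have hSne : (S : Subgroup G) ≠ ⊥ := by
    intro e
    apply S.not_dvd_index
    rwa [e, index_bot]
  obtain ⟨z, hz1, hz⟩ : ∃ z : G, z ≠ 1 ∧ ∀ M : Subgroup G, M ≤ (S : Subgroup G) →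
      M.relIndex (S : Subgroup G) ∣ 2 → ∃ c ∈ M, IsConj z c := by
    by_cases hsq : ∀ a ∈ (S : Subgroup G), a ^ 2 = 1
    · obtain ⟨⟨t, ht⟩, hne⟩ := (ne_bot_iff_exists_ne_one).1 hSne
      exact ⟨t, fun e => hne (Subtype.ext e), fun M hM h2 =>
        exists_isConj_mem_of_sq_eq_one hsimp hnc S hsq ht hM h2⟩
    · push Not at hsq
      obtain ⟨a, ha, ha1⟩ := hsq
      refine ⟨a ^ 2, ha1, fun M hM h2 => ⟨a ^ 2, ?_, IsConj.refl _⟩⟩
      rcases (Nat.dvd_prime Nat.prime_two).1 h2 with h1 | h1
      · exact relIndex_eq_one.1 h1 (pow_mem ha 2)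
      · exact sq_mem_of_index_two h1 ⟨a, ha⟩
  have hall : ∀ x : G, ∃ c : G, c⁻¹ * x * c ∈ centralizer ({z} : Set G) := by
    intro x
    obtain ⟨g, M, hM, h2, hcen⟩ := exists_conj_centralizes S (h x)
    obtain ⟨c, hc, hzc⟩ := hz M hM h2
    obtain ⟨w, hw⟩ := isConj_iff.1 hzc
    refine ⟨g * w, mem_centralizer_singleton_iff.2 ?_⟩
    have := hcen c hc
    rw [← hw] at this
    calc (g * w)⁻¹ * x * (g * w) * z
        = (g * w)⁻¹ * (x * (g * (w * z * w⁻¹) * g⁻¹)) * (g * w) := by group
      _ = z * ((g * w)⁻¹ * x * (g * w)) := by rw [← this]; group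
  have htop := PGroup.eq_top_of_forall_conj_mem _ hall
  have hzc : z ∈ center G := mem_center_iff.2 fun g =>
    (mem_centralizer_singleton_iff.1 (htop ▸ mem_top g))
  rcases hsimp (center G) inferInstance with e | e
  · exact hz1 (mem_bot.1 (e ▸ hzc))
  · exact hnc ⟨⟨fun a b => ((mem_center_iff.1 (e ▸ mem_top b : b ∈ center G)) a)⟩⟩

/-- Groups in which no class size is divisible by `4` are solvable. -/
theorem isSolvable_aux
    (hFT : ∀ (K : Type u) [Group K] [Finite K], Odd (Nat.card K) → Group.IsSolvable K) (n : ℕ) :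
    ∀ (G : Type u) [Group G] [Finite G], Nat.card G = n →
      (∀ x : G, ¬ 4 ∣ (centralizer ({x} : Set G)).index) → Group.IsSolvable G := by
  induction n using Nat.strong_induction_on with
  | _ n ih =>
    intro G _ _ hn h
    by_cases hN : ∃ N : Subgroup G, N.Normal ∧ N ≠ ⊥ ∧ N ≠ ⊤
    · obtain ⟨N, hNn, hN1, hN2⟩ := hN
      haveI := hNn
      have h1 : 2 ≤ Nat.card N := (one_lt_card_iff_ne_bot N).2 hN1
      have h2 : 2 ≤ N.index := one_lt_index_of_ne_top hN2
      have h3 : Nat.card N * N.index = n := hn ▸ N.card_mul_index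
      haveI : Group.IsSolvable N := ih _ (by nlinarith) N rfl
        fun x hx => h _ (hx.trans (index_centralizer_normal_dvd N x))
      haveI : Group.IsSolvable (G ⧸ N) := ih _ (by nlinarith) (G ⧸ N) N.index_eq_card.symm
        fun x hx => by
          obtain ⟨y, rfl⟩ := QuotientGroup.mk'_surjective N x
          exact h _ (hx.trans (index_centralizer_map_dvd (QuotientGroup.mk'_surjective N) y))
      exact Group.isSolvable_of_ker_le_range N.subtype (QuotientGroup.mk' N)
        (by rw [QuotientGroup.ker_mk', range_subtype])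
    push Not at hN
    by_cases hc : IsMulCommutative G
    · exact Group.isSolvable_of_comm fun a b => hc.is_comm.comm a b
    by_cases h2 : 2 ∣ Nat.card G
    · exact (false_of_simple (fun N hNn => (em (N = ⊥)).imp_right (hN N hNn)) hc h2 h).elim
    · exact hFT G (Nat.odd_iff.2 (by omega))

/-- Groups in which no class size is divisible by `4` are solvable. -/
theorem isSolvable (hFT : ∀ (K : Type u) [Group K] [Finite K], Odd (Nat.card K) → Group.IsSolvable K)
    (h : ∀ x : G, ¬ 4 ∣ (centralizer ({x} : Set G)).index) : Group.IsSolvable G :=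
  isSolvable_aux hFT _ G rfl h

end CfsgLib.OddConseq.ClassFour
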