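import Cfsg.Agent.Lib.OddConseq.Basic
import Cfsg.Agent.Lib.Invol.InvDerange
import Mathlib.GroupTheory.Transfer
import Mathlib.GroupTheory.Commutator.Basic

/-!
# Groups with no class size divisible by `4`

Modulo the odd order theorem such a group is solvable: in a simple group with this property every
element would be centralized by a conjugate of one fixed non-identity `2`-element.
-/

set_option autoImplicit false
set_option linter.style.haveILetI false
set_option linter.unusedSectionVars false

open Subgroup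
open scoped commutatorElement

namespace CfsgLib.OddConseq

universe u

variable {G : Type u} [Group G] [Finite G]

/-- A finite group is not covered by the conjugates of a proper subgroup. -/
theorem exists_not_conj_mem {H : Subgroup G} (hH : H ≠ ⊤) :
    ∃ x : G, ∀ g : G, g⁻¹ * x * g ∉ H := by
  classical
  haveI := Fintype.ofFinite G
  haveI := Fintype.ofFinite (G ⧸ H)
  by_contra hall
  push_neg at hall
  have hnd : ∀ x : G, 1 ≤ CfsgLib.Invol.InvDerange.fx (G ⧸ H) x := by
    intro x
    obtain ⟨g, hg⟩ := hall x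
    refine CfsgLib.Invol.InvDerange.fx_pos fun hd => hd (g : G ⧸ H) ?_
    show ((x * g : G) : G ⧸ H) = g
    rw [eq_comm, QuotientGroup.eq, ← mul_assoc]
    exact hg
  have hsum := CfsgLib.Invol.InvDerange.sum_fx_univ (G := G) (Ω := G ⧸ H)
  have hbig : 2 ≤ Fintype.card (G ⧸ H) := by
    have h1 := (Subgroup.one_lt_index_of_ne_top hH).ne'
    have h2 := H.index_ne_zero_of_finite
    rw [Subgroup.index_eq_card, Nat.card_eq_fintype_card] at h1 h2
    omega
  have : ∑ _x : G, 1 < ∑ x : G, CfsgLib.Invol.InvDerange.fx (G ⧸ H) x :=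
    Finset.sum_lt_sum (fun x _ => hnd x) ⟨1, Finset.mem_univ _, by rw [CfsgLib.Invol.InvDerange.fx_one]; omega⟩
  rw [hsum, Finset.sum_const, Finset.card_univ, smul_eq_mul, mul_one] at this
  exact lt_irrefl _ this

/-- A weight: no class size is divisible by `4`. -/
def NoFour (G : Type*) [Group G] : Prop :=
  ∀ x : G, ¬ 4 ∣ (centralizer ({x} : Set G)).index

theorem NoFour.subgroup (h : NoFour G) (N : Subgroup G) [N.Normal] : NoFour N := by
  intro x hdvd
  refine h (x : G) (hdvd.trans ?_)
  have e : centralizer ({x} : Set N) = (centralizer ({(x : G)} : Set G)).subgroupOf N := by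
    ext y
    rw [mem_centralizer_singleton_iff, mem_subgroupOf, mem_centralizer_singleton_iff, Subtype.ext_iff]
    rfl
  rw [e, ← relIndex]
  set C := centralizer ({(x : G)} : Set G)
  have h1 : C.relIndex N * N.index = (C ⊓ N).index := by
    rw [← inf_relIndex_right, relIndex_mul_index inf_le_right]
  have h2 : N.relIndex C * C.index = (C ⊓ N).index := by
    rw [← inf_relIndex_right N C, inf_comm, relIndex_mul_index inf_le_left]
  obtain ⟨r, hr⟩ := relIndex_dvd_index_of_normal (H := N) (K := C)
  rw [hr, ← mul_assoc, mul_comm (C.relIndex N), mul_assoc, ← h2] at h1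
  refine Dvd.intro r ?_
  exact Nat.eq_of_mul_eq_mul_left (Nat.pos_of_ne_zero fun e0 => N.index_ne_zero_of_finite (by rw [hr, e0, zero_mul])) h1

theorem NoFour.quotient (h : NoFour G) (N : Subgroup G) [N.Normal] : NoFour (G ⧸ N) := by
  intro q hdvd
  obtain ⟨x, rfl⟩ := QuotientGroup.mk'_surjective N q
  refine h x (hdvd.trans ?_)
  refine (index_dvd_of_le ?_).trans (index_map_dvd _ (QuotientGroup.mk'_surjective N))
  rintro _ ⟨y, hy, rfl⟩
  refine mem_centralizer_singleton_iff.2 ?_
  rw [← map_mul, ← map_mul, mem_centralizer_singleton_iff.1 hy]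

theorem exists_sylow_part (h : NoFour G) (S : Sylow 2 G) (x : G) :
    ∃ (g : G) (U : Subgroup (S : Subgroup G)), U.index ∣ 2 ∧
      ∀ u ∈ U, Commute (g * (u : G) * g⁻¹) x := by
  haveI : Fact (Nat.Prime 2) := ⟨Nat.prime_two⟩
  set C := centralizer ({x} : Set G) with hC
  obtain ⟨T⟩ : Nonempty (Sylow 2 C) := inferInstance
  obtain ⟨R, hR⟩ := (T.2.map C.subtype).exists_le_sylow
  obtain ⟨c, rfl⟩ := MulAction.exists_smul_eq G S R
  set W := ((T : Subgroup C).map C.subtype).comap (MulAut.conj c).toMonoidHom with hW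
  refine ⟨c, W.subgroupOf (S : Subgroup G), ?_, fun u hu => ?_⟩
  · have hWS : W ≤ (S : Subgroup G) := fun w hw => by
      have h1 : MulAut.conj c w ∈ ((c • S : Sylow 2 G) : Subgroup G) := hR hw
      rw [Sylow.coe_subgroup_smul] at h1
      obtain ⟨s, hs, hse⟩ := h1
      have : s = w := (MulAut.conj c).injective hse
      exact this ▸ hs
    have hWc : Nat.card W = Nat.card (T : Subgroup C) := by
      rw [hW, show (MulAut.conj c).toMonoidHom = ((MulAut.conj c : G ≃* G) : G →* G) from rfl, comap_equiv_eq_map_symm, card_map_of_injective (MulEquiv.injective _),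
        card_map_of_injective C.subtype_injective]
    obtain ⟨k, hk⟩ := T.2.exists_card_eq
    obtain ⟨n, hn⟩ := S.2.exists_card_eq
    have h1 := card_mul_index (W.subgroupOf (S : Subgroup G))
    rw [Nat.card_congr (subgroupOfEquivOfLe hWS).toEquiv, hWc, hk, hn] at h1
    obtain ⟨i, hi, hie⟩ := (Nat.dvd_prime_pow Nat.prime_two).1
      (Dvd.intro_left _ h1 : (W.subgroupOf (S : Subgroup G)).index ∣ 2 ^ n)
    rw [hie, ← pow_add] at h1
    have hki : k + i = n := Nat.pow_right_injective le_rfl h1
    rw [hie]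
    have hkn : n ≤ k + 1 := by
      by_contra hlt
      refine h x ?_
      have hCc := C.card_mul_index
      have hk' : 2 ^ k = 2 ^ (Nat.card C).factorization 2 := by rw [← hk, T.card_eq_multiplicity]
      have hn' : 2 ^ n = 2 ^ (Nat.card G).factorization 2 := by rw [← hn, S.card_eq_multiplicity]
      have e := congrArg (fun m => m.factorization 2) hCc
      simp only [Nat.factorization_mul Nat.card_pos.ne' C.index_ne_zero_of_finite, Finsupp.add_apply,
        ← Nat.pow_right_injective le_rfl hk', ← Nat.pow_right_injective le_rfl hn'] at e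
      have : 2 ^ 2 ∣ C.index :=
        (Nat.prime_two.pow_dvd_iff_le_factorization C.index_ne_zero_of_finite).2 (by omega)
      simpa using this
    exact (pow_dvd_pow 2 (show i ≤ 1 by omega)).trans (by simp)
  · obtain ⟨t, ht, hte⟩ := (mem_subgroupOf.1 hu : (u : G) ∈ W)
    have h2 : (t : G) ∈ C := t.2
    have h3 : c * (u : G) * c⁻¹ = (t : G) := hte.symm
    rw [h3]
    exact mem_centralizer_singleton_iff.1 h2

/-- No simple group with non-commuting elements has this property. -/
theorem not_noFour_of_simple (hFT : OddSolvable.{u}) [IsSimpleGroup G]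
    (hG : ¬ ∀ a b : G, a * b = b * a) : ¬ NoFour G := by
  intro h
  classical
  haveI : Fact (Nat.Prime 2) := ⟨Nat.prime_two⟩
  obtain ⟨S⟩ : Nonempty (Sylow 2 G) := inferInstance
  have hZ : center G = ⊥ := by
    rcases (inferInstance : (center G).Normal).eq_bot_or_eq_top with h1 | h1
    · exact h1
    · exact absurd (fun a b => (mem_center_iff.1 (h1 ▸ mem_top b) a)) hG
  -- it suffices to find one element conjugate into every large subgroup of `S`
  suffices key : ∃ z : G, z ≠ 1 ∧ ∀ U : Subgroup (S : Subgroup G), U.index ∣ 2 →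
      ∃ u ∈ U, IsConj z (u : G) by
    obtain ⟨z, hz1, hz⟩ := key
    have hprop : centralizer ({z} : Set G) ≠ ⊤ := fun htop => hz1 (by
      have : z ∈ center G := mem_center_iff.2 fun g =>
        mem_centralizer_singleton_iff.1 (htop ▸ mem_top g)
      rwa [hZ, mem_bot] at this)
    obtain ⟨x, hx⟩ := exists_not_conj_mem hprop
    obtain ⟨g, U, hU, hUc⟩ := exists_sylow_part h S x
    obtain ⟨u, hu, hzu⟩ := hz U hU
    obtain ⟨d, hd⟩ := isConj_iff.1 hzu
    refine hx (g * d) (mem_centralizer_singleton_iff.2 ?_)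
    have hc := hUc u hu
    rw [← hd, show g * (d * z * d⁻¹) * g⁻¹ = (g * d) * z * (g * d)⁻¹ by group] at hc
    calc (g * d)⁻¹ * x * (g * d) * z = (g * d)⁻¹ * (x * ((g * d) * z * (g * d)⁻¹)) * (g * d) := by group
      _ = (g * d)⁻¹ * (((g * d) * z * (g * d)⁻¹) * x) * (g * d) := by rw [hc.eq]
      _ = z * ((g * d)⁻¹ * x * (g * d)) := by group
  by_cases hexp : ∃ s : (S : Subgroup G), s * s ≠ 1
  · obtain ⟨s, hs⟩ := hexp
    refine ⟨((s * s : (S : Subgroup G)) : G), fun e => hs (Subtype.ext e), fun U hU => ⟨s * s, ?_, IsConj.refl _⟩⟩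
    rcases (Nat.dvd_prime Nat.prime_two).1 hU with h1 | h1
    · rw [index_eq_one.1 h1]; exact mem_top _
    · exact Subgroup.mul_self_mem_of_index_two h1 s
  push_neg at hexp
  haveI hcomm : IsMulCommutative (S : Subgroup G) := ⟨⟨fun a b => by
    have h1 : ∀ w : (S : Subgroup G), w⁻¹ = w := fun w => inv_eq_of_mul_eq_one_right (hexp w)
    calc a * b = (a * b)⁻¹ := (h1 _).symm
      _ = b * a := by rw [mul_inv_rev, h1, h1]⟩⟩
  set N := normalizer ((S : Subgroup G) : Set G) with hN
  have hfix : ∀ s ∈ (S : Subgroup G), (∀ n ∈ N, n * s * n⁻¹ = s) → s = 1 := by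
    intro s hs hsn
    have hperf : commutator G = ⊤ := by
      rcases (inferInstance : (commutator G).Normal).eq_bot_or_eq_top with h1 | h1
      · exact absurd (fun a b => by
          have : ⁅a, b⁆ ∈ commutator G := commutator_mem_commutator (mem_top a) (mem_top b)
          rw [h1, mem_bot, commutatorElement_eq_one_iff_mul_comm] at this
          exact this) hG
      · exact h1
    open scoped IsMulCommutative in
    have h1 : MonoidHom.transfer (MonoidHom.id (S : Subgroup G)) s = 1 :=
      Abelianization.commutator_subset_ker _ (hperf ▸ mem_top s)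
    open scoped IsMulCommutative in
    rw [MonoidHom.transfer_eq_pow _ _ fun k g₀ hk => by
      obtain ⟨n, hn, hne⟩ := S.conj_eq_normalizer_conj_of_mem (s ^ k) g₀ (pow_mem hs k) hk
      rw [hne]
      have h2 : n⁻¹ * s * n = s := by simpa using hsn n⁻¹ (inv_mem hn)
      calc n⁻¹ * s ^ k * n = (n⁻¹ * s * n) ^ k := by
            conv_rhs => rw [show n⁻¹ * s * n = n⁻¹ * s * (n⁻¹)⁻¹ by rw [inv_inv], conj_pow, inv_inv]
        _ = s ^ k := by rw [h2]] at h1
    have h2 : s ^ (S : Subgroup G).index = 1 := congrArg Subtype.val h1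
    obtain ⟨k, hk⟩ := S.2 ⟨s, hs⟩
    exact orderOf_eq_one_iff.1 (Nat.eq_one_of_dvd_coprimes
      ((Nat.prime_two.coprime_iff_not_dvd.2 S.not_dvd_index).pow_left k)
      (orderOf_dvd_of_pow_eq_one (congrArg Subtype.val hk)) (orderOf_dvd_of_pow_eq_one h2))
  obtain ⟨z, hz1⟩ : ∃ z : (S : Subgroup G), z ≠ 1 := by
    have h2 : 2 ∣ Nat.card G := (even_of_simple hFT hG).two_dvd
    obtain ⟨w, hw⟩ := exists_prime_orderOf_dvd_card' (G := (S : Subgroup G)) 2 (by
      rw [S.card_eq_multiplicity]
      exact dvd_pow_self 2 (Nat.prime_two.factorization_pos_of_dvd Nat.card_pos.ne' h2).ne')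
    exact ⟨w, fun e => by rw [e, orderOf_one] at hw; omega⟩
  refine ⟨z, by simpa using hz1, fun U hU => ?_⟩
  haveI := Fintype.ofFinite G
  set O : Finset (S : Subgroup G) := Finset.univ.filter fun u => ∃ n ∈ N, n * (z : G) * n⁻¹ = u with hO
  by_contra hno
  push_neg at hno
  have hnot : ∀ u ∈ O, u ∉ U := fun u hu huU => by
    obtain ⟨n, -, hn⟩ := (Finset.mem_filter.1 hu).2
    exact hno u huU (isConj_iff.2 ⟨n, hn⟩)
  have hnS : ∀ n ∈ N, ∀ u : (S : Subgroup G), n * (u : G) * n⁻¹ ∈ (S : Subgroup G) := fun n hn u =>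
    (mem_normalizer_iff.1 hn u).1 u.2
  -- the number of conjugates is odd
  have hodd : Odd O.card := by
    have hstab : O.card = (centralizer ({(z : G)} : Set G)).relIndex N := by
      let f : N ⧸ (centralizer ({(z : G)} : Set G)).subgroupOf N → (S : Subgroup G) := fun q =>
        Quotient.liftOn' q (fun n => ⟨(n : G) * z * (n : G)⁻¹, hnS n n.2 z⟩) fun a b hab => by
          rw [QuotientGroup.leftRel_apply, mem_subgroupOf, mem_centralizer_singleton_iff] at hab
          refine Subtype.ext ?_
          have h1 : (a : G)⁻¹ * b * z = z * ((a : G)⁻¹ * b) := hab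
          calc (a : G) * z * (a : G)⁻¹ = (a : G) * (z * ((a : G)⁻¹ * b)) * (b : G)⁻¹ := by group
            _ = (a : G) * ((a : G)⁻¹ * b * z) * (b : G)⁻¹ := by rw [h1]
            _ = _ := by group
      have hf : Function.Injective f := by
        intro q q'
        induction q using QuotientGroup.induction_on with | _ a => ?_
        induction q' using QuotientGroup.induction_on with | _ b => ?_
        intro hab
        have h1 : (a : G) * z * (a : G)⁻¹ = (b : G) * z * (b : G)⁻¹ := congrArg Subtype.val hab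
        refine QuotientGroup.eq.2 (mem_subgroupOf.2 (mem_centralizer_singleton_iff.2 ?_))
        show (a : G)⁻¹ * b * z = z * ((a : G)⁻¹ * b)
        calc (a : G)⁻¹ * b * z = (a : G)⁻¹ * ((b : G) * z * (b : G)⁻¹) * b := by group
          _ = (a : G)⁻¹ * ((a : G) * z * (a : G)⁻¹) * b := by rw [h1]
          _ = _ := by group
      rw [relIndex, index_eq_card, ← Finset.card_univ.trans (Nat.card_eq_fintype_card).symm]
      symm
      rw [← Finset.card_image_of_injective _ hf]
      congr 1
      ext u
      constructor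
      · intro hu
        obtain ⟨q, -, rfl⟩ := Finset.mem_image.1 hu
        induction q using QuotientGroup.induction_on with | _ a => ?_
        exact Finset.mem_filter.2 ⟨Finset.mem_univ _, a, a.2, rfl⟩
      · intro hu
        obtain ⟨n, hn, hne⟩ := (Finset.mem_filter.1 hu).2
        exact Finset.mem_image.2 ⟨QuotientGroup.mk ⟨n, hn⟩, Finset.mem_univ _, Subtype.ext hne⟩
    rw [hstab, ← Nat.not_even_iff_odd, even_iff_two_dvd]
    have hle : (S : Subgroup G) ≤ centralizer ({(z : G)} : Set G) := fun s hs =>
      mem_centralizer_singleton_iff.2 (congrArg Subtype.val (mul_comm' (⟨s, hs⟩ : (S : Subgroup G)) z))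
    intro h2
    exact S.not_dvd_index (h2.trans ((relIndex_dvd_of_le_left N hle).trans
      (Dvd.intro _ (relIndex_mul_index (le_normalizer : (S : Subgroup G) ≤ N)))))
  open scoped IsMulCommutative in
  have hs : ∏ u ∈ O, u = 1 := by
    refine Subtype.ext (hfix _ (SetLike.coe_mem _) fun n hn => ?_)
    let c : (S : Subgroup G) →* (S : Subgroup G) :=
      { toFun := fun u => ⟨n * u * n⁻¹, hnS n hn u⟩
        map_one' := Subtype.ext (by simp)
        map_mul' := fun a b => Subtype.ext (by simp [mul_assoc]) }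
    have h1 : c (∏ u ∈ O, u) = ∏ u ∈ O, u := by
      rw [map_prod]
      refine Finset.prod_bij' (fun u _ => c u) (fun u _ => ⟨n⁻¹ * u * n, by
        simpa using hnS n⁻¹ (inv_mem hn) u⟩) ?_ ?_ ?_ ?_ (fun u _ => rfl)
      · intro u hu
        obtain ⟨m, hm, hme⟩ := (Finset.mem_filter.1 hu).2
        refine Finset.mem_filter.2 ⟨Finset.mem_univ _, n * m, mul_mem hn hm, ?_⟩
        show n * m * z * (n * m)⁻¹ = n * u * n⁻¹
        rw [← hme]; group
      · intro u hu
        obtain ⟨m, hm, hme⟩ := (Finset.mem_filter.1 hu).2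
        refine Finset.mem_filter.2 ⟨Finset.mem_univ _, n⁻¹ * m, mul_mem (inv_mem hn) hm, ?_⟩
        show n⁻¹ * m * z * (n⁻¹ * m)⁻¹ = n⁻¹ * u * n
        rw [← hme]; group
      · intro u _
        refine Subtype.ext ?_
        show n⁻¹ * (n * u * n⁻¹) * n = u
        group
      · intro u _
        refine Subtype.ext ?_
        show n * (n⁻¹ * u * n) * n⁻¹ = u
        group
    exact congrArg Subtype.val h1
  have hU2 : U.index = 2 := by
    rcases (Nat.dvd_prime Nat.prime_two).1 hU with h1 | h1
    · exact absurd ((index_eq_one.1 h1).symm ▸ mem_top z : z ∈ U)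
        (hnot z (Finset.mem_filter.2 ⟨Finset.mem_univ _, 1, one_mem N, by simp⟩))
    · exact h1
  open scoped IsMulCommutative in
  have hpar : ∀ A : Finset (S : Subgroup G), (∀ u ∈ A, u ∉ U) → (∏ u ∈ A, u ∈ U ↔ Even A.card) := by
    intro A
    induction A using Finset.induction_on with
    | empty => intro _; simp
    | insert a A ha ih =>
      intro hA
      rw [Finset.prod_insert ha, Finset.card_insert_of_notMem ha, Subgroup.mul_mem_iff_of_index_two hU2,
        ih fun u hu => hA u (Finset.mem_insert_of_mem hu), Nat.even_add_one]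
      have := hA a (Finset.mem_insert_self a A)
      tauto
  exact (Nat.not_even_iff_odd.2 hodd) ((hpar O hnot).1 (hs ▸ one_mem U))

/-- Modulo the odd order theorem: if no class size is divisible by `4` the group is solvable. -/
theorem solvable_of_noFour (hFT : OddSolvable.{u}) : ∀ (n : ℕ) (G : Type u) [Group G] [Finite G],
    Nat.card G = n → NoFour G → Group.IsSolvable G := by
  intro n
  induction n using Nat.strong_induction_on with
  | _ n ih =>
    intro G _ _ hn h
    subst hn
    by_cases hcomm : ∀ a b : G, a * b = b * a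
    · exact isSolvable_of_comm hcomm
    by_cases hN : ∀ N : Subgroup G, N.Normal → N = ⊥ ∨ N = ⊤
    · haveI : Nontrivial G := by
        by_contra hnt
        rw [not_nontrivial_iff_subsingleton] at hnt
        exact hcomm fun a b => Subsingleton.elim _ _
      haveI : IsSimpleGroup G := ⟨hN⟩
      exact absurd h (not_noFour_of_simple hFT hcomm)
    push_neg at hN
    obtain ⟨N, hNn, hNb, hNt⟩ := hN
    haveI := hNn
    haveI h1 := ih _ (by
      by_contra hle
      exact hNt (eq_top_of_le_card _ (not_lt.1 hle))) N rfl (h.subgroup N)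
    haveI h2 := ih _ (by
      rw [Subgroup.card_eq_card_quotient_mul_card_subgroup N]
      exact lt_mul_of_one_lt_right Nat.card_pos ((Subgroup.one_lt_card_iff_ne_bot _).2 hNb))
      (G ⧸ N) rfl (h.quotient N)
    exact (Group.isSolvable_iff_subgroup_quotient N).2 ⟨h1, h2⟩

end CfsgLib.OddConseq
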