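import Cfsg.Agent.S1293
import Cfsg.Agent.Lib.Invol.PConstrained
import Cfsg.Agent.Lib.Coprime.LBalance.Cores
import Cfsg.Agent.Lib.SolvSignalizer.Main
import Cfsg.Agent.Lib.OddConseq.Basic
import Cfsg.Agent.Lib.Coprime.LBalance.LocalBalance

/-!
# Cores of involution centralizers when the 2-locals are constrained

When every 2-local subgroup is 2-constrained, `a ↦ O(C(a))` is balanced on commuting 2-elements,
so by the signalizer functor theorem the cores generate, over any subgroup of 2-rank at least 2 of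
a Sylow 2-subgroup with a normal elementary abelian subgroup of order 8, one subgroup of odd order.
-/

set_option autoImplicit false
set_option linter.style.haveILetI false
set_option linter.unusedSectionVars false

open Subgroup

namespace CfsgLib.OddConseq.ConstrainedCores

open CfsgLib.Coprime (coreIn)

universe u

variable {G : Type u} [Group G] [Finite G]

/-- The hypothesis: every 2-local subgroup is 2-constrained. -/
def Locals2C (G : Type u) [Group G] : Prop :=
  ∀ T : Subgroup G, IsPGroup 2 T → T ≠ ⊥ → Cfsg.IsPConstrained 2 ↥(normalizer (T : Set G))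

theorem isPGroup_zpowers_of_mem {S : Subgroup G} (hS : IsPGroup 2 S) {a : G} (ha : a ∈ S) :
    IsPGroup 2 (zpowers a) := hS.to_le (zpowers_le.2 ha)

/-- In a 2-constrained group the core of the centralizer of a 2-subgroup lies in the core. -/
theorem coreIn_centralizer_le {X : Type u} [Group X] [Finite X] [Fact (Nat.Prime 2)]
    (hX : CfsgLib.Invol.PCons 2 X) {R : Subgroup X} (hR : IsPGroup 2 R) (hR1 : R ≠ ⊥) :
    coreIn 2 (centralizer (R : Set X)) ≤ Cfsg.pPrimeCore 2 X := by
  have hp : Nat.Prime 2 := Nat.prime_two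
  have hL : Cfsg.pLayer 2 X = ⊥ := CfsgLib.Coprime.pLayer_eq_bot_iff_layer.2
    ((CfsgLib.Coprime.layer_eq_bot_iff_centralizer_pCore_le
      (CfsgLib.Coprime.pPrimeCore_quotient_eq_bot hp)).2 (CfsgLib.Invol.PClean.centralizer_le hX))
  refine le_trans ?_ (Cfsg.Agent.S1293.result 2 hL R hR hR1).2
  refine CfsgLib.Coprime.le_coreIn
    ((CfsgLib.Coprime.coreIn_le _ _).trans (centralizer_le_normalizer _)) ?_
    (CfsgLib.Coprime.coprime_card_coreIn hp _)
  exact (CfsgLib.Coprime.normalizer_le_normalizer_centralizer R).trans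
    (CfsgLib.Coprime.normalizer_le_normalizer_coreIn _ _)

/-- Balance: for commuting nontrivial 2-elements `a, b`, `O(C(a)) ∩ C(b) ≤ O(C(b))`. -/
theorem balance (h2c : Locals2C G) {a b : G} (hab : a * b = b * a) (ha : a ≠ 1) (hb : b ≠ 1)
    (ha2 : IsPGroup 2 (zpowers a)) (hb2 : IsPGroup 2 (zpowers b)) :
    Cfsg.centralizerPPrimeCore 2 a ⊓ centralizer ({b} : Set G) ≤
      Cfsg.centralizerPPrimeCore 2 b := by
  haveI : Fact (Nat.Prime 2) := ⟨Nat.prime_two⟩
  have hbne : zpowers b ≠ ⊥ := fun h => hb (zpowers_eq_bot.1 h)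
  have hcons : CfsgLib.Invol.PCons 2 ↥(centralizer ({b} : Set G)) := by
    have h := CfsgLib.Invol.pCons_centralizer_of_le
      (CfsgLib.Invol.isPConstrained_iff.1 (h2c _ hb2 hbne)) hb2 le_normalizer
      (centralizer_le_normalizer _)
    rwa [CfsgLib.Coprime.centralizer_zpowers_eq] at h
  set X := centralizer ({b} : Set G) with hX
  have haX : a ∈ X := mem_centralizer_singleton_iff.2 hab
  set R : Subgroup X := zpowers ⟨a, haX⟩ with hR
  have hR2 : IsPGroup 2 R := by
    intro r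
    obtain ⟨k, hk⟩ := ha2 ⟨(r : X), by
      obtain ⟨i, hi⟩ := r.2
      exact ⟨i, by rw [← hi]; rfl⟩⟩
    exact ⟨k, Subtype.ext (Subtype.ext (by simpa using congrArg Subtype.val hk))⟩
  have hR1 : R ≠ ⊥ := fun h => ha (congrArg Subtype.val (zpowers_eq_bot.1 h))
  have hcore := coreIn_centralizer_le hcons hR2 hR1
  have hD : (Cfsg.centralizerPPrimeCore 2 a).subgroupOf X ≤
      coreIn 2 (centralizer (R : Set X)) := by
    rw [hR, CfsgLib.Coprime.centralizer_zpowers_eq]
    refine CfsgLib.Coprime.le_coreIn ?_ ?_ ?_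
    · intro x hx
      exact mem_centralizer_singleton_iff.2 (Subtype.ext (mem_centralizer_singleton_iff.1
        (map_subtype_le _ (mem_subgroupOf.1 hx) : (x : G) ∈ centralizer ({a} : Set G))))
    · intro x hx
      have hxa : (x : G) ∈ centralizer ({a} : Set G) := mem_centralizer_singleton_iff.2
        (congrArg Subtype.val (mem_centralizer_singleton_iff.1 hx))
      have hn : centralizer ({a} : Set G) ≤
          normalizer (Cfsg.centralizerPPrimeCore 2 a : Set G) :=
        le_normalizer.trans (CfsgLib.Coprime.normalizer_le_normalizer_coreIn _ _)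
      refine mem_normalizer_iff.2 fun y => ?_
      simp only [mem_subgroupOf, Subgroup.coe_mul, Subgroup.coe_inv]
      exact mem_normalizer_iff.1 (hn hxa) y
    · have h1 : (Nat.card ↥(Cfsg.centralizerPPrimeCore 2 a)).Coprime 2 :=
        CfsgLib.Coprime.coprime_card_coreIn Nat.prime_two _
      refine h1.coprime_dvd_left ?_
      rw [← card_map_of_injective X.subtype_injective, subgroupOf_map_subtype]
      exact card_dvd_of_le inf_le_left
  intro x hx
  exact mem_map_of_mem X.subtype (hcore (hD (mem_subgroupOf.2 hx.1 :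
    (⟨x, hx.2⟩ : X) ∈ (Cfsg.centralizerPPrimeCore 2 a).subgroupOf X)))

/-- The subgroup generated by the cores over the nontrivial elements of `B`. -/
def gen (B : Subgroup G) : Subgroup G :=
  ⨆ b : {b : G // b ∈ B ∧ b ≠ 1}, Cfsg.centralizerPPrimeCore 2 (b : G)

theorem le_gen {B : Subgroup G} {b : G} (hb : b ∈ B) (hb1 : b ≠ 1) :
    Cfsg.centralizerPPrimeCore 2 b ≤ gen B :=
  le_iSup (fun b : {b : G // b ∈ B ∧ b ≠ 1} => Cfsg.centralizerPPrimeCore 2 (b : G)) ⟨b, hb, hb1⟩

theorem gen_mono {B C : Subgroup G} (h : B ≤ C) : gen B ≤ gen C :=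
  iSup_le fun b => le_gen (h b.2.1) b.2.2

theorem isPGroup_elementary {E : Subgroup G} (hE : Cfsg.IsElementaryAbelian 2 E) : IsPGroup 2 E :=
  fun e => ⟨1, Subtype.ext (by simpa using hE.2 e e.2)⟩

/-- The signalizer functor theorem for the cores on an elementary abelian group of rank 3. -/
theorem odd_gen (hFT : OddSolvable.{u}) (h2c : Locals2C G) {E : Subgroup G}
    (hE : Cfsg.IsElementaryAbelian 2 E) (hE3 : 2 ^ 3 ≤ Nat.card E) :
    Odd (Nat.card ↥(gen E)) ∧
      ∀ B : Subgroup G, B ≤ E → 2 ^ 2 ≤ Nat.card B → gen B = gen E := by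
  haveI : Fact (Nat.Prime 2) := ⟨Nat.prime_two⟩
  haveI := hE.1
  have hz : ∀ e ∈ E, IsPGroup 2 (zpowers e) := fun e he =>
    isPGroup_zpowers_of_mem (isPGroup_elementary hE) he
  have hcomm : ∀ x ∈ E, ∀ y ∈ E, x * y = y * x := fun x hx y hy =>
    congrArg Subtype.val (hE.1.is_comm.comm (⟨x, hx⟩ : E) ⟨y, hy⟩)
  set θ : G → Subgroup G := fun a => Cfsg.centralizerPPrimeCore 2 a with hθdef
  have hcop : ∀ a, (Nat.card ↥(θ a)).Coprime 2 := fun a =>
    CfsgLib.Coprime.coprime_card_coreIn Nat.prime_two _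
  have hθ : Cfsg.IsSolvableSignalizerFunctor 2 E θ := by
    refine ⟨⟨fun a _ _ => map_subtype_le _, fun a _ _ => ?_, fun a ha _ e he x hx => ?_,
      fun a ha ha1 e he he1 => balance h2c (hcomm a ha e he) ha1 he1 (hz a ha) (hz e he)⟩,
      fun a _ _ => hFT.subgroup (Nat.coprime_two_right.1 (hcop a))⟩
    · exact Nat.prime_two.coprime_iff_not_dvd.1 (hcop a).symm
    · exact (mem_normalizer_iff.1 ((le_normalizer.trans
        (CfsgLib.Coprime.normalizer_le_normalizer_coreIn _ _) :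
          centralizer ({a} : Set G) ≤ normalizer (θ a : Set G))
        (mem_centralizer_singleton_iff.2 (hcomm e he a ha))) x).1 hx
  obtain ⟨X, hX, hXθ⟩ := CfsgLib.SolvSignalizer.exists_complete hE hE3 hθ
  obtain ⟨-, hXodd, hXinv, hXC⟩ := hX
  have hgE : gen E ≤ X := iSup_le fun e => hXθ e e.2.1 e.2.2
  refine ⟨?_, fun B hBE hB2 => le_antisymm (gen_mono hBE) (hgE.trans ?_)⟩
  · rw [← Nat.not_even_iff_odd, even_iff_two_dvd]
    exact fun h => hXodd (h.trans (card_dvd_of_le hgE))
  · refine CfsgLib.SolvSignalizer.le_of_fixed_points (A := B)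
      ⟨⟨⟨fun x y => Subtype.ext (hcomm x (hBE x.2) y (hBE y.2))⟩⟩, fun x hx => hE.2 x (hBE hx)⟩
      hB2 (fun e he => mem_normalizer_iff.2 fun x => ⟨fun hx => hXinv e (hBE he) x hx, fun hx => ?_⟩)
      hXodd fun e he he1 => (hXC e (hBE he) he1).trans (le_gen he he1)
    have h := hXinv e⁻¹ (inv_mem (hBE he)) _ hx
    simpa [mul_assoc] using h

/-- Commuting four-groups give the same subgroup. -/
theorem gen_eq_of_commute (hFT : OddSolvable.{u}) (h2c : Locals2C G) {B C : Subgroup G}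
    (hB : Cfsg.IsElementaryAbelian 2 B) (hC : Cfsg.IsElementaryAbelian 2 C)
    (hB2 : 2 ^ 2 ≤ Nat.card B) (hC2 : 2 ^ 2 ≤ Nat.card C)
    (hBC : ∀ b ∈ B, ∀ c ∈ C, b * c = c * b) : gen B = gen C := by
  haveI : Fact (Nat.Prime 2) := ⟨Nat.prime_two⟩
  have hcB : ∀ x ∈ B, ∀ y ∈ B, x * y = y * x := fun x hx y hy =>
    congrArg Subtype.val (hB.1.is_comm.comm (⟨x, hx⟩ : B) ⟨y, hy⟩)
  have hcC : ∀ x ∈ C, ∀ y ∈ C, x * y = y * x := fun x hx y hy =>
    congrArg Subtype.val (hC.1.is_comm.comm (⟨x, hx⟩ : C) ⟨y, hy⟩)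
  have hn : C ≤ normalizer (B : Set G) := fun c hc =>
    centralizer_le_normalizer _ (mem_centralizer_iff.2 fun b hb => hBC b hb c hc)
  have hmem : ∀ x ∈ B ⊔ C, ∃ b ∈ B, ∃ c ∈ C, b * c = x := fun x hx => by
    rwa [← SetLike.mem_coe, coe_mul_of_right_le_normalizer_left _ _ hn] at hx
  have hE : Cfsg.IsElementaryAbelian 2 (B ⊔ C : Subgroup G) := by
    refine ⟨⟨⟨fun x y => Subtype.ext ?_⟩⟩, fun x hx => ?_⟩
    · obtain ⟨b, hb, c, hc, hx⟩ := hmem x x.2
      obtain ⟨b', hb', c', hc', hy⟩ := hmem y y.2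
      show (x : G) * y = y * x
      rw [← hx, ← hy]
      exact ((Commute.mul_right (hcB b hb b' hb') (hBC b hb c' hc')).mul_left
        (Commute.mul_right (hBC b' hb' c hc).symm (hcC c hc c' hc'))).eq
    · obtain ⟨b, hb, c, hc, rfl⟩ := hmem x hx
      rw [(show Commute b c from hBC b hb c hc).mul_pow, hB.2 b hb, hC.2 c hc, one_mul]
  by_cases h3 : 2 ^ 3 ≤ Nat.card ↥(B ⊔ C : Subgroup G)
  · obtain ⟨-, h⟩ := odd_gen hFT h2c hE h3
    rw [h B le_sup_left hB2, h C le_sup_right hC2]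
  · obtain ⟨k, hk⟩ := IsPGroup.iff_card.1 (isPGroup_elementary hE)
    have hk2 : k ≤ 2 := by
      by_contra hk3
      exact h3 (hk ▸ Nat.pow_le_pow_right (by norm_num) (by omega))
    have hle : Nat.card ↥(B ⊔ C : Subgroup G) ≤ 2 ^ 2 := hk ▸ Nat.pow_le_pow_right (by norm_num) hk2
    have eB : B = B ⊔ C := eq_of_le_of_card_ge le_sup_left (hle.trans hB2)
    have eC : C = B ⊔ C := eq_of_le_of_card_ge le_sup_right (hle.trans hC2)
    exact congrArg gen (eB.trans eC.symm)

theorem closure_pair_elementary {x y : G} (hx : x ^ 2 = 1) (hy : y ^ 2 = 1) (hxy : x * y = y * x)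
    (hx1 : x ≠ 1) (hy1 : y ≠ 1) (hne : x ≠ y) :
    Cfsg.IsElementaryAbelian 2 (closure ({x, y} : Set G)) ∧
      2 ^ 2 ≤ Nat.card ↥(closure ({x, y} : Set G)) := by
  have hcm : ∀ u ∈ ({x, y} : Set G), ∀ v ∈ ({x, y} : Set G), u * v = v * u := by
    rintro u (rfl | rfl) v (rfl | rfl)
    · rfl
    · exact hxy
    · exact hxy.symm
    · rfl
  haveI := Subgroup.isMulCommutative_closure hcm
  refine ⟨⟨inferInstance, fun u hu => ?_⟩, ?_⟩
  · induction hu using Subgroup.closure_induction with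
    | mem u hu => rcases hu with rfl | rfl <;> assumption
    | one => exact one_pow 2
    | mul u v hu hv hu' hv' =>
      have h : Commute u v := congrArg Subtype.val
        ((inferInstance : IsMulCommutative ↥(closure ({x, y} : Set G))).is_comm.comm
          (⟨u, hu⟩ : closure ({x, y} : Set G)) ⟨v, hv⟩)
      rw [h.mul_pow, hu', hv', one_mul]
    | inv u _ hu' => rw [inv_pow, hu', inv_one]
  · have hsub : ({1, x, y, x * y} : Set G) ⊆ closure ({x, y} : Set G) := by
      have hxm : x ∈ closure ({x, y} : Set G) := subset_closure (Set.mem_insert _ _)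
      have hym : y ∈ closure ({x, y} : Set G) :=
        subset_closure (Set.mem_insert_of_mem _ (Set.mem_singleton _))
      rintro u (rfl | rfl | rfl | rfl)
      exacts [one_mem _, hxm, hym, mul_mem hxm hym]
    have h := Set.ncard_le_ncard hsub (Set.toFinite _)
    rw [← Nat.card_coe_set_eq (closure ({x, y} : Set G) : Set G)] at h
    refine le_trans (le_of_eq ?_) h
    have h3 : x ∉ ({y, x * y} : Set G) := by
      simp only [Set.mem_insert_iff, Set.mem_singleton_iff, not_or]
      exact ⟨hne, fun e => hy1 (mul_left_cancel ((mul_one x).trans e)).symm⟩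
    have h4 : (1 : G) ∉ ({x, y, x * y} : Set G) := by
      simp only [Set.mem_insert_iff, Set.mem_singleton_iff, not_or]
      refine ⟨Ne.symm hx1, Ne.symm hy1, fun e => hne ?_⟩
      rw [pow_two] at hx
      exact mul_left_cancel (hx.trans e)
    have h5 : y ∉ ({x * y} : Set G) := by
      rw [Set.mem_singleton_iff]
      intro e
      exact hx1 (mul_right_cancel ((one_mul y).trans e)).symm
    rw [Set.ncard_insert_of_notMem h4, Set.ncard_insert_of_notMem h3, Set.ncard_insert_of_notMem h5,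
      Set.ncard_singleton]
    norm_num

theorem four_le_fixed {E : Subgroup G} (hE : Cfsg.IsElementaryAbelian 2 E) (hE3 : 2 ^ 3 ≤ Nat.card E)
    {y : G} (hy : y ^ 2 = 1) (hyN : y ∈ normalizer (E : Set G)) :
    2 ^ 2 ≤ Nat.card ↥(E ⊓ centralizer ({y} : Set G)) := by
  haveI := hE.1
  have hcomm : ∀ u ∈ E, ∀ v ∈ E, u * v = v * u := fun u hu v hv =>
    congrArg Subtype.val (hE.1.is_comm.comm (⟨u, hu⟩ : E) ⟨v, hv⟩)
  have hconj : ∀ e ∈ E, y * e * y⁻¹ ∈ E := fun e he => (mem_normalizer_iff.1 hyN e).1 he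
  have hyy : ∀ g : G, y * (y * g * y⁻¹) * y⁻¹ = g := fun g => by
    rw [show y * (y * g * y⁻¹) * y⁻¹ = y ^ 2 * g * (y ^ 2)⁻¹ by rw [pow_two]; group, hy]
    simp
  let f : E →* ↥(E ⊓ centralizer ({y} : Set G)) :=
    { toFun := fun e => ⟨(e : G) * (y * e * y⁻¹), mul_mem e.2 (hconj e e.2),
        mem_centralizer_singleton_iff.2 (by
          have h : y * ((e : G) * (y * e * y⁻¹)) * y⁻¹ = (e : G) * (y * e * y⁻¹) := by
            rw [show y * ((e : G) * (y * e * y⁻¹)) * y⁻¹ =
              (y * e * y⁻¹) * (y * (y * e * y⁻¹) * y⁻¹) by group, hyy]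
            exact hcomm _ (hconj e e.2) _ e.2
          exact (mul_inv_eq_iff_eq_mul.1 h).symm)⟩
      map_one' := Subtype.ext (by simp)
      map_mul' := fun a b => Subtype.ext (by
        show ((a : G) * b) * (y * ((a : G) * b) * y⁻¹) =
          (a : G) * (y * a * y⁻¹) * ((b : G) * (y * b * y⁻¹))
        rw [show y * ((a : G) * b) * y⁻¹ = (y * a * y⁻¹) * (y * b * y⁻¹) by group,
          show (a : G) * b * ((y * a * y⁻¹) * (y * b * y⁻¹)) =
            (a : G) * (b * (y * a * y⁻¹)) * (y * b * y⁻¹) by group,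
          hcomm _ b.2 _ (hconj a a.2)]
        group) }
  have hker : f.ker ≤ (E ⊓ centralizer ({y} : Set G)).subgroupOf E := by
    intro e he
    refine mem_subgroupOf.2 ⟨e.2, mem_centralizer_singleton_iff.2 ?_⟩
    have h : (e : G) * (y * e * y⁻¹) = 1 := congrArg Subtype.val (MonoidHom.mem_ker.1 he)
    have hee : (e : G)⁻¹ = e := inv_eq_of_mul_eq_one_right (by rw [← pow_two]; exact hE.2 e e.2)
    have h2 : y * e * y⁻¹ = e := by rw [eq_inv_of_mul_eq_one_right h, hee]
    exact (mul_inv_eq_iff_eq_mul.1 h2).symm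
  have h1 := card_mul_index f.ker
  rw [index_ker] at h1
  have h2 : Nat.card f.ker ≤ Nat.card ↥(E ⊓ centralizer ({y} : Set G)) := by
    refine (Nat.le_of_dvd Nat.card_pos (card_dvd_of_le hker)).trans (le_of_eq ?_)
    exact Nat.card_congr (subgroupOfEquivOfLe inf_le_left).toEquiv
  have h3 : Nat.card f.range ≤ Nat.card ↥(E ⊓ centralizer ({y} : Set G)) :=
    Nat.le_of_dvd Nat.card_pos (card_subgroup_dvd_card _)
  haveI : Fact (Nat.Prime 2) := ⟨Nat.prime_two⟩
  obtain ⟨k, hk⟩ := IsPGroup.iff_card.1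
    ((isPGroup_elementary hE).to_le (inf_le_left : E ⊓ centralizer ({y} : Set G) ≤ E))
  rw [hk] at h2 h3 ⊢
  refine Nat.pow_le_pow_right (by norm_num) ?_
  by_contra hk2
  have hk1 : 2 ^ k ≤ 2 := by
    calc 2 ^ k ≤ 2 ^ 1 := Nat.pow_le_pow_right (by norm_num) (by omega)
      _ = 2 := pow_one 2
  have := Nat.mul_le_mul (h2.trans hk1) (h3.trans hk1)
  omega

/-- The theorem for one Sylow 2-subgroup with a normal elementary abelian subgroup of order 8. -/
theorem main_sylow (hFT : OddSolvable.{u}) (h2c : Locals2C G) (S E : Subgroup G)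
    (hS : IsPGroup 2 S) (hE : Cfsg.IsElementaryAbelian 2 E) (hE3 : 2 ^ 3 ≤ Nat.card E)
    (hES : E ≤ S) (hSE : S ≤ normalizer (E : Set G)) :
    ∃ W : Subgroup G, Odd (Nat.card ↥W) ∧
      ∀ B : Subgroup G, B ≤ S → ¬ Cfsg.PRankLE 2 1 ↥B →
        W = gen B ∧ normalizer (B : Set G) ≤ normalizer (W : Set G) := by
  haveI : Fact (Nat.Prime 2) := ⟨Nat.prime_two⟩
  obtain ⟨hodd, hgenE⟩ := odd_gen hFT h2c hE hE3
  -- a central involution of `S`
  have hS1 : S ≠ ⊥ := fun h => by
    have : E = ⊥ := le_bot_iff.1 (h ▸ hES)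
    rw [this, card_bot] at hE3
    omega
  obtain ⟨z, hzS, hzo, hzc, -⟩ := CfsgLib.Invol.exists_central_prime_order hS hS1
  have hz2 : z ^ 2 = 1 := by rw [← hzo]; exact pow_orderOf_eq_one z
  have hz1 : z ≠ 1 := fun h => by rw [h, orderOf_one] at hzo; omega
  have hzcomm : ∀ s ∈ S, s * z = z * s := fun s hs => mem_centralizer_singleton_iff.1 (hzc hs)
  -- four-groups containing the central involution
  have hstep : ∀ y ∈ S, y ^ 2 = 1 → y ≠ 1 → y ≠ z → gen (closure ({z, y} : Set G)) = gen E := by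
    intro y hyS hy2 hy1 hyz
    set V := E ⊓ centralizer ({y} : Set G) with hV
    have hVcard : 2 ^ 2 ≤ Nat.card V := four_le_fixed hE hE3 hy2 (hSE hyS)
    have hVe : Cfsg.IsElementaryAbelian 2 V :=
      ⟨⟨⟨fun u v => Subtype.ext (by exact (congrArg Subtype.val
        (hE.1.is_comm.comm (⟨(u : G), u.2.1⟩ : E) ⟨(v : G), v.2.1⟩) : (u : G) * v = v * u))⟩⟩,
        fun u hu => hE.2 u hu.1⟩
    obtain ⟨hPe, hP2⟩ := closure_pair_elementary hz2 hy2 (hzcomm y hyS).symm hz1 hy1 (Ne.symm hyz)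
    rw [← hgenE V inf_le_left hVcard]
    refine gen_eq_of_commute hFT h2c hPe hVe hP2 hVcard fun b hb v hv => ?_
    have hle : closure ({z, y} : Set G) ≤ centralizer ({v} : Set G) := (closure_le _).2 (by
      rintro u (rfl | rfl) <;> refine mem_centralizer_singleton_iff.2 ?_
      · exact (hzcomm v (hES hv.1)).symm
      · exact (mem_centralizer_singleton_iff.1 hv.2).symm)
    exact mem_centralizer_singleton_iff.1 (hle hb)
  have hfour : ∀ B : Subgroup G, B ≤ S → Cfsg.IsElementaryAbelian 2 B → 2 ^ 2 ≤ Nat.card B →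
      gen B = gen E := by
    intro B hBS hB hB2
    obtain ⟨y, hyB, hy1, hyz⟩ : ∃ y ∈ B, y ≠ 1 ∧ y ≠ z := by
      by_contra! h
      have hsub : (B : Set G) ⊆ {1, z} := fun y hy => by
        by_cases h1 : y = 1
        · exact Or.inl h1
        · exact Or.inr (h y hy h1)
      have h' := Set.ncard_le_ncard hsub (Set.toFinite _)
      rw [← Nat.card_coe_set_eq] at h'
      have h'' : ({1, z} : Set G).ncard ≤ 2 := by
        refine (Set.ncard_insert_le _ _).trans ?_
        rw [Set.ncard_singleton]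
      change Nat.card B ≤ _ at h'
      omega
    obtain ⟨hPe, hP2⟩ := closure_pair_elementary hz2 (hB.2 y hyB) (hzcomm y (hBS hyB)).symm hz1 hy1
      (Ne.symm hyz)
    rw [← hstep y (hBS hyB) (hB.2 y hyB) hy1 hyz]
    refine gen_eq_of_commute hFT h2c hB hPe hB2 hP2 fun b hb v hv => ?_
    have hle : closure ({z, y} : Set G) ≤ centralizer ({b} : Set G) := (closure_le _).2 (by
      rintro u (rfl | rfl) <;> refine mem_centralizer_singleton_iff.2 ?_
      · exact (hzcomm b (hBS hb)).symm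
      · exact congrArg Subtype.val (hB.1.is_comm.comm (⟨u, hyB⟩ : B) ⟨b, hb⟩))
    exact (mem_centralizer_singleton_iff.1 (hle hv)).symm
  -- every core lies in `W`
  have hinv : ∀ y ∈ S, y ^ 2 = 1 → y ≠ 1 → Cfsg.centralizerPPrimeCore 2 y ≤ gen E := by
    intro y hyS hy2 hy1
    by_cases hyz : y = z
    · subst hyz
      obtain ⟨w, hwE, hw1, hwy⟩ : ∃ w ∈ E, w ≠ 1 ∧ w ≠ y := by
        by_contra! h
        have hsub : (E : Set G) ⊆ {1, y} := fun w hw => by
          by_cases h1 : w = 1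
          · exact Or.inl h1
          · exact Or.inr (h w hw h1)
        have h' := Set.ncard_le_ncard hsub (Set.toFinite _)
        rw [← Nat.card_coe_set_eq] at h'
        have h'' : ({1, y} : Set G).ncard ≤ 2 := by
          refine (Set.ncard_insert_le _ _).trans ?_
          rw [Set.ncard_singleton]
        change Nat.card E ≤ _ at h'
        omega
      rw [← hstep w (hES hwE) (hE.2 w hwE) hw1 hwy]
      exact le_gen (subset_closure (Set.mem_insert _ _)) hy1
    · rw [← hstep y hyS hy2 hy1 hyz]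
      exact le_gen (subset_closure (Set.mem_insert_of_mem _ (Set.mem_singleton _))) hy1
  have hall : ∀ b ∈ S, b ≠ 1 → Cfsg.centralizerPPrimeCore 2 b ≤ gen E := by
    intro b hbS hb1
    obtain ⟨k, hk⟩ := (Nat.dvd_prime_pow Nat.prime_two).1
      (orderOf_dvd_of_pow_eq_one (show b ^ 2 ^ _ = 1 from
        congrArg Subtype.val (hS ⟨b, hbS⟩).choose_spec))
    obtain ⟨-, hk⟩ := hk
    have hk0 : k ≠ 0 := fun h => hb1 (orderOf_eq_one_iff.1 (by rw [hk, h, pow_zero]))
    obtain ⟨k, rfl⟩ := Nat.exists_eq_succ_of_ne_zero hk0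
    set y := b ^ 2 ^ k with hy
    have hy2 : y ^ 2 = 1 := by
      rw [hy, ← pow_mul, ← pow_succ, ← hk]; exact pow_orderOf_eq_one b
    have hy1 : y ≠ 1 := fun h => by
      have := Nat.le_of_dvd (Nat.two_pow_pos k) (orderOf_dvd_of_pow_eq_one h)
      rw [hk, pow_succ] at this
      have := Nat.two_pow_pos k
      omega
    refine le_trans ?_ (hinv y (pow_mem hbS _) hy2 hy1)
    refine le_trans (le_inf le_rfl ?_) (balance h2c ((Commute.refl b).pow_right _).eq hb1 hy1
      (isPGroup_zpowers_of_mem hS hbS) (isPGroup_zpowers_of_mem hS (pow_mem hbS _)))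
    refine (map_subtype_le _).trans fun c hc => mem_centralizer_singleton_iff.2 ?_
    exact ((show Commute c b from mem_centralizer_singleton_iff.1 hc).pow_right _).eq
  refine ⟨gen E, hodd, fun B hBS hB => ?_⟩
  have heq : gen E = gen B := by
    refine le_antisymm ?_ (iSup_le fun b => hall b (hBS b.2.1) b.2.2)
    rw [Cfsg.PRankLE] at hB
    push Not at hB
    obtain ⟨V, hVc, hVe, hVcard⟩ := hB
    have hV' : Cfsg.IsElementaryAbelian 2 (V.map B.subtype) := by
      refine ⟨⟨⟨fun u v => Subtype.ext ?_⟩⟩, ?_⟩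
      · obtain ⟨_, u, hu, rfl⟩ := u
        obtain ⟨_, v, hv, rfl⟩ := v
        exact congrArg B.subtype (congrArg Subtype.val (hVc.is_comm.comm (⟨u, hu⟩ : V) ⟨v, hv⟩))
      · rintro _ ⟨u, hu, rfl⟩
        rw [← map_pow, hVe u hu, map_one]
    have hV2 : 2 ^ 2 ≤ Nat.card ↥(V.map B.subtype) := by
      obtain ⟨k, hk⟩ := IsPGroup.iff_card.1 (isPGroup_elementary hV')
      rw [hk]
      refine Nat.pow_le_pow_right (by norm_num) ?_
      by_contra hk2
      rw [card_map_of_injective B.subtype_injective] at hk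
      rw [hk] at hVcard
      exact absurd (Nat.pow_le_pow_right (show 1 ≤ 2 by norm_num) (show k ≤ 1 by omega))
        (not_le.2 hVcard)
    rw [← hfour _ ((map_subtype_le V).trans hBS) hV' hV2]
    exact gen_mono (map_subtype_le V)
  refine ⟨heq, fun g hg => ?_⟩
  rw [heq]
  have hmap : (gen B).map (MulAut.conj g).toMonoidHom = gen B := by
    have hle : ∀ h ∈ normalizer (B : Set G), (gen B).map (MulAut.conj h).toMonoidHom ≤ gen B := by
      intro h hh
      rw [gen, Subgroup.map_iSup]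
      refine iSup_le fun b => ?_
      refine le_trans (le_of_eq ?_) (le_gen ((mem_normalizer_iff.1 hh _).1 b.2.1)
        (fun e => b.2.2 (conj_eq_one_iff.1 e)))
      exact CfsgLib.Coprime.map_centralizerPPrimeCore_equiv (MulAut.conj h) (b : G)
    refine le_antisymm (hle g hg) ?_
    have h2 := map_mono (f := (MulAut.conj g).toMonoidHom) (hle g⁻¹ (inv_mem hg))
    rw [Subgroup.map_map] at h2
    rwa [show (MulAut.conj g).toMonoidHom.comp (MulAut.conj g⁻¹).toMonoidHom = MonoidHom.id G from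
      MonoidHom.ext fun x => by simp [MulAut.conj_apply, mul_assoc], Subgroup.map_id] at h2
  exact mem_normalizer_iff_map_conj_eq.2 hmap

/-- The cores over a subgroup of 2-rank at least 2 generate one subgroup of odd order. -/
theorem main (hFT : OddSolvable.{u}) (h2c : Locals2C G) (S : Sylow 2 G) (A : Subgroup ↥(S : Subgroup G))
    (hAn : A.Normal) (hAab : IsMulCommutative ↥A) (hA3 : ¬ Cfsg.PRankLE 2 2 ↥A) (S' : Sylow 2 G) :
    ∃ W : Subgroup G, Odd (Nat.card ↥W) ∧
      ∀ B : Subgroup G, B ≤ (S' : Subgroup G) → ¬ Cfsg.PRankLE 2 1 ↥B →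
        W = gen B ∧ normalizer (B : Set G) ≤ normalizer (W : Set G) := by
  haveI : Fact (Nat.Prime 2) := ⟨Nat.prime_two⟩
  have hac : ∀ u ∈ A, ∀ v ∈ A, u * v = v * u := fun u hu v hv =>
    congrArg Subtype.val (hAab.is_comm.comm (⟨u, hu⟩ : A) ⟨v, hv⟩)
  let E₀ : Subgroup ↥(S : Subgroup G) :=
    { carrier := {a | a ∈ A ∧ a ^ 2 = 1}
      one_mem' := ⟨one_mem A, one_pow 2⟩
      mul_mem' := fun {a b} ha hb => ⟨mul_mem ha.1 hb.1, by
        rw [(show Commute a b from hac a ha.1 b hb.1).mul_pow, ha.2, hb.2, one_mul]⟩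
      inv_mem' := fun {a} ha => ⟨inv_mem ha.1, by rw [inv_pow, ha.2, inv_one]⟩ }
  have hE₀n : E₀.Normal := ⟨fun a ha s => ⟨hAn.conj_mem a ha.1 s, by
    rw [conj_pow, ha.2, mul_one, mul_inv_cancel]⟩⟩
  have hE₀3 : 2 ^ 3 ≤ Nat.card E₀ := by
    rw [Cfsg.PRankLE] at hA3
    push Not at hA3
    obtain ⟨V, hVc, hVe, hVcard⟩ := hA3
    have hle : V.map A.subtype ≤ E₀ := by
      rintro _ ⟨v, hv, rfl⟩
      exact ⟨v.2, by rw [← map_pow, hVe v hv, map_one]⟩
    have h1 := Nat.le_of_dvd Nat.card_pos (card_dvd_of_le hle)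
    rw [card_map_of_injective A.subtype_injective] at h1
    have hp : IsPGroup 2 ↥V := fun v => ⟨1, Subtype.ext (by simpa using hVe v v.2)⟩
    obtain ⟨k, hk⟩ := IsPGroup.iff_card.1 hp
    rw [hk] at hVcard h1
    refine le_trans (Nat.pow_le_pow_right (by norm_num) ?_) h1
    exact (Nat.pow_lt_pow_iff_right (by norm_num)).1 hVcard
  obtain ⟨g, hg⟩ := MulAction.exists_smul_eq G S S'
  set c := (MulAut.conj g).toMonoidHom with hc
  have hS' : (S : Subgroup G).map c = (S' : Subgroup G) := by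
    rw [← hg, Sylow.coe_subgroup_smul]; rfl
  have hinj : Function.Injective (c.comp (S : Subgroup G).subtype) :=
    (MulAut.conj g).injective.comp (S : Subgroup G).subtype_injective
  refine main_sylow hFT h2c _ (E₀.map (c.comp (S : Subgroup G).subtype)) S'.2 ⟨?_, ?_⟩
    (by rwa [card_map_of_injective hinj]) ?_ ?_
  · refine ⟨⟨fun u v => Subtype.ext ?_⟩⟩
    obtain ⟨_, u, hu, rfl⟩ := u
    obtain ⟨_, v, hv, rfl⟩ := v
    show _ * _ = _ * _
    rw [← map_mul, ← map_mul, hac u hu.1 v hv.1]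
  · rintro _ ⟨u, hu, rfl⟩
    rw [← map_pow, hu.2, map_one]
  · rw [← hS', ← Subgroup.map_map]
    exact map_mono (map_subtype_le E₀)
  · rw [← hS']
    refine le_trans (le_of_eq ?_) (le_normalizer_map (c.comp (S : Subgroup G).subtype))
    rw [normalizer_eq_top, ← Subgroup.map_map, ← MonoidHom.range_eq_map, range_subtype]

end CfsgLib.OddConseq.ConstrainedCores
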