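import Cfsg.Agent.S0205
import Cfsg.Agent.Lib.OddConseq.TwoGenCoreEmbedded

/-!
# Consequences of the core theorem for strongly embedded subgroups

`hSE` below is the statement that strongly embedded subgroups have their cores in the core.
-/

set_option autoImplicit false
set_option linter.style.haveILetI false

namespace CfsgLib.TwoGenCore

open Subgroup
open Cfsg.Agent.S0520 (four_conj)

universe u

variable {G : Type u} [Group G] [Finite G]

theorem oddSolvable : CfsgLib.OddConseq.OddSolvable.{u} := fun {X} _ _ h =>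
  Cfsg.Agent.S0205.result h

/-- Groups of 2-rank at least 3 not of component type with connected Sylow 2-subgroup have
characteristic 2 type, given the core theorem for strongly embedded subgroups. -/
theorem characteristicTwoType_of_core_embedded
    (hSE : ∀ H : Subgroup G, Cfsg.IsStronglyEmbedded H →
      (Cfsg.oddCore ↥H).map H.subtype ≤ Cfsg.oddCore G)
    (h3 : ¬ Cfsg.PRankLE 2 2 G) (hO : Cfsg.oddCore G = ⊥) (hc : ¬ Cfsg.IsComponentType G)
    (S : Sylow 2 G) (hS : Cfsg.IsFourConnected (S : Subgroup G)) :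
    Cfsg.IsCharacteristicTwoType G :=
  isCharacteristicTwoType oddSolvable hSE h3 hO hc S hS

/-- A balanced core-free group of 2-rank at least 3 all of whose four-groups are connected has
trivial involution centralizer cores. -/
theorem theta_eq_bot_of_connected (hbal : Cfsg.IsBalanced G) (hO : Cfsg.oddCore G = ⊥)
    (hrank : ¬ Cfsg.PRankLE 2 2 G) (hconn : Cfsg.IsFourConnected G)
    (t : G) (ht : orderOf t = 2) : Cfsg.centralizerPPrimeCore 2 t = ⊥ := by
  haveI : Fact (Nat.Prime 2) := ⟨Nat.prime_two⟩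
  have hH : Cfsg.IsFourConnected ↥(⊤ : Subgroup G) := by
    intro U V hU hV
    have hmap : ∀ W : Subgroup ↥(⊤ : Subgroup G), IsKleinFour W →
        IsKleinFour ↥(W.map (⊤ : Subgroup G).subtype) := fun W hW =>
      ⟨(Subgroup.card_map_of_injective (Subgroup.subtype_injective _)).trans hW.card_four,
        (Monoid.exponent_eq_of_mulEquiv (W.equivMapOfInjective _ (Subgroup.subtype_injective _))).symm.trans
          hW.exponent_two⟩
    have hcom : ∀ A : Subgroup G, IsKleinFour A → IsKleinFour ↥(A.subgroupOf (⊤ : Subgroup G)) :=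
      fun A hA => ⟨(Nat.card_congr (Subgroup.subgroupOfEquivOfLe le_top).toEquiv).trans hA.card_four,
        (Monoid.exponent_eq_of_mulEquiv (Subgroup.subgroupOfEquivOfLe le_top)).trans hA.exponent_two⟩
    have h := (hconn _ _ (hmap U hU) (hmap V hV)).lift (fun A => A.subgroupOf (⊤ : Subgroup G))
      (p := fun A B : Subgroup ↥(⊤ : Subgroup G) =>
        IsKleinFour A ∧ IsKleinFour B ∧ ∀ a ∈ A, ∀ b ∈ B, a * b = b * a)
      (fun A B h => ⟨hcom A h.1, hcom B h.2.1, fun a ha b hb => Subtype.ext (h.2.2 _ ha _ hb)⟩)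
    have hid : ∀ W : Subgroup ↥(⊤ : Subgroup G),
        (W.map (⊤ : Subgroup G).subtype).subgroupOf ⊤ = W := fun W =>
      Subgroup.comap_map_eq_self_of_injective (Subgroup.subtype_injective _) W
    simpa only [Function.onFun, hid] using h
  obtain ⟨A, hA, hA2, hcard⟩ : ∃ A : Subgroup G, IsMulCommutative A ∧ (∀ a ∈ A, a ^ 2 = 1) ∧
      2 ^ 2 < Nat.card A := by
    unfold Cfsg.PRankLE at hrank
    push Not at hrank
    exact hrank
  have hAe : Cfsg.IsElementaryAbelian 2 A := ⟨hA, hA2⟩
  -- a four-group through `t`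
  obtain ⟨U, hU, htU⟩ : ∃ U : Subgroup G, IsKleinFour U ∧ t ∈ U := by
    obtain ⟨S, hS⟩ := (IsPGroup.of_card (n := 1) (show Nat.card (zpowers t) = 2 ^ 1 by
      rw [Nat.card_zpowers, ht, pow_one])).exists_le_sylow
    obtain ⟨g, hg⟩ := CfsgLib.Invol.exists_conj_le_sylow
      (CfsgLib.Invol.isPGroup_of_isElementaryAbelian hAe) S
    have htS : t ∈ (S : Subgroup G) := hS (mem_zpowers t)
    obtain ⟨w, hw, hwt, hwc⟩ : ∃ w : G, orderOf w = 2 ∧ t ≠ w ∧ Commute t w := by
      haveI : Nontrivial ↥(S : Subgroup G) := ⟨⟨⟨t, htS⟩, 1, fun e => by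
        rw [show t = 1 from congrArg Subtype.val e, orderOf_one] at ht
        norm_num at ht⟩⟩
      haveI := S.isPGroup'.center_nontrivial
      obtain ⟨k, hk⟩ := (S.isPGroup'.to_subgroup (center ↥(S : Subgroup G))).exists_card_eq
      have hk0 : k ≠ 0 := fun h => by
        have := Finite.one_lt_card (α := center ↥(S : Subgroup G))
        rw [hk, h] at this; norm_num at this
      obtain ⟨x, hx⟩ := exists_prime_orderOf_dvd_card' 2 (hk ▸ dvd_pow_self 2 hk0 :
        2 ∣ Nat.card (center ↥(S : Subgroup G)))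
      rw [← Subgroup.orderOf_coe, ← Subgroup.orderOf_coe] at hx
      have hxc : ∀ s ∈ (S : Subgroup G), Commute s ((x : ↥(S : Subgroup G)) : G) := fun s hs =>
        congrArg Subtype.val (mem_center_iff.1 x.2 ⟨s, hs⟩)
      by_cases hxt : t = ((x : ↥(S : Subgroup G)) : G)
      · obtain ⟨e, he, he1, het⟩ : ∃ e ∈ A, g * e * g⁻¹ ≠ 1 ∧ g * e * g⁻¹ ≠ t := by
          by_contra hno
          push Not at hno
          have hle : A.map (MulAut.conj g).toMonoidHom ≤ zpowers t := by
            rintro _ ⟨e, he, rfl⟩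
            show g * e * g⁻¹ ∈ zpowers t
            by_cases h1 : g * e * g⁻¹ = 1
            · exact h1 ▸ one_mem _
            · rw [hno e he h1]; exact mem_zpowers t
          have := Nat.le_of_dvd Nat.card_pos (card_dvd_of_le hle)
          rw [Nat.card_zpowers, ht, card_map_of_injective (MulAut.conj g).injective] at this
          omega
        refine ⟨g * e * g⁻¹, orderOf_eq_prime (by rw [conj_pow, hA2 e he, mul_one, mul_inv_cancel]) he1,
          het.symm, ?_⟩
        rw [hxt]
        exact (hxc _ (hg e he)).symm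
      · exact ⟨_, hx, hxt, hxc t htS⟩
    exact ⟨Subgroup.closure {t, w}, CfsgLib.Invol.isKleinFour_closure_pair ht hw hwt hwc,
      subset_closure (Set.mem_insert _ _)⟩
  have hconst := fun {V : Subgroup G} (hV : IsKleinFour V) =>
    W_const oddSolvable hbal hH hU hV le_top le_top
  haveI : (W U).Normal := by
    refine ⟨fun x hx g => ?_⟩
    rw [hconst (four_conj hU g), W_conj]
    exact ⟨x, hx, rfl⟩
  have hA8 : 2 ^ 3 ≤ Nat.card A := by
    obtain ⟨k, hk⟩ := (CfsgLib.Invol.isPGroup_of_isElementaryAbelian hAe).exists_card_eq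
    rw [hk] at hcard ⊢
    exact Nat.pow_le_pow_right (by norm_num) ((Nat.pow_lt_pow_iff_right (by norm_num)).1 hcard)
  obtain ⟨V, hV, hVA⟩ := Cfsg.Agent.S0520.exists_four_of_not_rankLE (Q := A) (by
    intro h
    have := h ⊤ ⟨⟨fun a b => Subtype.ext (Subtype.ext (CfsgLib.EABasic.comm_of_isElementaryAbelian
      (A := A) ⟨hA, hA2⟩ a.1.2 b.1.2))⟩⟩ (fun a _ => Subtype.ext (hA2 a a.2))
    rw [Subgroup.card_top] at this
    omega)
  have hodd : ¬ 2 ∣ Nat.card ↥(W U) := by
    rw [hconst hV]
    have h := W_eq_of_le oddSolvable hbal hV hAe hA8 hVA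
    rw [h.1]
    exact h.2
  have hW : W U = ⊥ := le_bot_iff.1 (hO ▸ CfsgLib.Coprime.le_pPrimeCore_of_not_dvd Nat.prime_two hodd)
  exact le_bot_iff.1 ((theta_le_W htU (fun e => by rw [e, orderOf_one] at ht; norm_num at ht)).trans
    hW.le)

end CfsgLib.TwoGenCore
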