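import Cfsg.Agent.Lib.OddConseq.CentralizerGeneration
import Cfsg.Agent.Lib.Coprime.LBalance.Cores
import Cfsg.Agent.Lib.Coprime.PComponent
import Cfsg.Prelude.Def_CaseTheorems

/-!
# The signalizer functor of two core-separated four-groups

The key fact is `inf_centralizer_le_core`: `[O_a, A₁] ∩ C(A₁) ≤ O(C(A₁))`.
-/

set_option autoImplicit false
set_option linter.style.haveILetI false
set_option linter.unusedSectionVars false

open Subgroup
open scoped commutatorElement

namespace CfsgLib.OddConseq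

open CfsgLib.Coprime (coreIn conjBy pComponentOver)

universe u

section Quotient

variable {C : Type u} [Group C] [Finite C] [Fact (Nat.Prime 2)]

local notation "π" => QuotientGroup.mk' (Cfsg.pPrimeCore 2 C)

theorem centralizer_map_le {S : Subgroup C} (hS : IsPGroup 2 S) :
    centralizer ((S.map π : Subgroup _) : Set _) ≤ (centralizer (S : Set C)).map π := by
  intro w hw
  obtain ⟨j, rfl⟩ := QuotientGroup.mk'_surjective _ w
  obtain ⟨v, hv, hvj⟩ := Coprime.exists_mul_mem_centralizer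
    (Coprime.pPrimeCore_coprime (G := C) Nat.prime_two) hS
    ((normalizer_eq_top (Cfsg.pPrimeCore 2 C)).symm ▸ le_top) (j := j) (fun s hs => by
      refine (QuotientGroup.eq_one_iff _).1 ?_
      show π (j * s * j⁻¹ * s⁻¹) = 1
      rw [map_mul, map_mul, map_mul, map_inv, map_inv, mul_inv_eq_one, mul_inv_eq_iff_eq_mul]
      exact (mem_centralizer_iff.1 hw _ (mem_map_of_mem π hs)).symm)
  refine ⟨v * j, hvj, ?_⟩
  rw [map_mul, show π v = 1 from (QuotientGroup.eq_one_iff v).2 hv, one_mul]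

theorem map_le_coreIn {S R : Subgroup C} (hS : IsPGroup 2 S) (hR : R ≤ centralizer (S : Set C))
    (hn : centralizer (S : Set C) ≤ normalizer (R : Set C)) (hodd : (Nat.card R).Coprime 2) :
    R.map π ≤ coreIn 2 (centralizer ((S.map π : Subgroup _) : Set _)) := by
  refine Coprime.le_coreIn ?_ ((centralizer_map_le hS).trans ?_)
    (hodd.coprime_dvd_left (Coprime.card_map_dvd_card _ R))
  · rintro _ ⟨r, hr, rfl⟩
    refine mem_centralizer_iff.2 ?_
    rintro _ ⟨s, hs, rfl⟩
    rw [← map_mul, ← map_mul, mem_centralizer_iff.1 (hR hr) s hs]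
  · exact (map_mono hn).trans (le_normalizer_map _)

theorem normalizes_component {S R : Subgroup C} (hS : IsPGroup 2 S) (hR : R ≤ centralizer (S : Set C))
    (hn : centralizer (S : Set C) ≤ normalizer (R : Set C)) (hodd : (Nat.card R).Coprime 2)
    {K : Subgroup (C ⧸ Cfsg.pPrimeCore 2 C)} (hK : Cfsg.IsComponent K) :
    R.map π ≤ normalizer (K : Set _) :=
  (map_le_coreIn hS hR hn hodd).trans (Coprime.coreCentralizer_le_normalizer_component
    (Coprime.pPrimeCore_quotient_eq_bot Nat.prime_two) (hS.map _) hK)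

theorem centralizes_component {S R : Subgroup C} (hS : IsPGroup 2 S) (hR : R ≤ centralizer (S : Set C))
    (hn : centralizer (S : Set C) ≤ normalizer (R : Set C)) (hodd : (Nat.card R).Coprime 2)
    {K : Subgroup (C ⧸ Cfsg.pPrimeCore 2 C)} (hK : Cfsg.IsComponent K)
    (hSK : S.map π ≤ centralizer (K : Set _)) : R.map π ≤ centralizer (K : Set _) := by
  set D := centralizer ((S.map π : Subgroup _) : Set (C ⧸ Cfsg.pPrimeCore 2 C))
  have hKD : K ≤ D := le_centralizer_iff.1 hSK
  refine (map_le_coreIn hS hR hn hodd).trans ?_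
  have h := (Coprime.component_le_or_commutator_eq_bot (Coprime.isComponent_subgroupOf hK hKD)
    (Normal.isSubnormal (inferInstance : (Cfsg.pPrimeCore 2 D).Normal))).resolve_left fun hle => by
      refine Coprime.pPrimeCore_not_dvd (G := D) Nat.prime_two ((Coprime.dvd_card_of_isComponent
        (Coprime.pPrimeCore_quotient_eq_bot Nat.prime_two) hK).trans ?_)
      rw [← Nat.card_congr (subgroupOfEquivOfLe hKD).toEquiv]
      exact card_dvd_of_le hle
  have h2 := congrArg (Subgroup.map D.subtype) h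
  rw [map_commutator, map_subgroupOf_eq_of_le hKD, Subgroup.map_bot, commutator_comm,
    commutator_eq_bot_iff_le_centralizer] at h2
  exact h2

theorem mem_core_of_centralizes {S R : Subgroup C} (hS : IsPGroup 2 S)
    (hR : R ≤ centralizer (S : Set C)) (hn : centralizer (S : Set C) ≤ normalizer (R : Set C))
    (hodd : (Nat.card R).Coprime 2) {r : C} (hr : r ∈ R)
    (h : ∀ K : Subgroup (C ⧸ Cfsg.pPrimeCore 2 C), Cfsg.IsComponent K →
      π r ∈ centralizer (K : Set (C ⧸ Cfsg.pPrimeCore 2 C))) :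
    r ∈ Cfsg.pPrimeCore 2 C := by
  set H := C ⧸ Cfsg.pPrimeCore 2 C
  have hO : Cfsg.pPrimeCore 2 H = ⊥ := Coprime.pPrimeCore_quotient_eq_bot Nat.prime_two
  obtain ⟨-, -, hcore, -, -⟩ := Coprime.coreCentralizer_data (p := 2) (hS.map π) _ rfl
  set F := Cfsg.generalizedFittingSubgroup H
  haveI : F.Normal := Coprime.generalizedFitting_normal
  have hF : π r ∈ centralizer (F : Set H) := by
    have hle : F ≤ centralizer ({π r} : Set H) := by
      refine sup_le (sSup_le fun K hK k hk => mem_centralizer_singleton_iff.2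
        (mem_centralizer_iff.1 (h K hK) k hk)) ?_
      rw [Coprime.fitting_eq_pCore_of_pPrimeCore_eq_bot hO]
      exact fun u hu => mem_centralizer_singleton_iff.2
        (mem_centralizer_iff.1 (hcore (map_le_coreIn hS hR hn hodd (mem_map_of_mem π hr))) u hu)
    exact mem_centralizer_iff.2 fun u hu => mem_centralizer_singleton_iff.1 (hle hu)
  have habel : centralizer (F : Set H) ≤ Cfsg.pCore 2 H := by
    rw [← Coprime.fitting_eq_pCore_of_pPrimeCore_eq_bot hO]
    refine Coprime.le_fitting ?_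
    letI : CommGroup (centralizer (F : Set H)) :=
      { (inferInstance : Group (centralizer (F : Set H))) with
        mul_comm := fun a b => Subtype.ext
          (mem_centralizer_iff.1 b.2 _ (Coprime.centralizer_generalizedFitting_le a.2)) }
    infer_instance
  obtain ⟨k, hk⟩ := Coprime.pCore_isPGroup (G := H) 2 ⟨_, habel hF⟩
  exact (QuotientGroup.eq_one_iff r).1 (CfsgLib.Invol.eq_one_of_odd_of_pow_two
    (Odd.of_dvd_nat (Nat.coprime_two_right.1 hodd)
      ((orderOf_map_dvd π r).trans (orderOf_mk r hr ▸ orderOf_dvd_natCard (⟨r, hr⟩ : R))))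
    (congrArg Subtype.val hk))

end Quotient

section Ambient

variable {G : Type u} [Group G] [Finite G]

/-- `[O_a, A₁] (O_a ∩ O(C(A₁)))`. -/
abbrev thetaPart (P : Subgroup G) (a : G) : Subgroup G :=
  ⁅Cfsg.centralizerPPrimeCore 2 a, P⁆ ⊔
    (Cfsg.centralizerPPrimeCore 2 a ⊓ coreIn 2 (centralizer (P : Set G)))

/-- The data of core separation. -/
structure Sep (A P Q : Subgroup G) : Prop where
  hA : Cfsg.IsElementaryAbelian 2 A
  hPA : P ≤ A
  hQA : Q ≤ A
  hsup : P ⊔ Q = A
  hP4 : Nat.card P = 4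
  sep : ∀ x ∈ A, x ≠ 1 → ∀ E : Subgroup ↥(centralizer ({x} : Set G)), Cfsg.IsPComponent 2 E →
    ⁅E.map (centralizer ({x} : Set G)).subtype, P⁆ ≤ Cfsg.centralizerPPrimeCore 2 x ∨
    ⁅E.map (centralizer ({x} : Set G)).subtype, Q⁆ ≤ Cfsg.centralizerPPrimeCore 2 x

variable {A P Q : Subgroup G}

theorem Sep.comm (h : Sep A P Q) {x y : G} (hx : x ∈ A) (hy : y ∈ A) : x * y = y * x :=
  congrArg Subtype.val (isMulCommutative_iff.1 h.hA.1 ⟨x, hx⟩ ⟨y, hy⟩)

theorem Sep.le_centralizer (h : Sep A P Q) {x : G} (hx : x ∈ A) : A ≤ centralizer ({x} : Set G) :=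
  fun _ hy => mem_centralizer_singleton_iff.2 (h.comm hy hx)

theorem Sep.sq (h : Sep A P Q) {x : G} (hx : x ∈ A) : x ^ 2 = 1 := h.hA.2 x hx

theorem core_le_centralizer (a : G) : Cfsg.centralizerPPrimeCore 2 a ≤ centralizer ({a} : Set G) :=
  map_subtype_le _

theorem coprime_core [Fact (Nat.Prime 2)] (a : G) :
    (Nat.card (Cfsg.centralizerPPrimeCore 2 a)).Coprime 2 :=
  Coprime.coprime_card_coreIn Nat.prime_two _

theorem centralizer_le_normalizer_core (a : G) :
    centralizer ({a} : Set G) ≤ normalizer (Cfsg.centralizerPPrimeCore 2 a : Set G) :=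
  le_normalizer.trans (Coprime.normalizer_le_normalizer_coreIn _ _)

theorem commutator_le_self {R : Subgroup G} (h : P ≤ normalizer (R : Set G)) : ⁅R, P⁆ ≤ R := by
  refine commutator_le.2 fun r hr s hs => ?_
  rw [commutatorElement_def, show r * s * r⁻¹ * s⁻¹ = r * (s * r⁻¹ * s⁻¹) by group]
  exact mul_mem hr ((mem_normalizer_iff.1 (h hs) _).1 (inv_mem hr))

theorem isPGroup_of_exponent_two {S : Subgroup G} (h : ∀ s ∈ S, s ^ 2 = 1) : IsPGroup 2 S :=
  fun s => ⟨1, Subtype.ext (by simpa using h s s.2)⟩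

/-- The quotient homomorphism of `C(x)` by its core. -/
abbrev qHom (x : G) : ↥(centralizer ({x} : Set G)) →*
    ↥(centralizer ({x} : Set G)) ⧸ Cfsg.pPrimeCore 2 ↥(centralizer ({x} : Set G)) :=
  QuotientGroup.mk' _

theorem Sep.component [Fact (Nat.Prime 2)] (h : Sep A P Q) {x : G} (hx : x ∈ A) (hx1 : x ≠ 1)
    {K : Subgroup (↥(centralizer ({x} : Set G)) ⧸ Cfsg.pPrimeCore 2 ↥(centralizer ({x} : Set G)))}
    (hK : Cfsg.IsComponent K) :
    (P.subgroupOf (centralizer ({x} : Set G))).map (qHom x) ≤ centralizer (K : Set _) ∨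
      (Q.subgroupOf (centralizer ({x} : Set G))).map (qHom x) ≤ centralizer (K : Set _) := by
  have key : ∀ U : Subgroup G, U ≤ A →
      ⁅(pComponentOver 2 K).map (centralizer ({x} : Set G)).subtype, U⁆ ≤
        Cfsg.centralizerPPrimeCore 2 x →
      (U.subgroupOf (centralizer ({x} : Set G))).map (qHom x) ≤ centralizer (K : Set _) := by
    intro U hU hc
    have hKmap := Coprime.map_pComponentOver hK
    have h0 : ⁅(pComponentOver 2 K).map (qHom x),
        (U.subgroupOf (centralizer ({x} : Set G))).map (qHom x)⁆ = ⊥ := by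
      rw [← map_commutator, Subgroup.map_eq_bot_iff, QuotientGroup.ker_mk',
        ← map_le_map_iff_of_injective (centralizer ({x} : Set G)).subtype_injective, map_commutator,
        map_subgroupOf_eq_of_le (hU.trans (h.le_centralizer hx))]
      exact hc
    rw [hKmap, commutator_comm, commutator_eq_bot_iff_le_centralizer] at h0
    exact h0
  exact (h.sep x hx hx1 _ (Coprime.isPComponent_pComponentOver hK)).imp (key P h.hPA) (key Q h.hQA)

theorem four_cases (hcard : Nat.card P = 4) (hsq : ∀ s ∈ P, s * s = 1) {a₁ a' : G} (h1 : a₁ ∈ P)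
    (h2 : a' ∈ P) (n1 : a₁ ≠ 1) (n2 : a' ≠ 1) (n3 : a' ≠ a₁) {s : G} (hs : s ∈ P) :
    s = 1 ∨ s = a₁ ∨ s = a' ∨ s = a₁ * a' := by
  classical
  haveI : Fintype P := Fintype.ofFinite P
  have n4 : a₁ * a' ≠ 1 := fun e =>
    n3 (mul_left_cancel (e.trans (hsq a₁ h1).symm))
  have n5 : a₁ * a' ≠ a₁ := fun e => n2 (mul_eq_left.1 e)
  have n6 : a₁ * a' ≠ a' := fun e => n1 (mul_eq_right.1 e)
  set T : Finset P := {1, ⟨a₁, h1⟩, ⟨a', h2⟩, ⟨a₁ * a', mul_mem h1 h2⟩} with hT
  have hTcard : T.card = Fintype.card P := by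
    rw [← Nat.card_eq_fintype_card, hcard, hT]
    refine Finset.card_eq_four.2 ⟨_, _, _, _, ?_, ?_, ?_, ?_, ?_, ?_, rfl⟩ <;>
      simp only [Ne, Subtype.ext_iff, OneMemClass.coe_one]
    exacts [Ne.symm n1, Ne.symm n2, Ne.symm n4, Ne.symm n3, Ne.symm n5, Ne.symm n6]
  have := Finset.eq_univ_iff_forall.1 (Finset.eq_univ_of_card T hTcard) ⟨s, hs⟩
  simpa [hT, Subtype.ext_iff] using this

theorem commutator_mem_centralizer {H : Type*} [Group H] {K : Subgroup H} {h s : H}
    (hh : h ∈ normalizer (K : Set H)) (hs : s ∈ centralizer (K : Set H)) :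
    h * s * h⁻¹ * s⁻¹ ∈ centralizer (K : Set H) :=
  mul_mem ((mem_normalizer_iff.1 (Coprime.normalizer_le_normalizer_centralizer K hh) s).1 hs)
    (inv_mem hs)

theorem Sep.commutator_le_core [Fact (Nat.Prime 2)] (h : Sep A P Q) {a : G} (ha : a ∈ A)
    {a₁ : G} (ha₁ : a₁ ∈ P) (ha₁1 : a₁ ≠ 1) :
    ⁅Cfsg.centralizerPPrimeCore 2 a ⊓ centralizer ({a₁} : Set G), P⁆ ≤
      Cfsg.centralizerPPrimeCore 2 a₁ := by
  set C := centralizer ({a₁} : Set G)
  have hAC : A ≤ C := h.le_centralizer (h.hPA ha₁)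
  set R₀ := Cfsg.centralizerPPrimeCore 2 a ⊓ C
  set R := R₀.subgroupOf C
  set a' : C := ⟨a, hAC ha⟩
  set S := zpowers a'
  have hS : IsPGroup 2 S := Coprime.isPGroup_zpowers (k := 1) (Subtype.ext (by simpa using h.sq ha))
  have hRS : R ≤ centralizer (S : Set C) := by
    intro r hr
    rw [mem_centralizer_iff]
    rintro _ ⟨i, rfl⟩
    have hca : Commute a' r := Subtype.ext
      (mem_centralizer_singleton_iff.1 (core_le_centralizer a hr.1)).symm
    exact (hca.zpow_left i).eq
  have hn : centralizer (S : Set C) ≤ normalizer (R : Set C) := by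
    intro c hc
    have hca : (c : G) ∈ centralizer ({a} : Set G) := mem_centralizer_singleton_iff.2
      (congrArg Subtype.val (mem_centralizer_iff.1 hc a' (mem_zpowers a'))).symm
    refine mem_normalizer_fintype fun r hr => mem_subgroupOf.2 (mem_inf.2
      ⟨(mem_normalizer_iff.1 (centralizer_le_normalizer_core a hca) r).1 hr.1, (c * r * c⁻¹).2⟩)
  have hodd : (Nat.card R).Coprime 2 := by
    rw [Nat.card_congr (subgroupOfEquivOfLe (inf_le_right : R₀ ≤ C)).toEquiv]
    exact (coprime_core a).coprime_dvd_left (card_dvd_of_le inf_le_left)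
  have hAR : A ≤ normalizer (R₀ : Set G) :=
    Coprime.inf_le_normalizer ((h.le_centralizer ha).trans (centralizer_le_normalizer_core a))
      (hAC.trans le_normalizer)
  refine commutator_le.2 fun y hy s hs => ?_
  have hyC : y ∈ C := hy.2
  have hsC : s ∈ C := hAC (h.hPA hs)
  have hmem : (⁅(⟨y, hyC⟩ : C), ⟨s, hsC⟩⁆ : C) ∈ R := mem_subgroupOf.2
    (commutator_le_self (h.hPA.trans hAR) (commutator_mem_commutator hy hs))
  refine ⟨_, mem_core_of_centralizes hS hRS hn hodd hmem fun K hK => ?_, rfl⟩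
  set q := qHom a₁
  have hyK : q ⟨y, hyC⟩ ∈ normalizer (K : Set _) :=
    normalizes_component hS hRS hn hodd hK (mem_map_of_mem q hy)
  rw [commutatorElement_def, map_mul, map_mul, map_mul, map_inv, map_inv]
  have hyin : ∀ z ∈ R, q z ∈ Cfsg.centralizerPPrimeCore 2 (q a') := fun z hz => by
    rw [Coprime.centralizerPPrimeCore_eq, ← MonoidHom.map_zpowers]
    exact map_le_coreIn hS hRS hn hodd (mem_map_of_mem q hz)
  rcases h.component (h.hPA ha₁) ha₁1 hK with hPK | hQK
  · exact commutator_mem_centralizer hyK (hPK ⟨⟨s, hsC⟩, hs, rfl⟩)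
  · have hO : Cfsg.pPrimeCore 2 (↥C ⧸ Cfsg.pPrimeCore 2 ↥C) = ⊥ :=
      Coprime.pPrimeCore_quotient_eq_bot Nat.prime_two
    have hq2 : q a' ^ 2 = 1 := by
      rw [← map_pow, show a' ^ 2 = 1 from Subtype.ext (by simpa using h.sq ha), map_one]
    have hwhole : (∀ z ∈ R, q z ∈ centralizer (K : Set _)) →
        q ⟨y, hyC⟩ * q ⟨s, hsC⟩ * (q ⟨y, hyC⟩)⁻¹ * (q ⟨s, hsC⟩)⁻¹ ∈ centralizer (K : Set _) := by
      intro hz
      have h1 := hz ⟨y, hyC⟩ hy
      have h2 := hz (⟨s, hsC⟩ * ⟨y, hyC⟩⁻¹ * ⟨s, hsC⟩⁻¹) (mem_subgroupOf.2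
        ((mem_normalizer_iff.1 (hAR (h.hPA hs)) _).1 (inv_mem hy)))
      rw [map_mul, map_mul, map_inv, map_inv] at h2
      have := mul_mem h1 h2
      rwa [← mul_assoc, ← mul_assoc] at this
    by_cases hN : q a' ∈ normalizer (K : Set _)
    swap
    · exact hwhole fun z hz =>
        Coprime.coreCentralizer_le_centralizer_of_moved hO hq2 hK hN (hyin z hz)
    by_cases hCK : q a' ∈ centralizer (K : Set _)
    · exact hwhole fun z hz =>
        Coprime.coreCentralizer_le_centralizer_of_centralized hO hK hCK (hyin z hz)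
    obtain ⟨ap, hap, aq, haq, hpq⟩ := Coprime.mem_sup_exists (N := P) (H := Q) (fun w hw =>
      mem_normalizer_fintype fun r hr => by
        rw [h.comm (h.hQA hw) (h.hPA hr), mul_inv_cancel_right]; exact hr) (h.hsup.symm ▸ ha)
    have hapC : ap ∈ C := hAC (h.hPA hap)
    have haqK : q ⟨aq, hAC (h.hQA haq)⟩ ∈ centralizer (K : Set _) := hQK ⟨_, haq, rfl⟩
    have ha₁K : q ⟨a₁, hAC (h.hPA ha₁)⟩ ∈ centralizer (K : Set _) :=
      mem_centralizer_iff.2 fun k _ => by
        obtain ⟨k, rfl⟩ := QuotientGroup.mk'_surjective _ k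
        rw [← map_mul, ← map_mul]
        exact congrArg q (Subtype.ext (mem_centralizer_singleton_iff.1 k.2))
    have hdec : q a' = q ⟨ap, hapC⟩ * q ⟨aq, hAC (h.hQA haq)⟩ := by
      rw [← map_mul]; exact congrArg q (Subtype.ext hpq.symm)
    have hapK : q ⟨ap, hapC⟩ ∉ centralizer (K : Set _) := fun e =>
      hCK (hdec ▸ mul_mem e haqK)
    have hap1 : ap ≠ 1 := fun e => hapK (by
      rw [show (⟨ap, hapC⟩ : C) = 1 from Subtype.ext e, map_one]; exact one_mem _)
    have hapa : ap ≠ a₁ := fun e => hapK (by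
      rw [show (⟨ap, hapC⟩ : C) = ⟨a₁, hAC (h.hPA ha₁)⟩ from Subtype.ext e]; exact ha₁K)
    have hyca : q ⟨y, hyC⟩ * q a' * (q ⟨y, hyC⟩)⁻¹ = q a' := by
      rw [← map_inv, ← map_mul, ← map_mul]
      refine congrArg q (Subtype.ext ?_)
      show y * a * y⁻¹ = a
      rw [mem_centralizer_singleton_iff.1 (core_le_centralizer a hy.1), mul_inv_cancel_right]
    rcases four_cases h.hP4 (fun t ht => by rw [← pow_two]; exact h.sq (h.hPA ht)) ha₁ hap ha₁1
      hap1 hapa hs with e | e | e | e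
    · refine commutator_mem_centralizer hyK ?_
      rw [show (⟨s, hsC⟩ : C) = 1 from Subtype.ext e, map_one]; exact one_mem _
    · refine commutator_mem_centralizer hyK ?_
      rw [show (⟨s, hsC⟩ : C) = ⟨a₁, hAC (h.hPA ha₁)⟩ from Subtype.ext e]; exact ha₁K
    all_goals
      obtain ⟨z, hz, hzs⟩ : ∃ z ∈ centralizer (K : Set _), q ⟨s, hsC⟩ = q a' * z := by
        refine ⟨(q a')⁻¹ * q ⟨s, hsC⟩, ?_, (mul_inv_cancel_left _ _).symm⟩
        have hcm : q ⟨a₁, hAC (h.hPA ha₁)⟩ * q ⟨ap, hapC⟩ =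
            q ⟨ap, hapC⟩ * q ⟨a₁, hAC (h.hPA ha₁)⟩ := by
          rw [← map_mul, ← map_mul]
          exact congrArg q (Subtype.ext (h.comm (h.hPA ha₁) (h.hPA hap)))
        first
          | (rw [show (⟨s, hsC⟩ : C) = ⟨ap, hapC⟩ from Subtype.ext e, hdec, mul_inv_rev,
              inv_mul_cancel_right]
             exact inv_mem haqK)
          | (rw [show (⟨s, hsC⟩ : C) = ⟨a₁, hAC (h.hPA ha₁)⟩ * ⟨ap, hapC⟩ from Subtype.ext e,
              map_mul, hcm, hdec, mul_inv_rev, mul_assoc, inv_mul_cancel_left]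
             exact mul_mem (inv_mem haqK) ha₁K)
      have h3 := (mem_normalizer_iff.1 (Coprime.normalizer_le_normalizer_centralizer K hN) _).1
        (commutator_mem_centralizer hyK hz)
      have e2 : q ⟨y, hyC⟩ * q ⟨s, hsC⟩ * (q ⟨y, hyC⟩)⁻¹ * (q ⟨s, hsC⟩)⁻¹ =
          q a' * (q ⟨y, hyC⟩ * z * (q ⟨y, hyC⟩)⁻¹ * z⁻¹) * (q a')⁻¹ := by
        rw [hzs, show q ⟨y, hyC⟩ * (q a' * z) * (q ⟨y, hyC⟩)⁻¹ * (q a' * z)⁻¹ =
          (q ⟨y, hyC⟩ * q a' * (q ⟨y, hyC⟩)⁻¹) * (q ⟨y, hyC⟩ * z * (q ⟨y, hyC⟩)⁻¹ * z⁻¹) *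
            (q a')⁻¹ by group, hyca]
      rwa [e2]

theorem inf_centralizer_le_core [Fact (Nat.Prime 2)] (hFT : OddSolvable.{u}) (h : Sep A P Q) {a : G}
    (ha : a ∈ A) :
    ⁅Cfsg.centralizerPPrimeCore 2 a, P⁆ ⊓ centralizer (P : Set G) ≤
      coreIn 2 (centralizer (P : Set G)) := by
  set O := Cfsg.centralizerPPrimeCore 2 a
  have hPO : P ≤ normalizer (O : Set G) :=
    h.hPA.trans ((h.le_centralizer ha).trans (centralizer_le_normalizer_core a))
  have hP2 : IsPGroup 2 P := isPGroup_of_exponent_two fun s hs => h.sq (h.hPA hs)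
  have hPc : IsMulCommutative P := isMulCommutative_iff.2 fun x y =>
    Subtype.ext (h.comm (h.hPA x.2) (h.hPA y.2))
  set Y := ⁅O, P⁆
  have hYO : Y ≤ O := commutator_le_self hPO
  have hY : ⁅Y, P⁆ = Y := Coprime.commutator_commutator_eq hPO (by
      rw [h.hP4]; exact ((coprime_core a).symm.pow_left 2)) (Or.inl
      (Coprime.isSolvable_of_isMulCommutative hPc))
  rw [centralizer_eq_iSup hFT P P Y hP2 hPc le_rfl
    (Odd.of_dvd_nat (Nat.coprime_two_right.1 (coprime_core a)) (card_dvd_of_le hYO))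
    (by
      have := normalizer_commutator_ge_left P O
      rwa [commutator_comm] at this) hY]
  refine iSup_le fun ⟨B₀, hB₀, hcyc⟩ => ?_
  obtain ⟨a₁, ha₁, ha₁1⟩ : ∃ a₁ ∈ B₀, a₁ ≠ 1 := by
    by_contra! hall
    have hb : B₀ = ⊥ := (eq_bot_iff_forall _).2 hall
    subst hb
    haveI : ((⊥ : Subgroup G).subgroupOf P).Normal := by rw [bot_subgroupOf]; infer_instance
    haveI := @hcyc ‹_›
    have hPcyc : IsCyclic P := isCyclic_of_surjective
      ((QuotientGroup.quotientMulEquivOfEq (bot_subgroupOf P)).trans QuotientGroup.quotientBot).toMonoidHom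
      (MulEquiv.surjective _)
    obtain ⟨g, hg⟩ := hPcyc.exists_generator
    have h4 : orderOf g = 4 := by rw [orderOf_eq_card_of_forall_mem_zpowers hg, h.hP4]
    have h2 : orderOf g ∣ 2 := orderOf_dvd_of_pow_eq_one (Subtype.ext (by simpa using h.sq (h.hPA g.2)))
    rw [h4] at h2
    norm_num at h2
  refine le_trans ?_ (Coprime.le_coreIn (p := 2) (inf_le_right :
      Cfsg.centralizerPPrimeCore 2 a₁ ⊓ centralizer (P : Set G) ≤ _)
    (Coprime.inf_le_normalizer ((centralizer_le (Set.singleton_subset_iff.2 (hB₀ ha₁))).trans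
      (centralizer_le_normalizer_core a₁)) le_normalizer)
    ((coprime_core a₁).coprime_dvd_left (card_dvd_of_le inf_le_left)))
  refine le_inf (inf_le_right.trans ((commutator_mono ?_ le_rfl).trans
    (h.commutator_le_core ha (hB₀ ha₁) ha₁1))) (inf_le_left.trans inf_le_right)
  exact inf_le_inf hYO (centralizer_le (Set.singleton_subset_iff.2 ha₁))

theorem Sep.thetaPart_inf_centralizer [Fact (Nat.Prime 2)] (hFT : OddSolvable.{u}) (h : Sep A P Q)
    {a : G} (ha : a ∈ A) :
    thetaPart P a ⊓ centralizer (P : Set G) ≤ coreIn 2 (centralizer (P : Set G)) := by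
  intro x hx
  obtain ⟨k, hk, j, hj, rfl⟩ := Coprime.mem_sup_exists
    (inf_le_left.trans (normalizer_commutator_ge_left _ P)) hx.1
  refine mul_mem (inf_centralizer_le_core hFT h ha (mem_inf.2 ⟨hk, ?_⟩)) (mem_inf.1 hj).2
  have := mul_mem (mem_inf.1 hx).2 (inv_mem (Coprime.coreIn_le _ _ (mem_inf.1 hj).2))
  rwa [mul_inv_cancel_right] at this

theorem commutator_le_normalizer {U N : Subgroup G} (hU : N ≤ normalizer (U : Set G))
    (hP : N ≤ normalizer (P : Set G)) : N ≤ normalizer ((⁅U, P⁆ : Subgroup G) : Set G) := by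
  intro g hg
  rw [← Coprime.conjBy_eq_self_iff, show conjBy g ⁅U, P⁆ =
    (⁅U, P⁆).map (MulAut.conj g).toMonoidHom from rfl, map_commutator]
  exact congrArg₂ _ (Coprime.conjBy_eq_self_iff.2 (hU hg)) (Coprime.conjBy_eq_self_iff.2 (hP hg))

theorem Sep.centralizer_ge (h : Sep A P Q) : A ≤ centralizer (P : Set G) := fun _ hy =>
  mem_centralizer_iff.2 fun _ hz => h.comm (h.hPA hz) hy

theorem Sep.thetaPart_invariant (h : Sep A P Q) {a : G} (ha : a ∈ A) :
    A ≤ normalizer (thetaPart P a : Set G) := by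
  have h1 : A ≤ normalizer (Cfsg.centralizerPPrimeCore 2 a : Set G) :=
    (h.le_centralizer ha).trans (centralizer_le_normalizer_core a)
  exact Coprime.sup_le_normalizer
    (commutator_le_normalizer h1 (h.centralizer_ge.trans (centralizer_le_normalizer _)))
    (Coprime.inf_le_normalizer h1
      (h.centralizer_ge.trans (le_normalizer.trans (Coprime.normalizer_le_normalizer_coreIn _ _))))

theorem thetaPart_le {a : G} (h : P ≤ centralizer ({a} : Set G)) :
    thetaPart P a ≤ Cfsg.centralizerPPrimeCore 2 a :=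
  sup_le (commutator_le_self (h.trans (centralizer_le_normalizer_core a))) inf_le_left

theorem Sep.symm (h : Sep A P Q) (hQ4 : Nat.card Q = 4) : Sep A Q P :=
  ⟨h.hA, h.hQA, h.hPA, (sup_comm Q P).trans h.hsup, hQ4,
    fun x hx h1 E hE => (h.sep x hx h1 E hE).symm⟩

theorem Sep.signalizer [Fact (Nat.Prime 2)] (hFT : OddSolvable.{u}) (h : Sep A P Q)
    (hQ4 : Nat.card Q = 4) :
    Cfsg.IsSignalizerFunctor 2 A (fun a => thetaPart P a ⊓ thetaPart Q a) := by
  have h' := h.symm hQ4
  have hle : ∀ a ∈ A, thetaPart P a ⊓ thetaPart Q a ≤ Cfsg.centralizerPPrimeCore 2 a := fun a ha =>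
    inf_le_left.trans (thetaPart_le (h.hPA.trans (h.le_centralizer ha)))
  have hinv : ∀ a ∈ A, A ≤ normalizer ((thetaPart P a ⊓ thetaPart Q a : Subgroup G) : Set G) :=
    fun a ha => Coprime.inf_le_normalizer (h.thetaPart_invariant ha) (h'.thetaPart_invariant ha)
  refine ⟨fun a ha _ => (hle a ha).trans (core_le_centralizer a), fun a ha _ hd => ?_,
    fun a ha _ b hb x hx => (mem_normalizer_iff.1 (hinv a ha hb) x).1 hx, fun a ha ha1 b hb hb1 => ?_⟩
  · exact Nat.not_coprime_of_dvd_of_dvd (by norm_num) (hd.trans (card_dvd_of_le (hle a ha)))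
      dvd_rfl (coprime_core a)
  show thetaPart P a ⊓ thetaPart Q a ⊓ centralizer ({b} : Set G) ≤ thetaPart P b ⊓ thetaPart Q b
  set X := thetaPart P a ⊓ thetaPart Q a ⊓ centralizer ({b} : Set G)
  set C := centralizer ({b} : Set G)
  have hAC : A ≤ C := h.le_centralizer hb
  have hXinv : A ≤ normalizer (X : Set G) :=
    Coprime.inf_le_normalizer (hinv a ha) (hAC.trans le_normalizer)
  have hXO : X ≤ Cfsg.centralizerPPrimeCore 2 a := inf_le_left.trans (hle a ha)
  -- decomposition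
  have hdec : ∀ U V : Subgroup G, Sep A U V → X ≤ thetaPart U a →
      ∀ x ∈ X, ∃ k ∈ ⁅X, U⁆, ∃ j ∈ X ⊓ coreIn 2 (centralizer (U : Set G)), k * j = x := by
    intro U V hs hXU x hx
    have hgen := Coprime.commutator_sup_centralizer (K := X) (A := U) (hs.hPA.trans hXinv)
      (by rw [hs.hP4]; exact (((coprime_core a).coprime_dvd_left (card_dvd_of_le hXO)).symm.pow_left 2))
      (Or.inl (Coprime.isSolvable_of_isMulCommutative (isMulCommutative_iff.2 fun y z =>
        Subtype.ext (h.comm (hs.hPA y.2) (hs.hPA z.2)))))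
    obtain ⟨k, hk, j, hj, hkj⟩ := Coprime.mem_sup_exists
      (inf_le_left.trans (normalizer_commutator_ge_left X U)) (hgen.symm ▸ hx)
    exact ⟨k, hk, j, mem_inf.2 ⟨(mem_inf.1 hj).1, hs.thetaPart_inf_centralizer hFT ha
      (mem_inf.2 ⟨hXU (mem_inf.1 hj).1, (mem_inf.1 hj).2⟩)⟩, hkj⟩
  have hXP : X ≤ thetaPart P a := inf_le_left.trans inf_le_left
  have hXQ : X ≤ thetaPart Q a := inf_le_left.trans inf_le_right
  -- the step into `O(C(b))`
  have hXb : X ≤ Cfsg.centralizerPPrimeCore 2 b := by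
    set R₀ := Cfsg.centralizerPPrimeCore 2 a ⊓ C
    set R := R₀.subgroupOf C
    set a' : C := ⟨a, hAC ha⟩
    set S := zpowers a'
    have hS : IsPGroup 2 S :=
      Coprime.isPGroup_zpowers (k := 1) (Subtype.ext (by simpa using h.sq ha))
    have hRS : R ≤ centralizer (S : Set C) := by
      intro r hr
      rw [mem_centralizer_iff]
      rintro _ ⟨i, rfl⟩
      have hca : Commute a' r := Subtype.ext
        (mem_centralizer_singleton_iff.1 (core_le_centralizer a hr.1)).symm
      exact (hca.zpow_left i).eq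
    have hn : centralizer (S : Set C) ≤ normalizer (R : Set C) := by
      intro c hc
      have hca : (c : G) ∈ centralizer ({a} : Set G) := mem_centralizer_singleton_iff.2
        (congrArg Subtype.val (mem_centralizer_iff.1 hc a' (mem_zpowers a'))).symm
      exact mem_normalizer_fintype fun r hr => mem_subgroupOf.2 (mem_inf.2
        ⟨(mem_normalizer_iff.1 (centralizer_le_normalizer_core a hca) r).1 hr.1, (c * r * c⁻¹).2⟩)
    have hodd : (Nat.card R).Coprime 2 := by
      rw [Nat.card_congr (subgroupOfEquivOfLe (inf_le_right : R₀ ≤ C)).toEquiv]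
      exact (coprime_core a).coprime_dvd_left (card_dvd_of_le inf_le_left)
    intro x hx
    have hxC : x ∈ C := (mem_inf.1 hx).2
    refine ⟨⟨x, hxC⟩, mem_core_of_centralizes hS hRS hn hodd
      (mem_subgroupOf.2 (mem_inf.2 ⟨hXO hx, hxC⟩)) fun K hK => ?_, rfl⟩
    have key : ∀ U V : Subgroup G, Sep A U V → X ≤ thetaPart U a →
        (U.subgroupOf C).map (qHom b) ≤ centralizer (K : Set _) →
        qHom b ⟨x, hxC⟩ ∈ centralizer (K : Set _) := by
      intro U V hs hXU hUK
      have hUC : U ≤ C := hs.hPA.trans hAC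
      have hk : ⁅X, U⁆.subgroupOf C ≤ (centralizer (K : Set _)).comap (qHom b) := by
        have hle : ⁅X, U⁆ ≤ ((centralizer (K : Set _)).comap (qHom b)).map C.subtype := by
          refine commutator_le.2 fun y hy s hs' => ?_
          refine ⟨⟨y, (mem_inf.1 hy).2⟩ * ⟨s, hUC hs'⟩ * ⟨y, (mem_inf.1 hy).2⟩⁻¹ * ⟨s, hUC hs'⟩⁻¹,
            ?_, rfl⟩
          rw [SetLike.mem_coe, mem_comap, map_mul, map_mul, map_mul, map_inv, map_inv]
          exact commutator_mem_centralizer (normalizes_component hS hRS hn hodd hK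
            (mem_map_of_mem _ (mem_subgroupOf.2 (mem_inf.2 ⟨hXO hy, (mem_inf.1 hy).2⟩))))
            (hUK ⟨_, hs', rfl⟩)
        intro w hw
        obtain ⟨w', hw', e⟩ := hle hw
        rwa [C.subtype_injective e] at hw'
      have hj : (coreIn 2 (centralizer (U : Set G)) ⊓ C).subgroupOf C ≤
          (centralizer (K : Set _)).comap (qHom b) := by
        rw [← map_le_iff_le_comap]
        refine centralizes_component (S := U.subgroupOf C) ?_ ?_ ?_ ?_ hK hUK
        · exact (isPGroup_of_exponent_two fun s hs' => h.sq (hs.hPA hs')).of_equiv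
            (subgroupOfEquivOfLe hUC).symm
        · exact fun w hw => mem_centralizer_iff.2 fun s hs' => Subtype.ext
            (mem_centralizer_iff.1 (Coprime.coreIn_le _ _ (mem_inf.1 hw).1) s hs')
        · intro c hc
          have hcU : (c : G) ∈ centralizer (U : Set G) := mem_centralizer_iff.2 fun s hs' =>
            congrArg Subtype.val (mem_centralizer_iff.1 hc ⟨s, hUC hs'⟩ hs')
          exact mem_normalizer_fintype fun r hr => mem_subgroupOf.2 (mem_inf.2
            ⟨(mem_normalizer_iff.1 (Coprime.normalizer_le_normalizer_coreIn _ _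
              (le_normalizer hcU)) r).1 hr.1, (c * r * c⁻¹).2⟩)
        · rw [Nat.card_congr (subgroupOfEquivOfLe inf_le_right).toEquiv]
          exact (Coprime.coprime_card_coreIn Nat.prime_two _).coprime_dvd_left
            (card_dvd_of_le inf_le_left)
      obtain ⟨k, hk', j, hj', e⟩ := hdec U V hs hXU x hx
      have hkC : k ∈ C := (commutator_le_self (hs.hPA.trans hXinv) hk').2
      have hjC : j ∈ C := (mem_inf.1 hj').1.2
      rw [show (⟨x, hxC⟩ : C) = ⟨k, hkC⟩ * ⟨j, hjC⟩ from Subtype.ext e.symm, map_mul]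
      exact mul_mem (hk (show (⟨k, hkC⟩ : C) ∈ ⁅X, U⁆.subgroupOf C from hk'))
        (hj (show (⟨j, hjC⟩ : C) ∈ _ from mem_subgroupOf.2 (mem_inf.2 ⟨(mem_inf.1 hj').2, hjC⟩)))
    exact (h.component hb hb1 hK).elim (key P Q h hXP) (key Q P h' hXQ)
  have hfin : ∀ U V : Subgroup G, Sep A U V → X ≤ thetaPart U a → X ≤ thetaPart U b := by
    intro U V hs hXU x hx
    obtain ⟨k, hk, j, hj, rfl⟩ := hdec U V hs hXU x hx
    exact mul_mem_sup (commutator_mono hXb le_rfl hk)
      (mem_inf.2 ⟨hXb (mem_inf.1 hj).1, (mem_inf.1 hj).2⟩)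
  exact le_inf (hfin P Q h hXP) (hfin Q P h' hXQ)

/-- The signalizer functor of two core-separated four-groups. -/
theorem coreSeparated_signalizer (hFT : OddSolvable.{u}) (A₁ A₂ : Subgroup G)
    (hcs : Cfsg.IsCoreSeparated A₁ A₂) :
    Cfsg.IsSignalizerFunctor 2 (A₁ ⊔ A₂) (fun a => thetaPart A₁ a ⊓ thetaPart A₂ a) := by
  haveI : Fact (Nat.Prime 2) := ⟨Nat.prime_two⟩
  obtain ⟨h1, h2, hc1, hc2, -, -, hcomm, hsep⟩ := hcs
  have hn : A₂ ≤ normalizer (A₁ : Set G) :=
    le_trans (fun y hy => mem_centralizer_iff.2 fun x hx => hcomm x hx y hy)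
      (centralizer_le_normalizer _)
  have e1 : ∀ {x y}, x ∈ A₁ → y ∈ A₁ → x * y = y * x := fun hx hy =>
    congrArg Subtype.val (isMulCommutative_iff.1 h1.1 ⟨_, hx⟩ ⟨_, hy⟩)
  have e2 : ∀ {x y}, x ∈ A₂ → y ∈ A₂ → x * y = y * x := fun hx hy =>
    congrArg Subtype.val (isMulCommutative_iff.1 h2.1 ⟨_, hx⟩ ⟨_, hy⟩)
  refine Sep.signalizer hFT ⟨⟨isMulCommutative_iff.2 fun x y => Subtype.ext ?_, ?_⟩,
    le_sup_left, le_sup_right, rfl, hc1, hsep⟩ hc2
  · obtain ⟨p, hp, q, hq, hx⟩ := Coprime.mem_sup_exists hn x.2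
    obtain ⟨r, hr, s, hs, hy⟩ := Coprime.mem_sup_exists hn y.2
    show (x : G) * y = y * x
    rw [← hx, ← hy]
    exact ((show Commute p r from e1 hp hr).mul_right (hcomm p hp s hs)).mul_left
      ((show Commute q r from (hcomm r hr q hq).symm).mul_right (e2 hq hs))
  · intro x hx
    obtain ⟨p, hp, q, hq, rfl⟩ := Coprime.mem_sup_exists hn hx
    rw [(show Commute p q from hcomm p hp q hq).mul_pow, h1.2 p hp, h2.2 q hq, one_mul]

end Ambient

end CfsgLib.OddConseq
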