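import Cfsg.Agent.Lib.OddConseq.Basic
import Cfsg.Agent.Lib.Coprime.SchurZassenhaus
import Cfsg.Agent.Lib.Coprime.Core

/-!
# Hall subgroups of π-separable groups (existence, conjugacy, dominance)

`dominance` is the `D_π` property; the Schur–Zassenhaus conjugacy needs one of the two coprime orders odd.
-/

set_option autoImplicit false
set_option linter.style.haveILetI false
set_option linter.unusedSectionVars false

open Subgroup
open CfsgLib.Coprime (conjBy IsPiNum)

namespace CfsgLib.OddConseq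

universe u

/-- A π-series of length `n`. -/
def SepLen (π : Set ℕ) (n : ℕ) (G : Type u) [Group G] : Prop :=
  ∃ H : Fin (n + 1) → Subgroup G, H 0 = ⊥ ∧ H (Fin.last n) = ⊤ ∧ Monotone H ∧ (∀ i, (H i).Normal) ∧
    ∀ i : Fin n, (∀ q : ℕ, q.Prime → q ∣ (H i.castSucc).relIndex (H i.succ) → q ∈ π) ∨
      (∀ q : ℕ, q.Prime → q ∣ (H i.castSucc).relIndex (H i.succ) → q ∉ π)

theorem coprime_of_pi {π : Set ℕ} {a b : ℕ} (ha : ∀ q : ℕ, q.Prime → q ∣ a → q ∈ π)
    (hb : ∀ q : ℕ, q.Prime → q ∣ b → q ∉ π) : a.Coprime b :=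
  Nat.coprime_of_dvd fun q hq h1 h2 => hb q hq h2 (ha q hq h1)

variable {G : Type u} [Group G] [Finite G]

/-- The step over a normal π- or π'-subgroup. -/
theorem hall_step (hFT : OddSolvable.{u}) (π : Set ℕ) (N : Subgroup G) [N.Normal]
    (hN : (∀ q : ℕ, q.Prime → q ∣ Nat.card N → q ∈ π) ∨ (∀ q : ℕ, q.Prime → q ∣ Nat.card N → q ∉ π))
    (hQ : ∃ K : Subgroup (G ⧸ N), Cfsg.IsPiHall π K ∧
      ∀ U : Subgroup (G ⧸ N), (∀ q : ℕ, q.Prime → q ∣ Nat.card U → q ∈ π) → ∃ g, conjBy g U ≤ K) :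
    ∃ K : Subgroup G, Cfsg.IsPiHall π K ∧
      ∀ U : Subgroup G, (∀ q : ℕ, q.Prime → q ∣ Nat.card U → q ∈ π) → ∃ g, conjBy g U ≤ K := by
  obtain ⟨Kb, ⟨hKπ, hKi⟩, hKd⟩ := hQ
  set f := QuotientGroup.mk' N with hf
  have hsurj : Function.Surjective f := QuotientGroup.mk'_surjective N
  set L := Kb.comap f with hL
  have hNL : N ≤ L := fun x hx => by
    rw [hL, mem_comap, hf, QuotientGroup.mk'_apply, (QuotientGroup.eq_one_iff x).2 hx]
    exact one_mem _
  have hLindex : L.index = Kb.index := index_comap_of_surjective _ hsurj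
  have hLmap : L.map f = Kb := map_comap_eq_self_of_surjective hsurj _
  have hLcard : Nat.card L = Nat.card N * Nat.card Kb := by
    rw [← hLmap, hf, ← CfsgLib.Coprime.card_eq_card_mul_card_map_mk' N hNL]
  have hpull : ∀ U : Subgroup G, (∀ q : ℕ, q.Prime → q ∣ Nat.card U → q ∈ π) →
      ∃ g, conjBy g U ≤ L := by
    intro U hU
    obtain ⟨gb, hg⟩ := hKd (U.map f) fun q hq hd =>
      hU q hq (hd.trans (CfsgLib.Coprime.card_map_dvd_card f U))
    obtain ⟨g, rfl⟩ := hsurj gb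
    refine ⟨g, fun x hx => ?_⟩
    rw [hL, mem_comap]
    refine hg ?_
    rw [← CfsgLib.Coprime.conjBy_map]
    exact mem_map_of_mem f hx
  rcases hN with hN | hN
  · refine ⟨L, ⟨fun q hq hd => ?_, fun q hq hqπ => hLindex ▸ hKi q hq hqπ⟩, hpull⟩
    rw [hLcard] at hd
    exact (hq.dvd_mul.1 hd).elim (hN q hq) (hKπ q hq)
  · have hcop : (Nat.card Kb).Coprime (Nat.card N) := coprime_of_pi hKπ hN
    have hidx : (N.subgroupOf L).index = Nat.card Kb := by
      refine Nat.eq_of_mul_eq_mul_left (Nat.card_pos (α := N.subgroupOf L)) ?_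
      rw [card_mul_index, hLcard, Nat.card_congr (subgroupOfEquivOfLe hNL).toEquiv]
    obtain ⟨C, hC⟩ := exists_right_complement'_of_coprime (N := N.subgroupOf L) (by
      rw [hidx, Nat.card_congr (subgroupOfEquivOfLe hNL).toEquiv]; exact hcop.symm)
    set K := C.map L.subtype with hK
    have hKL : K ≤ L := map_subtype_le C
    have hKcard : Nat.card K = Nat.card Kb := by
      rw [hK, card_map_of_injective L.subtype_injective, ← hC.symm.index_eq_card, hidx]
    refine ⟨K, ⟨fun q hq hd => hKπ q hq (hKcard ▸ hd), fun q hq hqπ hd => ?_⟩, fun U hU => ?_⟩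
    · rw [← relIndex_mul_index hKL] at hd
      rcases hq.dvd_mul.1 hd with h | h
      · have h1 : Nat.card K * K.relIndex L = Nat.card L := by
          rw [← Nat.card_congr (subgroupOfEquivOfLe hKL).toEquiv]
          exact card_mul_index (K.subgroupOf L)
        rw [hLcard, hKcard, mul_comm (Nat.card N)] at h1
        rw [Nat.eq_of_mul_eq_mul_left Nat.card_pos h1] at h
        exact hN q hq h hqπ
      · exact hKi q hq hqπ (hLindex ▸ h)
    · obtain ⟨g, hg⟩ := hpull U hU
      set U' := conjBy g U with hU'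
      have hU'c : Nat.card U' = Nat.card U := CfsgLib.Coprime.card_conjBy g U
      set M := U' ⊔ N with hM
      have hML : M ≤ L := sup_le hg hNL
      have hsupL : ∀ x ∈ L, ∃ k ∈ K, ∃ n ∈ N, x = k * n := by
        intro x hx
        obtain ⟨⟨a, b⟩, hab⟩ := hC.symm.2 ⟨x, hx⟩
        exact ⟨((a : L) : G), mem_map_of_mem L.subtype a.2, ((b : L) : G), b.2,
          (congrArg Subtype.val hab).symm⟩
      set A := M ⊓ K with hA
      have hMA : M ≤ A ⊔ N := by
        intro x hx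
        obtain ⟨k, hk, n, hn, rfl⟩ := hsupL x (hML hx)
        refine mul_mem_sup (mem_inf.2 ⟨?_, hk⟩) hn
        have := mul_mem hx (inv_mem (mem_sup_right (S := U') hn))
        rwa [mul_inv_cancel_right] at this
      have hAN : (Nat.card N).Coprime (Nat.card A) :=
        (coprime_of_pi (fun q hq hd => hKπ q hq (hKcard ▸ hd.trans (card_dvd_of_le inf_le_right)))
          hN).symm
      have hUN : (Nat.card N).Coprime (Nat.card U') :=
        (coprime_of_pi (fun q hq hd => hU q hq (hU'c ▸ hd)) hN).symm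
      have hAeq : A ⊔ N = U' ⊔ N := le_antisymm (sup_le inf_le_left le_sup_right) hMA
      have hcard : ∀ B : Subgroup G, (Nat.card N).Coprime (Nat.card B) →
          Nat.card B = Nat.card ((B ⊔ N).map f) := by
        intro B hB
        rw [Subgroup.map_sup, show N.map f = ⊥ by
          rw [Subgroup.map_eq_bot_iff, hf, QuotientGroup.ker_mk'], sup_bot_eq]
        refine Nat.card_congr (Equiv.ofBijective (fun b : B => (⟨f b, mem_map_of_mem f b.2⟩ : B.map f))
          ⟨fun a b h => ?_, ?_⟩)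
        · have h' : ((a : G)⁻¹ * b) ∈ N ⊓ B := by
            refine mem_inf.2 ⟨?_, mul_mem (inv_mem a.2) b.2⟩
            rw [← QuotientGroup.ker_mk' N, MonoidHom.mem_ker, map_mul, map_inv]
            exact inv_mul_eq_one.2 (congrArg Subtype.val h)
          rw [CfsgLib.Coprime.disjoint_of_coprime_card hB, mem_bot, inv_mul_eq_one] at h'
          exact Subtype.ext h'
        · rintro ⟨_, b, hb, rfl⟩
          exact ⟨⟨b, hb⟩, rfl⟩
      obtain ⟨x, -, hx⟩ := CfsgLib.Coprime.sz_conj_in (A := A) (B := U') (N := N)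
        ((normalizer_eq_top N).symm ▸ le_top) hAN (hAeq ▸ le_sup_left)
        (by rw [hcard U' hUN, hcard A hAN, hAeq]) (solvable_or_of_coprime hFT hAN.symm)
      refine ⟨x * g, ?_⟩
      rw [← CfsgLib.Coprime.conjBy_conjBy, ← hU', hx]
      exact inf_le_right

/-- π-separable groups satisfy `D_π`. -/
theorem dominance (hFT : OddSolvable.{u}) (π : Set ℕ) : ∀ (n : ℕ) (G : Type u) [Group G] [Finite G],
    SepLen π n G → ∃ K : Subgroup G, Cfsg.IsPiHall π K ∧
      ∀ U : Subgroup G, (∀ q : ℕ, q.Prime → q ∣ Nat.card U → q ∈ π) → ∃ g, conjBy g U ≤ K := by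
  intro n
  induction n with
  | zero =>
    intro G _ _ ⟨H, h0, hlast, _⟩
    have htop : (⊥ : Subgroup G) = ⊤ := by rw [← h0, ← hlast]; rfl
    refine ⟨⊤, ⟨fun q hq hd => ?_, fun q hq _ hd => ?_⟩, fun U _ => ⟨1, le_top⟩⟩
    · rw [← htop, card_bot, Nat.dvd_one] at hd
      exact absurd hd hq.ne_one
    · rw [index_top, Nat.dvd_one] at hd
      exact hq.ne_one hd
  | succ n ih =>
    intro G _ _ ⟨H, h0, hlast, hmono, hnorm, hstep⟩
    haveI := hnorm 1
    refine hall_step hFT π (H 1) ?_ (ih (G ⧸ H 1) ⟨fun i => (H i.succ).map (QuotientGroup.mk' (H 1)),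
      ?_, ?_, fun i j hij => map_mono (hmono (Fin.succ_le_succ_iff.2 hij)),
      fun i => (hnorm i.succ).map _ (QuotientGroup.mk'_surjective _), fun i => ?_⟩)
    · have h := hstep 0
      rwa [Fin.castSucc_zero, h0, relIndex_bot_left, Fin.succ_zero_eq_one] at h
    · show (H (0 : Fin (n + 1)).succ).map _ = ⊥
      rw [show (0 : Fin (n + 1)).succ = 1 from Fin.succ_zero_eq_one, Subgroup.map_eq_bot_iff,
        QuotientGroup.ker_mk']
    · show (H (Fin.last n).succ).map _ = ⊤
      rw [Fin.succ_last, hlast, map_top_of_surjective _ (QuotientGroup.mk'_surjective _)]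
    · have h := hstep i.succ
      have hle : ∀ j : Fin (n + 1), H 1 ≤ H j.succ := fun j => hmono (by
        rw [← Fin.succ_zero_eq_one]; exact Fin.succ_le_succ_iff.2 (Fin.zero_le j))
      show (∀ q : ℕ, q.Prime → q ∣ ((H i.castSucc.succ).map _).relIndex ((H i.succ.succ).map _) → q ∈ π) ∨
        (∀ q : ℕ, q.Prime → q ∣ ((H i.castSucc.succ).map _).relIndex ((H i.succ.succ).map _) → q ∉ π)
      rw [relIndex_map_map, QuotientGroup.ker_mk', sup_eq_left.2 (hle _), sup_eq_left.2 (hle _)]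
      simpa only [← Fin.succ_castSucc] using h

/-- The three clauses of `D_π`. -/
theorem hall_subgroups (hFT : OddSolvable.{u}) (π : Set ℕ) {n : ℕ} (hsep : SepLen π n G) :
    (∃ K : Subgroup G, Cfsg.IsPiHall π K) ∧
      (∀ K L : Subgroup G, Cfsg.IsPiHall π K → Cfsg.IsPiHall π L →
        ∃ g : G, L = K.map (MulAut.conj g).toMonoidHom) ∧
      ∀ U : Subgroup G, (∀ q : ℕ, q.Prime → q ∣ Nat.card U → q ∈ π) →
        ∃ K : Subgroup G, Cfsg.IsPiHall π K ∧ U ≤ K := by
  obtain ⟨K₀, hK₀, hdom⟩ := dominance hFT π n G hsep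
  have hcard : ∀ K : Subgroup G, Cfsg.IsPiHall π K → Nat.card K₀ ∣ Nat.card K := by
    intro K hK
    exact (coprime_of_pi hK₀.1 fun q hq hd hqπ => hK.2 q hq hqπ hd).dvd_of_dvd_mul_right
      (by rw [card_mul_index]; exact card_subgroup_dvd_card _)
  have hconj : ∀ K : Subgroup G, Cfsg.IsPiHall π K → ∃ g, conjBy g K = K₀ := by
    intro K hK
    obtain ⟨g, hg⟩ := hdom K hK.1
    exact ⟨g, eq_of_le_of_card_ge hg (by
      rw [CfsgLib.Coprime.card_conjBy]; exact Nat.le_of_dvd Nat.card_pos (hcard K hK))⟩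
  refine ⟨⟨K₀, hK₀⟩, fun K L hK hL => ?_, fun U hU => ?_⟩
  · obtain ⟨a, ha⟩ := hconj K hK
    obtain ⟨b, hb⟩ := hconj L hL
    refine ⟨b⁻¹ * a, ?_⟩
    change L = conjBy (b⁻¹ * a) K
    rw [← CfsgLib.Coprime.conjBy_conjBy, ha, ← hb, CfsgLib.Coprime.conjBy_conjBy, inv_mul_cancel,
      CfsgLib.Coprime.conjBy_one]
  · obtain ⟨g, hg⟩ := hdom U hU
    refine ⟨conjBy g⁻¹ K₀, ⟨fun q hq hd => hK₀.1 q hq ?_, fun q hq hqπ hd => hK₀.2 q hq hqπ ?_⟩, ?_⟩
    · rwa [CfsgLib.Coprime.card_conjBy] at hd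
    · rwa [show (conjBy g⁻¹ K₀).index = K₀.index from index_map_equiv K₀ (MulAut.conj g⁻¹)] at hd
    · intro x hx
      rw [CfsgLib.Coprime.mem_conjBy, inv_inv]
      exact hg (CfsgLib.Coprime.conj_mem_conjBy hx)

end CfsgLib.OddConseq
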