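import Cfsg.Agent.Lib.OddConseq.Basic
import Cfsg.Agent.Lib.Coprime.SchurZassenhaus
import Cfsg.Prelude.Def_HallClasses

/-!
# Conjugacy of Hall subgroups is closed under extensions

If a normal subgroup and its factor group have Hall π-subgroups, all conjugate, so does the group,
once groups of odd order are known to be solvable.
-/

set_option autoImplicit false
set_option linter.style.haveILetI false
set_option linter.unusedSectionVars false

open Subgroup

namespace CfsgLib.OddConseq.HallExtension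

open CfsgLib.Coprime (conjBy mem_conjBy card_conjBy sz_conj)

universe u

section Quotient

variable {X : Type u} [Group X] [Finite X] {H B : Subgroup X} [H.Normal]

theorem card_comap_mk (L : Subgroup (X ⧸ H)) :
    Nat.card ↥(L.comap (QuotientGroup.mk' H)) = Nat.card H * Nat.card L := by
  have h1 := card_mul_index (L.comap (QuotientGroup.mk' H))
  rw [index_comap_of_surjective L (QuotientGroup.mk'_surjective H)] at h1
  have h2 : Nat.card H * (Nat.card L * L.index) = Nat.card X := by
    rw [card_mul_index L]; exact card_mul_index H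
  refine Nat.eq_of_mul_eq_mul_right (Nat.pos_of_ne_zero index_ne_zero_of_finite : 0 < L.index) ?_
  rw [h1, mul_assoc, h2]

theorem comap_map_mk {L : Subgroup X} (h : H ≤ L) :
    (L.map (QuotientGroup.mk' H)).comap (QuotientGroup.mk' H) = L :=
  comap_map_eq_self (by rwa [QuotientGroup.ker_mk'])

theorem card_map_mk_index (hHB : H ≤ B) :
    Nat.card ↥(B.map (QuotientGroup.mk' H)) = H.relIndex B ∧
      (B.map (QuotientGroup.mk' H)).index = B.index := by
  have hi : (B.map (QuotientGroup.mk' H)).index = B.index :=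
    index_map_eq B (QuotientGroup.mk'_surjective H) (by rwa [QuotientGroup.ker_mk'])
  refine ⟨Nat.eq_of_mul_eq_mul_right (Nat.pos_of_ne_zero index_ne_zero_of_finite : 0 < B.index) ?_, hi⟩
  rw [relIndex_mul_index hHB, ← hi]
  exact card_mul_index (B.map (QuotientGroup.mk' H))

variable [B.Normal]

theorem exists_over (hHB : H ≤ B) (hcop : (H.relIndex B).Coprime B.index) :
    ∃ L : Subgroup X, H ≤ L ∧ Nat.card L = Nat.card H * B.index := by
  obtain ⟨hc, hi⟩ := card_map_mk_index hHB
  haveI : (B.map (QuotientGroup.mk' H)).Normal :=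
    Normal.map inferInstance _ (QuotientGroup.mk'_surjective H)
  obtain ⟨L, hL⟩ := exists_right_complement'_of_coprime (N := B.map (QuotientGroup.mk' H))
    (by rwa [hc, hi])
  refine ⟨L.comap (QuotientGroup.mk' H), fun h hh => ?_, ?_⟩
  · rw [mem_comap, show QuotientGroup.mk' H h = 1 from (QuotientGroup.eq_one_iff h).2 hh]
    exact one_mem L
  · rw [card_comap_mk, ← hi, hL.symm.index_eq_card]

theorem conj_over (hFT : OddSolvable.{u}) (hHB : H ≤ B) (hcop : (H.relIndex B).Coprime B.index)
    {L₁ L₂ : Subgroup X} (h₁ : H ≤ L₁) (h₂ : H ≤ L₂) (c₁ : Nat.card L₁ = Nat.card H * B.index)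
    (c₂ : Nat.card L₂ = Nat.card H * B.index) : ∃ x : X, conjBy x L₁ = L₂ := by
  obtain ⟨hc, hi⟩ := card_map_mk_index hHB
  haveI : (B.map (QuotientGroup.mk' H)).Normal :=
    Normal.map inferInstance _ (QuotientGroup.mk'_surjective H)
  have hcard : ∀ L : Subgroup X, H ≤ L → Nat.card L = Nat.card H * B.index →
      Nat.card ↥(L.map (QuotientGroup.mk' H)) = (B.map (QuotientGroup.mk' H)).index := by
    intro L hL cL
    have h := card_comap_mk (L.map (QuotientGroup.mk' H))
    rw [comap_map_mk hL, cL] at h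
    rw [hi]
    exact (Nat.eq_of_mul_eq_mul_left Nat.card_pos h).symm
  obtain ⟨q, -, hq⟩ := sz_conj (N := B.map (QuotientGroup.mk' H)) (by rwa [hc, hi]) (hcard _ h₁ c₁)
    (hcard _ h₂ c₂) (solvable_or_of_coprime hFT (by rwa [hcard _ h₂ c₂, hc, hi]))
  obtain ⟨x, rfl⟩ := QuotientGroup.mk'_surjective H q
  refine ⟨x, ?_⟩
  rw [← CfsgLib.Coprime.conjBy_map] at hq
  have hle : H ≤ conjBy x L₁ := fun h hh => mem_conjBy.2 (h₁ (by
    simpa using (inferInstance : H.Normal).conj_mem h hh x⁻¹))
  rw [← comap_map_mk hle, hq, comap_map_mk h₂]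

end Quotient

variable {G : Type u} [Group G] [Finite G] {π : Set ℕ} {A : Subgroup G}

theorem hall_conjBy {H : Subgroup G} (hH : Cfsg.IsPiHall π H) (g : G) :
    Cfsg.IsPiHall π (conjBy g H) := by
  refine ⟨by rw [card_conjBy]; exact hH.1, ?_⟩
  rw [show (conjBy g H).index = H.index from index_map_equiv H (MulAut.conj g)]
  exact hH.2

theorem hall_subgroupOf [A.Normal] {L : Subgroup G} (hL : Cfsg.IsPiHall π L) :
    Cfsg.IsPiHall π (L.subgroupOf A) := by
  refine ⟨fun q hq hd => hL.1 q hq (hd.trans ?_), fun q hq hqπ hd => hL.2 q hq hqπ (hd.trans ?_)⟩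
  · rw [← card_map_of_injective A.subtype_injective, subgroupOf_map_subtype]
    exact card_dvd_of_le inf_le_left
  · show L.relIndex A ∣ L.index
    refine dvd_trans (dvd_of_eq ?_) (relIndex_dvd_index_of_le (le_sup_left : L ≤ L ⊔ A))
    have e1 := card_mul_index (A.subgroupOf (L ⊔ A))
    have e2 := card_mul_index (L.subgroupOf (L ⊔ A))
    have e3 := card_mul_index (L.subgroupOf A)
    have e4 := card_mul_index (A.subgroupOf L)
    simp only [← relIndex.eq_1] at e1 e2 e3 e4
    rw [Nat.card_congr (subgroupOfEquivOfLe le_sup_right).toEquiv, relIndex_sup_right] at e1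
    rw [Nat.card_congr (subgroupOfEquivOfLe le_sup_left).toEquiv] at e2
    rw [← card_map_of_injective A.subtype_injective, subgroupOf_map_subtype] at e3
    rw [← card_map_of_injective L.subtype_injective, subgroupOf_map_subtype, inf_comm] at e4
    refine Nat.eq_of_mul_eq_mul_left (Nat.card_pos (α := L)) ?_
    rw [e2, ← e1, ← e3, ← e4]
    ring

theorem hall_map [A.Normal] {L : Subgroup G} (hL : Cfsg.IsPiHall π L) :
    Cfsg.IsPiHall π (L.map (QuotientGroup.mk' A)) := by
  refine ⟨fun q hq hd => hL.1 q hq (hd.trans (L.card_map_dvd _)), fun q hq hqπ hd => hL.2 q hq hqπ ?_⟩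
  exact hd.trans (index_map_dvd L (QuotientGroup.mk'_surjective A))

theorem main (hFT : OddSolvable.{u}) [A.Normal] (hA : Cfsg.IsCPiGroup π ↥A)
    (hQ : Cfsg.IsCPiGroup π (G ⧸ A)) : Cfsg.IsCPiGroup π G := by
  obtain ⟨⟨H₀, hH₀⟩, hAconj⟩ := hA
  obtain ⟨⟨K, hK⟩, hQconj⟩ := hQ
  set H := H₀.map A.subtype with hHdef
  have hHA : H ≤ A := map_subtype_le H₀
  have hH₀eq : H.subgroupOf A = H₀ := comap_map_eq_self_of_injective A.subtype_injective H₀
  -- every Hall subgroup of `A` is `A`-conjugate to `H`
  have hto : ∀ L : Subgroup G, L ≤ A → Cfsg.IsPiHall π (L.subgroupOf A) →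
      ∃ a ∈ A, conjBy a L = H := by
    intro L hLA hL
    obtain ⟨a, ha⟩ := hAconj _ _ hL hH₀
    refine ⟨a, a.2, ?_⟩
    rw [hHdef, ha, map_map]
    conv_lhs => rw [← inf_eq_left.2 hLA, ← subgroupOf_map_subtype]
    rw [conjBy, map_map]
    congr 1
  set N := normalizer (H : Set G) with hN
  have hfrat : ∀ g : G, ∃ n ∈ N, (QuotientGroup.mk' A) n = QuotientGroup.mk' A g := by
    intro g
    have hle : conjBy g H ≤ A := fun x hx => by
      have h := (inferInstance : A.Normal).conj_mem _ (hHA (mem_conjBy.1 hx)) g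
      simpa [mul_assoc] using h
    obtain ⟨a, ha, hag⟩ := hto _ hle (by
      refine ⟨?_, ?_⟩
      · rw [Nat.card_congr (subgroupOfEquivOfLe hle).toEquiv, card_conjBy,
          card_map_of_injective A.subtype_injective]
        exact hH₀.1
      · intro q hq hqπ hd
        refine hH₀.2 q hq hqπ ?_
        have e1 := card_mul_index ((conjBy g H).subgroupOf A)
        rw [Nat.card_congr (subgroupOfEquivOfLe hle).toEquiv, card_conjBy,
          card_map_of_injective A.subtype_injective, ← card_mul_index H₀] at e1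
        rwa [← Nat.eq_of_mul_eq_mul_left Nat.card_pos e1])
    rw [CfsgLib.Coprime.conjBy_conjBy] at hag
    exact ⟨a * g, CfsgLib.Coprime.conjBy_eq_self_iff.1 hag, by
      rw [map_mul, show QuotientGroup.mk' A a = 1 from (QuotientGroup.eq_one_iff a).2 ha, one_mul]⟩
  -- the section in which the complements live
  have hsect : ∀ K' : Subgroup (G ⧸ A), Cfsg.IsPiHall π K' →
      let M := N ⊓ K'.comap (QuotientGroup.mk' A)
      (H.subgroupOf M).Normal ∧ (A.subgroupOf M).Normal ∧ H ≤ M ∧
        (A.subgroupOf M).index = Nat.card K' ∧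
        ((H.subgroupOf M).relIndex (A.subgroupOf M)).Coprime (A.subgroupOf M).index := by
    intro K' hK' M
    have hHM : H ≤ M := le_inf le_normalizer fun x hx => by
      rw [mem_comap, show QuotientGroup.mk' A x = 1 from (QuotientGroup.eq_one_iff x).2 (hHA hx)]
      exact one_mem K'
    have hind : (A.subgroupOf M).index = Nat.card K' := by
      have hker : A.subgroupOf M = ((QuotientGroup.mk' A).comp M.subtype).ker := by
        rw [← MonoidHom.comap_ker, QuotientGroup.ker_mk']; rfl
      rw [hker, index_ker, MonoidHom.range_comp, range_subtype]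
      congr 2
      refine le_antisymm (map_le_iff_le_comap.2 inf_le_right) fun q hq => ?_
      obtain ⟨g, rfl⟩ := QuotientGroup.mk'_surjective A q
      obtain ⟨n, hn, hng⟩ := hfrat g
      exact ⟨n, ⟨hn, mem_comap.2 (by rw [hng]; exact hq)⟩, hng⟩
    refine ⟨(normal_subgroupOf_iff_le_normalizer hHM).2 inf_le_left, normal_subgroupOf, hHM, hind, ?_⟩
    rw [hind]
    refine Nat.coprime_of_dvd fun q hq hd1 hd2 => hH₀.2 q hq (hK'.1 q hq hd2) (hd1.trans ?_)
    have e : (H.subgroupOf M).relIndex (A.subgroupOf M) = H.relIndex (A ⊓ M) := by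
      rw [← inf_subgroupOf_right A M, relIndex_subgroupOf (inf_le_right : A ⊓ M ≤ M)]
    rw [e, ← hH₀eq]
    exact ⟨_, (relIndex_mul_relIndex H (A ⊓ M) A (le_inf hHA hHM) inf_le_left).symm⟩
  have hHcard : Nat.card H = Nat.card H₀ := card_map_of_injective A.subtype_injective
  refine ⟨?_, ?_⟩
  · set M := N ⊓ K.comap (QuotientGroup.mk' A)
    obtain ⟨hHn, hAn, hHM, hind, hcop⟩ := hsect K hK
    haveI := hHn
    haveI := hAn
    obtain ⟨L, -, hL⟩ := exists_over (H := H.subgroupOf M) (B := A.subgroupOf M)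
      (fun x hx => hHA hx) hcop
    rw [hind, Nat.card_congr (subgroupOfEquivOfLe hHM).toEquiv, hHcard] at hL
    have hLc : Nat.card ↥(L.map M.subtype) = Nat.card H₀ * Nat.card K := by
      rw [card_map_of_injective M.subtype_injective, hL]
    refine ⟨L.map M.subtype, fun q hq hd => ?_, fun q hq hqπ hd => ?_⟩
    · rw [hLc] at hd
      exact (hq.dvd_mul.1 hd).elim (hH₀.1 q hq) (hK.1 q hq)
    · have e1 := card_mul_index (L.map M.subtype)
      rw [hLc, ← card_mul_index A, ← card_mul_index H₀] at e1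
      have e2 : A.index = Nat.card K * K.index := (card_mul_index K).symm
      have e3 : (L.map M.subtype).index = H₀.index * K.index := by
        refine Nat.eq_of_mul_eq_mul_left
          (Nat.mul_pos (Nat.card_pos (α := H₀)) (Nat.card_pos (α := K))) ?_
        rw [e1, e2]; ring
      rw [e3] at hd
      exact (hq.dvd_mul.1 hd).elim (hH₀.2 q hq hqπ) (hK.2 q hq hqπ)
  · -- normalise the intersection with `A`
    have hmove : ∀ L : Subgroup G, Cfsg.IsPiHall π L → ∃ g : G, conjBy g L ⊓ A = H := by
      intro L hL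
      obtain ⟨a, ha, haL⟩ := hto (L ⊓ A) inf_le_right (by
        rw [inf_subgroupOf_right]; exact hall_subgroupOf hL)
      refine ⟨a, ?_⟩
      rw [← haL, conjBy, conjBy, map_inf _ _ _ (MulAut.conj a).injective]
      congr 1
      exact (CfsgLib.Coprime.conjBy_eq_self_of_mem ha).symm
    have hcore : ∀ L₁ L₂ : Subgroup G, Cfsg.IsPiHall π L₁ → Cfsg.IsPiHall π L₂ →
        L₁ ⊓ A = H → L₂ ⊓ A = H → ∃ g : G, conjBy g L₁ = L₂ := by
      intro L₁ L₂ h₁ h₂ i₁ i₂
      obtain ⟨q, hq⟩ := hQconj _ _ (hall_map (A := A) h₁) (hall_map (A := A) h₂)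
      obtain ⟨g, rfl⟩ := QuotientGroup.mk'_surjective A q
      obtain ⟨n, hn, hng⟩ := hfrat g
      rw [← hng] at hq
      change _ = conjBy _ _ at hq
      rw [← CfsgLib.Coprime.conjBy_map] at hq
      set L₁' := conjBy n L₁
      have h₁' : Cfsg.IsPiHall π L₁' := hall_conjBy h₁ n
      have i₁' : L₁' ⊓ A = H := by
        have hA' : conjBy n A = A := by
          ext x
          rw [mem_conjBy]
          exact ⟨fun h => by simpa [mul_assoc] using (inferInstance : A.Normal).conj_mem _ h n,
            fun h => by simpa using (inferInstance : A.Normal).conj_mem x h n⁻¹⟩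
        conv_lhs => rw [← hA']
        rw [← map_inf _ _ _ (MulAut.conj n).injective, i₁]
        exact CfsgLib.Coprime.conjBy_eq_self_iff.2 hn
      set K' := L₂.map (QuotientGroup.mk' A) with hK'def
      set M := N ⊓ K'.comap (QuotientGroup.mk' A) with hMdef
      obtain ⟨hHn, hAn, hHM, hind, hcop⟩ := hsect K' (hall_map h₂)
      have hin : ∀ L : Subgroup G, Cfsg.IsPiHall π L → L ⊓ A = H →
          L.map (QuotientGroup.mk' A) = K' → L ≤ M ∧ H.subgroupOf M ≤ L.subgroupOf M ∧
            Nat.card L = Nat.card H * Nat.card K' := by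
        intro L hL iL mL
        have hHL : H ≤ L := iL ▸ inf_le_left
        refine ⟨le_inf (fun l hl => mem_normalizer_iff.2 fun x => ?_)
          (map_le_iff_le_comap.1 mL.le), fun x hx => hHL hx, ?_⟩
        · rw [← iL, mem_inf, mem_inf]
          refine and_congr ⟨fun h => mul_mem (mul_mem hl h) (inv_mem hl), fun h => ?_⟩
            ⟨fun h => (inferInstance : A.Normal).conj_mem x h l, fun h => ?_⟩
          · simpa [mul_assoc] using mul_mem (mul_mem (inv_mem hl) h) hl
          · simpa [mul_assoc] using (inferInstance : A.Normal).conj_mem _ h l⁻¹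
        · have e := card_mul_index ((QuotientGroup.mk' A).comp L.subtype).ker
          rw [index_ker, MonoidHom.range_comp, range_subtype, mL] at e
          have hker : ((QuotientGroup.mk' A).comp L.subtype).ker = A.subgroupOf L := by
            rw [← MonoidHom.comap_ker, QuotientGroup.ker_mk']; rfl
          rw [hker, ← card_map_of_injective L.subtype_injective, subgroupOf_map_subtype,
            inf_comm, iL] at e
          exact e.symm
      obtain ⟨u₁, v₁, w₁⟩ := hin L₁' h₁' i₁' hq.symm
      obtain ⟨u₂, v₂, w₂⟩ := hin L₂ h₂ i₂ rfl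
      haveI := hHn
      haveI := hAn
      obtain ⟨x, hx⟩ := conj_over hFT (H := H.subgroupOf M) (B := A.subgroupOf M)
        (fun x hx => hHA hx) hcop v₁ v₂
        (by rw [hind, Nat.card_congr (subgroupOfEquivOfLe hHM).toEquiv,
          Nat.card_congr (subgroupOfEquivOfLe u₁).toEquiv, w₁])
        (by rw [hind, Nat.card_congr (subgroupOfEquivOfLe hHM).toEquiv,
          Nat.card_congr (subgroupOfEquivOfLe u₂).toEquiv, w₂])
      refine ⟨(x : G) * n, ?_⟩
      rw [← CfsgLib.Coprime.conjBy_conjBy]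
      have h := congrArg (map M.subtype) hx
      rwa [CfsgLib.Coprime.conjBy_map, subgroupOf_map_subtype, subgroupOf_map_subtype,
        inf_eq_left.2 u₁, inf_eq_left.2 u₂] at h
    intro L₁ L₂ h₁ h₂
    obtain ⟨g₁, i₁⟩ := hmove L₁ h₁
    obtain ⟨g₂, i₂⟩ := hmove L₂ h₂
    obtain ⟨g, hg⟩ := hcore _ _ (hall_conjBy h₁ g₁) (hall_conjBy h₂ g₂) i₁ i₂
    refine ⟨g₂⁻¹ * (g * g₁), ?_⟩
    show L₂ = conjBy _ L₁
    rw [← CfsgLib.Coprime.conjBy_conjBy, ← CfsgLib.Coprime.conjBy_conjBy, hg,
      CfsgLib.Coprime.conjBy_conjBy, inv_mul_cancel, CfsgLib.Coprime.conjBy_one]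

end CfsgLib.OddConseq.HallExtension
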