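import Cfsg.Agent.S5212
import Cfsg.Agent.S0949
import Cfsg.Agent.Lib.Fusion.System.GroupCriteria
import Cfsg.Agent.Lib.Invol.ThreePoint
import Cfsg.Agent.Lib.Coprime.Core
import Mathlib.GroupTheory.SpecificGroups.Quaternion
import Mathlib.GroupTheory.SpecificGroups.Dihedral
import Mathlib.Algebra.Group.Pi.Lemmas

/-!
# Metacyclic Sylow `2`-subgroups with a cyclic quotient of order at least four

Given the odd order theorem such groups are solvable.
-/

set_option autoImplicit false
set_option linter.style.haveILetI false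

open Subgroup

namespace CfsgLib.OddConseq.MetaQuot

universe u

/-- A cyclic group with all squares trivial has at most two elements. -/
theorem card_le_two {Q : Type*} [Group Q] [Finite Q] (hQ : IsCyclic Q) (h : ∀ x : Q, x ^ 2 = 1) :
    Nat.card Q ≤ 2 := by
  obtain ⟨g, hg⟩ := hQ.exists_generator
  rw [← orderOf_eq_card_of_forall_mem_zpowers hg]
  exact Nat.le_of_dvd two_pos (orderOf_dvd_of_pow_eq_one (h g))

/-- Squares are trivial in an abelian quotient generated by such elements. -/
theorem sq_eq_one_of_closure {Q : Type*} [Group Q] (hc : ∀ a b : Q, a * b = b * a) {s : Set Q}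
    (hs : Subgroup.closure s = ⊤) (h : ∀ x ∈ s, x ^ 2 = 1) (x : Q) : x ^ 2 = 1 := by
  have hx : x ∈ Subgroup.closure s := hs ▸ mem_top x
  induction hx using Subgroup.closure_induction with
  | mem y hy => exact h y hy
  | one => exact one_pow 2
  | mul y z _ _ iy iz => rw [(Commute.mul_pow (hc y z) 2), iy, iz, one_mul]
  | inv y _ iy => rw [inv_pow, iy, inv_one]

variable {G : Type u} [Group G] [Finite G]

theorem isSolvable_of_complement
    (hFT : ∀ (K : Type u) [Group K] [Finite K], Odd (Nat.card K) → Group.IsSolvable K)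
    (h : Cfsg.HasNormalPComplement 2 G) : Group.IsSolvable G := by
  haveI : Fact (Nat.Prime 2) := ⟨Nat.prime_two⟩
  obtain ⟨P, N, hN, hc⟩ := h
  haveI := hN
  have hodd : Odd (Nat.card N) := by
    have h2 : ¬ 2 ∣ Nat.card N := hc.index_eq_card ▸ P.not_dvd_index
    exact Nat.odd_iff.2 (by omega)
  haveI := hFT N hodd
  haveI : Group.IsSolvable (G ⧸ N) := by
    haveI : Group.IsNilpotent (G ⧸ N) := by
      obtain ⟨k, hk⟩ := P.2.exists_card_eq
      exact IsPGroup.isNilpotent (p := 2) (IsPGroup.of_card (n := k) (by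
        rw [← index_eq_card, hc.symm.index_eq_card, hk]))
    infer_instance
  exact Group.isSolvable_of_ker_le_range N.subtype (QuotientGroup.mk' N)
    (by rw [QuotientGroup.ker_mk', range_subtype])

/-- The homocyclic case. -/
theorem isSolvable_of_homocyclic
    (hFT : ∀ (K : Type u) [Group K] [Finite K], Odd (Nat.card K) → Group.IsSolvable K)
    (S : Sylow 2 G) (m : ℕ) (hm : 2 ≤ m)
    (e : (S : Subgroup G) ≃* Multiplicative (ZMod (2 ^ m) × ZMod (2 ^ m))) :
    Group.IsSolvable G := by
  haveI : Fact (Nat.Prime 2) := ⟨Nat.prime_two⟩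
  haveI : (Cfsg.pPrimeCore 2 G).Normal :=
    haveI := Coprime.pPrimeCore_characteristic (G := G) 2; inferInstance
  have hnd : ¬ 2 ∣ Nat.card (Cfsg.pPrimeCore 2 G) := Coprime.pPrimeCore_not_dvd Nat.prime_two
  set f := QuotientGroup.mk' (Cfsg.pPrimeCore 2 G)
  have hf : Function.Surjective f := QuotientGroup.mk'_surjective _
  set T := S.mapSurjective hf with hT
  have hinj : Function.Injective (f.subgroupMap (S : Subgroup G)) := by
    rw [← MonoidHom.ker_eq_bot_iff, eq_bot_iff]
    intro x hx
    have hxK : (x : G) ∈ Cfsg.pPrimeCore 2 G :=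
      (QuotientGroup.eq_one_iff _).1 (congrArg Subtype.val (MonoidHom.mem_ker.1 hx))
    obtain ⟨k, hk⟩ := S.2 x
    have h1 : orderOf (x : G) ∣ 2 ^ k := by
      rw [orderOf_coe]; exact orderOf_dvd_of_pow_eq_one hk
    have h2 := Nat.eq_one_of_dvd_coprimes
      ((Nat.prime_two.coprime_iff_not_dvd.2 hnd).pow_left k) h1 (orderOf_dvd_natCard _ hxK)
    rw [mem_bot]
    exact Subtype.ext (orderOf_eq_one_iff.1 h2)
  let e' : (T : Subgroup (G ⧸ Cfsg.pPrimeCore 2 G)) ≃* Multiplicative (ZMod (2 ^ m) × ZMod (2 ^ m)) :=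
    ((MulEquiv.ofBijective _ ⟨hinj, f.subgroupMap_surjective _⟩).trans
      (MulEquiv.subgroupCongr (Sylow.coe_mapSurjective hf S).symm)).symm.trans e
  obtain ⟨hn, -, hidx⟩ := Cfsg.Agent.S0949.result T m hm e' fun N hN hodd => by
    haveI := hN
    rw [eq_bot_iff, ← Coprime.pPrimeCore_quotient_eq_bot (G := G) Nat.prime_two]
    exact Coprime.le_pPrimeCore_of_not_dvd Nat.prime_two (fun h2 => Nat.not_even_iff_odd.2 hodd
      (even_iff_two_dvd.2 h2))
  haveI := hn
  haveI : Group.IsSolvable (T : Subgroup (G ⧸ Cfsg.pPrimeCore 2 G)) :=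
    Group.isSolvable_of_comm fun a b => e'.injective (by rw [map_mul, map_mul, mul_comm])
  haveI : Group.IsSolvable ((G ⧸ Cfsg.pPrimeCore 2 G) ⧸ (T : Subgroup (G ⧸ Cfsg.pPrimeCore 2 G))) := by
    rcases hidx with h1 | h3
    · haveI : Subsingleton ((G ⧸ Cfsg.pPrimeCore 2 G) ⧸ (T : Subgroup (G ⧸ Cfsg.pPrimeCore 2 G))) :=
        (Nat.card_eq_one_iff_unique.1 (by rwa [← index_eq_card])).1
      exact Group.isSolvable_of_comm fun a b => Subsingleton.elim _ _
    · haveI : Fact (Nat.Prime 3) := ⟨Nat.prime_three⟩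
      haveI : IsCyclic ((G ⧸ Cfsg.pPrimeCore 2 G) ⧸ (T : Subgroup (G ⧸ Cfsg.pPrimeCore 2 G))) :=
        isCyclic_of_prime_card (p := 3) (by rwa [← index_eq_card])
      exact Group.isSolvable_of_comm IsCyclic.commGroup.mul_comm
  haveI : Group.IsSolvable (G ⧸ Cfsg.pPrimeCore 2 G) := Group.isSolvable_of_ker_le_range
    (T : Subgroup (G ⧸ Cfsg.pPrimeCore 2 G)).subtype
    (QuotientGroup.mk' (T : Subgroup (G ⧸ Cfsg.pPrimeCore 2 G)))
    (by rw [QuotientGroup.ker_mk', range_subtype])
  haveI := hFT (Cfsg.pPrimeCore 2 G) (Nat.odd_iff.2 (by omega))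
  exact Group.isSolvable_of_ker_le_range (Cfsg.pPrimeCore 2 G).subtype f
    (by rw [QuotientGroup.ker_mk', range_subtype])

/-- A metacyclic Sylow `2`-subgroup with a cyclic quotient of order `> 2` forces solvability. -/
theorem isSolvable
    (hFT : ∀ (K : Type u) [Group K] [Finite K], Odd (Nat.card K) → Group.IsSolvable K)
    (S : Sylow 2 G) (N : Subgroup (S : Subgroup G)) [N.Normal] (hNc : IsCyclic N)
    (hQc : IsCyclic ((S : Subgroup G) ⧸ N)) (hQ : 2 < Nat.card ((S : Subgroup G) ⧸ N)) :
    Group.IsSolvable G := by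
  classical
  haveI : Fact (Nat.Prime 2) := ⟨Nat.prime_two⟩
  have hm : Cfsg.IsMetacyclic (S : Subgroup G) := ⟨N, inferInstance, hNc, hQc⟩
  by_cases hcyc : IsCyclic (S : Subgroup G)
  · exact isSolvable_of_complement hFT (Invol.hasNormalPComplement_two_of_isCyclic S hcyc)
  have hsqne : ¬ ∀ x : (S : Subgroup G), (QuotientGroup.mk' N x) ^ 2 = 1 := fun h => by
    have := card_le_two hQc fun y => by
      obtain ⟨x, rfl⟩ := QuotientGroup.mk'_surjective N y; exact h x
    omega
  have hQcomm : ∀ a b : (S : Subgroup G) ⧸ N, a * b = b * a := IsCyclic.commGroup.mul_comm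
  by_cases hh : ∃ n k : ℕ, Nonempty ((S : Subgroup G) ≃* Multiplicative (Fin k → ZMod (2 ^ n)))
  · obtain ⟨n, k, ⟨e⟩⟩ := hh
    have hexp : ∀ x : (S : Subgroup G), x ^ (2 ^ n) = 1 := fun x => e.injective (by
      rw [map_pow, map_one]
      refine Multiplicative.toAdd.injective ?_
      rw [toAdd_pow, toAdd_one]
      funext i
      simp)
    have hn : 2 ≤ n := by
      by_contra hlt
      refine hsqne fun x => ?_
      rw [← map_pow, show x ^ 2 = 1 by
        obtain rfl | rfl : n = 0 ∨ n = 1 := by omega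
        · have := hexp x; rw [pow_zero, pow_one] at this; rw [this, one_pow]
        · simpa using hexp x, map_one]
    have hk : k = 2 := by
      rcases Nat.lt_or_ge k 2 with h2 | h2
      · exfalso
        apply hcyc
        obtain rfl | rfl : k = 0 ∨ k = 1 := by omega
        · haveI : Subsingleton (S : Subgroup G) := e.toEquiv.subsingleton
          infer_instance
        · let e1 : Multiplicative (Fin 1 → ZMod (2 ^ n)) ≃* Multiplicative (ZMod (2 ^ n)) :=
            AddEquiv.toMultiplicative
              { Equiv.funUnique (Fin 1) (ZMod (2 ^ n)) with map_add' := fun _ _ => rfl }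
          exact isCyclic_of_surjective (e.trans e1).symm.toMonoidHom (e.trans e1).symm.surjective
      by_contra hk2
      haveI : NeZero (2 ^ n) := ⟨(pow_pos two_pos n).ne'⟩
      let c : ZMod (2 ^ n) →+* ZMod 2 :=
        ZMod.castHom (dvd_pow_self 2 (by omega : n ≠ 0)) (ZMod 2)
      let red : Multiplicative (Fin k → ZMod (2 ^ n)) →* Multiplicative (Fin k → ZMod 2) :=
        AddMonoidHom.toMultiplicative (AddMonoidHom.compLeft c.toAddMonoidHom (Fin k))
      let g : (S : Subgroup G) →* Multiplicative (Fin k → ZMod 2) := red.comp e.toMonoidHom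
      have hg : Function.Surjective g := fun v => by
        choose w hw using fun i => ZMod.ringHom_surjective c (Multiplicative.toAdd v i)
        refine ⟨e.symm (Multiplicative.ofAdd w), ?_⟩
        show red (e (e.symm _)) = v
        rw [MulEquiv.apply_symm_apply]
        exact Multiplicative.toAdd.injective (funext hw)
      have hV2 : ∀ v : Multiplicative (Fin k → ZMod 2), v ^ 2 = 1 := fun v => by
        refine Multiplicative.toAdd.injective ?_
        rw [toAdd_pow, toAdd_one]
        funext i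
        rw [Pi.smul_apply, nsmul_eq_mul]
        exact (mul_eq_zero_of_left (ZMod.natCast_self 2) _)
      haveI : (N.map g).Normal := Subgroup.Normal.map inferInstance g hg
      have h1 : Nat.card (N.map g) ≤ 2 :=
        card_le_two (isCyclic_of_surjective (g.subgroupMap N) (g.subgroupMap_surjective N))
          fun x => Subtype.ext (hV2 _)
      have hqs : Function.Surjective (QuotientGroup.map N (N.map g) g (Subgroup.le_comap_map g N)) := by
        intro y
        obtain ⟨v, rfl⟩ := QuotientGroup.mk'_surjective (N.map g) y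
        obtain ⟨x, rfl⟩ := hg v
        exact ⟨QuotientGroup.mk' N x, rfl⟩
      have h3 : Nat.card (Multiplicative (Fin k → ZMod 2) ⧸ N.map g) ≤ 2 := by
        refine card_le_two (isCyclic_of_surjective _ hqs) fun x => ?_
        obtain ⟨v, rfl⟩ := QuotientGroup.mk'_surjective (N.map g) x
        rw [← map_pow, hV2, map_one]
      have h4 : Nat.card (Multiplicative (Fin k → ZMod 2)) = 2 ^ k := by
        rw [Nat.card_congr Multiplicative.toAdd, Nat.card_pi, Finset.prod_const, Finset.card_univ,
          Fintype.card_fin, Nat.card_zmod]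
      have h5 : 2 ^ 3 ≤ 2 ^ k := Nat.pow_le_pow_right two_pos (by omega)
      have h6 := (N.map g).card_eq_card_quotient_mul_card_subgroup
      have := Nat.mul_le_mul h3 h1
      rw [h4] at h6
      omega
    subst hk
    let e2 : (Fin 2 → ZMod (2 ^ n)) ≃+ ZMod (2 ^ n) × ZMod (2 ^ n) :=
      { piFinTwoEquiv fun _ => ZMod (2 ^ n) with map_add' := fun _ _ => rfl }
    exact isSolvable_of_homocyclic hFT S n hn (e.trans (AddEquiv.toMultiplicative e2))
  have hd : ¬ ∃ m : ℕ, Nonempty ((S : Subgroup G) ≃* DihedralGroup m) := by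
    rintro ⟨m, ⟨e⟩⟩
    refine hsqne fun x => ?_
    set q : DihedralGroup m →* (S : Subgroup G) ⧸ N :=
      (QuotientGroup.mk' N).comp e.symm.toMonoidHom with hq
    have hsr : ∀ i, q (DihedralGroup.sr i) ^ 2 = 1 := fun i => by
      rw [pow_two, ← map_mul, DihedralGroup.sr_mul_self, map_one]
    have hall : ∀ y, q y ^ 2 = 1 := by
      rintro (i | i)
      · rw [show DihedralGroup.r i = DihedralGroup.sr 0 * DihedralGroup.sr i by
          rw [DihedralGroup.sr_mul_sr, sub_zero], map_mul, Commute.mul_pow (hQcomm _ _),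
          hsr, hsr, one_mul]
      · exact hsr i
    simpa [hq] using hall (e x)
  have hqu : ¬ ∃ m : ℕ, Nonempty ((S : Subgroup G) ≃* QuaternionGroup m) := by
    rintro ⟨m, ⟨e⟩⟩
    rcases eq_or_ne m 0 with rfl | hm0
    · haveI : Finite (QuaternionGroup 0) := Finite.of_equiv _ e.toEquiv
      exact (not_finite_iff_infinite.2 (Infinite.of_injective
        (fun i : ℤ => (QuaternionGroup.a i : QuaternionGroup 0))
        fun i j h => QuaternionGroup.a.inj h)) inferInstance
    haveI : NeZero m := ⟨hm0⟩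
    have hcard : Nat.card (S : Subgroup G) = 4 * m := by
      rw [Nat.card_congr e.toEquiv, Nat.card_eq_fintype_card, QuaternionGroup.card]
    rcases eq_or_ne m 1 with rfl | hm1
    · apply hcyc
      refine isCyclic_of_orderOf_eq_card (e.symm (QuaternionGroup.xa 0)) ?_
      rw [MulEquiv.orderOf_eq, QuaternionGroup.orderOf_xa, hcard]
    have hev : 2 ∣ m := by
      obtain ⟨j, hj⟩ := S.2.exists_card_eq
      rw [hcard] at hj
      have h4 : m ∣ 2 ^ j := hj ▸ dvd_mul_left m 4
      obtain ⟨i, -, rfl⟩ := (Nat.dvd_prime_pow Nat.prime_two).1 h4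
      exact dvd_pow_self 2 fun h => hm1 (by rw [h, pow_zero])
    refine hsqne fun x => ?_
    set q : QuaternionGroup m →* (S : Subgroup G) ⧸ N :=
      (QuotientGroup.mk' N).comp e.symm.toMonoidHom with hq
    have h1 : q (QuaternionGroup.a 1) ^ 2 = 1 := by
      have e1 : QuaternionGroup.xa (0 : ZMod (2 * m)) * QuaternionGroup.a 1 *
          QuaternionGroup.a 1 = QuaternionGroup.a (-1) * QuaternionGroup.xa 0 * QuaternionGroup.a 1 := by
        rw [QuaternionGroup.xa_mul_a, QuaternionGroup.a_mul_xa]; simp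
      have h2 := congrArg q e1
      simp only [map_mul] at h2
      have h3 : q (QuaternionGroup.a (-1)) = (q (QuaternionGroup.a 1))⁻¹ := by
        rw [← map_inv]; rfl
      rw [h3, hQcomm (q (QuaternionGroup.a 1))⁻¹, mul_assoc, mul_assoc, inv_mul_cancel,
        mul_one, mul_eq_left] at h2
      rw [pow_two, h2]
    have ha : ∀ i, q (QuaternionGroup.a i) ^ 2 = 1 := fun i => by
      rw [← ZMod.natCast_zmod_val i, ← QuaternionGroup.a_one_pow, map_pow, pow_right_comm, h1,
        one_pow]
    have hall : ∀ y, q y ^ 2 = 1 := by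
      rintro (i | i)
      · exact ha i
      · rw [← map_pow, QuaternionGroup.xa_sq, ← QuaternionGroup.a_one_pow, map_pow]
        exact orderOf_dvd_iff_pow_eq_one.1 ((orderOf_dvd_of_pow_eq_one h1).trans hev)
    simpa [hq] using hall (e x)
  have hsd : ¬ Cfsg.IsQuasiDihedral (S : Subgroup G) := by
    rintro ⟨n, hn, hcard, x, y, hx, hy, hxy⟩
    obtain ⟨n, rfl⟩ : ∃ j, n = j + 1 := ⟨n - 1, by omega⟩
    rw [Nat.add_sub_cancel] at hxy
    have hlt : 4 ≤ 2 ^ n := le_trans (by norm_num) (Nat.pow_le_pow_right two_pos (by omega : 2 ≤ n))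
    have hytop : Subgroup.closure ({x, y} : Set (S : Subgroup G)) = ⊤ := by
      set K := Subgroup.closure ({x, y} : Set (S : Subgroup G))
      have hxK : zpowers x ≤ K := zpowers_le.2 (subset_closure (by simp))
      have hne : zpowers x < K := lt_of_le_of_ne hxK fun e => by
        obtain ⟨i, hi⟩ := mem_zpowers_iff.1 (e.ge (subset_closure (by simp) : y ∈ K))
        have hc : y * x * y⁻¹ = x := by
          rw [← hi, ((Commute.refl x).zpow_left i).eq, mul_inv_cancel_right]
        rw [hxy] at hc
        have hd : orderOf x ∣ 2 ^ n - 2 := by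
          apply orderOf_dvd_of_pow_eq_one
          have : x ^ (2 ^ n - 2) * x = 1 * x := by
            rw [← pow_succ, show 2 ^ n - 2 + 1 = 2 ^ n - 1 by omega, hc, one_mul]
          exact mul_right_cancel this
        rw [hx, pow_succ] at hd
        have := Nat.le_of_dvd (by omega) hd
        omega
      obtain ⟨a, ha⟩ := IsPGroup.iff_card.1 (S.2.to_subgroup K)
      refine eq_top_of_le_card _ ?_
      rw [hcard, ha]
      refine Nat.pow_le_pow_right two_pos ?_
      have h1 : Nat.card (zpowers x) < Nat.card K := by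
        refine lt_of_le_of_ne (Nat.le_of_dvd Nat.card_pos (card_dvd_of_le hxK)) fun e => hne.ne ?_
        exact eq_of_le_of_card_ge hxK e.ge
      rw [Nat.card_zpowers, hx, ha] at h1
      exact (Nat.pow_lt_pow_iff_right (by norm_num)).1 h1
    refine hsqne fun z => ?_
    have h2 : (QuotientGroup.mk' N x) ^ 2 = 1 := by
      have h3 := congrArg (QuotientGroup.mk' N) hxy
      rw [map_mul, map_mul, map_inv, map_pow, hQcomm (QuotientGroup.mk' N y), mul_inv_cancel_right] at h3
      have h4 : orderOf (QuotientGroup.mk' N x) ∣ 2 ^ n - 2 := by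
        apply orderOf_dvd_of_pow_eq_one
        have : QuotientGroup.mk' N x ^ (2 ^ n - 2) * QuotientGroup.mk' N x =
            1 * QuotientGroup.mk' N x := by
          rw [← pow_succ, show 2 ^ n - 2 + 1 = 2 ^ n - 1 by omega, ← h3, one_mul]
        exact mul_right_cancel this
      have h5 : orderOf (QuotientGroup.mk' N x) ∣ 2 ^ (n + 1) := hx ▸ orderOf_map_dvd _ x
      obtain ⟨i, -, hi⟩ := (Nat.dvd_prime_pow Nat.prime_two).1 h5
      rw [← orderOf_dvd_iff_pow_eq_one, hi]
      rcases Nat.lt_or_ge i 2 with hi2 | hi2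
      · exact (pow_dvd_pow 2 (by omega : i ≤ 1)).trans (pow_one 2).dvd
      · exfalso
        have h6 : 4 ∣ 2 ^ n - 2 := ((pow_dvd_pow 2 hi2).trans (hi ▸ dvd_rfl)).trans h4
        have h7 : 4 ∣ 2 ^ n := pow_dvd_pow 2 (by omega : 2 ≤ n)
        omega
    refine sq_eq_one_of_closure hQcomm (s := QuotientGroup.mk' N '' {x, y}) ?_ ?_ _
    · rw [← MonoidHom.map_closure, hytop, map_top_of_surjective _ (QuotientGroup.mk'_surjective N)]
    · rintro _ ⟨w, rfl | rfl, rfl⟩
      · exact h2
      · rw [← map_pow, orderOf_dvd_iff_pow_eq_one.1 hy.dvd, map_one]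
  have hin := Cfsg.Agent.S5212.result S.2 (Cfsg.groupFusionSystem (S : Subgroup G))
    (Fusion.isSaturated_group (S := S)) hm hh hd hqu hsd
  exact isSolvable_of_complement hFT
    (Fusion.hasNormalPComplement_of_isInner S (Fusion.isInner_iff.2 hin))

end CfsgLib.OddConseq.MetaQuot
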