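import Cfsg.Agent.S3861
import Cfsg.Agent.Lib.Coprime.Core
import Cfsg.Agent.Lib.Coprime.Action
import Mathlib.GroupTheory.Solvable

/-!
# Subgroups with non-coprime class sizes

If in every subgroup any two non-trivial class sizes have a common divisor, then no element of odd
order is conjugate to its inverse, so the Sylow `2`-subgroup is normal and, given the odd order
theorem, the group is solvable.
-/

set_option autoImplicit false
set_option linter.style.haveILetI false
set_option linter.unusedSectionVars false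

open Subgroup

namespace CfsgLib.OddConseq

universe u

variable {G : Type u} [Group G] [Finite G]

/-- No element of odd order is real. -/
theorem not_real_of_nonCoprime_classes
    (h : ∀ (H : Subgroup G) (x y : H), 1 < (Subgroup.centralizer ({x} : Set H)).index →
      1 < (Subgroup.centralizer ({y} : Set H)).index →
      ¬ ((Subgroup.centralizer ({x} : Set H)).index).Coprime (Subgroup.centralizer ({y} : Set H)).index)
    (x₁ : G) (hx1 : x₁ ≠ 1) (hxo : Odd (orderOf x₁)) : ¬ IsConj x₁ x₁⁻¹ := by
  intro hconj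
  obtain ⟨g, hg⟩ := isConj_iff.1 hconj
  obtain ⟨r, hr, hrd⟩ := Nat.exists_prime_and_dvd (fun e => hx1 (orderOf_eq_one_iff.1 e))
  haveI := Fact.mk hr
  set x := x₁ ^ (orderOf x₁ / r) with hx
  have hxr : orderOf x = r := orderOf_pow_orderOf_div (orderOf_pos x₁).ne' hrd
  have hr2 : r ≠ 2 := fun e => Nat.not_even_iff_odd.2 hxo (even_iff_two_dvd.2 (e ▸ hrd))
  have hgx : g * x * g⁻¹ = x⁻¹ := by rw [hx, ← conj_pow, hg, inv_pow]
  -- the `2`-part of the inverting element
  set m := orderOf g / 2 ^ (orderOf g).factorization 2 with hm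
  set k := (orderOf g).factorization 2
  set y := g ^ m
  have hyk : y ^ 2 ^ k = 1 := by
    rw [← pow_mul, mul_comm, Nat.ordProj_mul_ordCompl_eq_self, pow_orderOf_eq_one]
  have hmodd : Odd m := by
    rw [← Nat.not_even_iff_odd, even_iff_two_dvd]
    exact Nat.not_dvd_ordCompl Nat.prime_two (orderOf_pos g).ne'
  have hinv : ∀ n : ℕ, g ^ (2 * n + 1) * x * (g ^ (2 * n + 1))⁻¹ = x⁻¹ := by
    intro n
    induction n with
    | zero => simpa using hgx
    | succ n ih =>
      rw [show g ^ (2 * (n + 1) + 1) * x * (g ^ (2 * (n + 1) + 1))⁻¹ =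
        g * (g * (g ^ (2 * n + 1) * x * (g ^ (2 * n + 1))⁻¹) * g⁻¹) * g⁻¹ by
          rw [show 2 * (n + 1) + 1 = (2 * n + 1) + 1 + 1 by ring, pow_succ', pow_succ', mul_inv_rev,
            mul_inv_rev]
          group, ih]
      have h2 : g * x⁻¹ * g⁻¹ = x := by rw [← conj_inv, hgx, inv_inv]
      rw [h2, hgx]
  obtain ⟨n, hn⟩ := hmodd
  have hyx : y * x * y⁻¹ = x⁻¹ := by
    show g ^ m * x * (g ^ m)⁻¹ = x⁻¹
    rw [hn]; exact hinv n
  -- the subgroup `⟨x⟩⟨y⟩`
  set H := zpowers y ⊔ zpowers x
  have hN : zpowers y ≤ normalizer (zpowers x : Set G) := by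
    refine zpowers_le.2 ((Subgroup.mem_normalizer_iff_map_conj_eq).2 ?_)
    rw [MonoidHom.map_zpowers]
    show zpowers (y * x * y⁻¹) = zpowers x
    rw [hyx]
    exact zpowers_inv
  have hHd : Nat.card H ∣ 2 ^ k * r := by
    refine (CfsgLib.Coprime.card_sup_dvd_of_le_normalizer hN).trans ?_
    rw [Nat.card_zpowers, Nat.card_zpowers, hxr]
    exact mul_dvd_mul_right (orderOf_dvd_of_pow_eq_one hyk) _
  set a : H := ⟨x, mem_sup_right (mem_zpowers x)⟩
  set b : H := ⟨y, mem_sup_left (mem_zpowers y)⟩
  have hne : ¬ Commute a b := fun hc => by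
    have h1 : y * x = x * y := congrArg Subtype.val hc.eq.symm
    rw [h1, mul_inv_cancel_right] at hyx
    have h2 : orderOf x ∣ 2 := orderOf_dvd_of_pow_eq_one (by rw [pow_two, mul_eq_one_iff_eq_inv, ← hyx])
    rw [hxr] at h2
    exact hr2 ((Nat.prime_dvd_prime_iff_eq hr Nat.prime_two).1 h2)
  have hbig : ∀ {u v : H}, ¬ Commute u v → 1 < (centralizer ({u} : Set H)).index := by
    intro u v huv
    refine lt_of_le_of_ne (Nat.one_le_iff_ne_zero.2 Subgroup.index_ne_zero_of_finite) fun e => huv ?_
    exact (mem_centralizer_singleton_iff.1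
      (show v ∈ centralizer ({u} : Set H) from (index_eq_one.1 e.symm) ▸ mem_top v)).symm
  have hdvd : ∀ u : H, orderOf u * (centralizer ({u} : Set H)).index ∣ 2 ^ k * r := by
    intro u
    refine dvd_trans ?_ hHd
    rw [← Subgroup.card_mul_index (centralizer ({u} : Set H))]
    refine mul_dvd_mul_right ?_ _
    rw [← Subgroup.orderOf_mk u (mem_centralizer_singleton_iff.2 rfl)]
    exact orderOf_dvd_natCard _
  have hy0 : y ^ 2 ^ k = 1 := hyk
  refine h H a b (hbig hne) (hbig fun hc => hne hc.symm) ?_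
  have ha : (centralizer ({a} : Set H)).index ∣ 2 ^ k := by
    have h1 := hdvd a
    rw [show orderOf a = r by rw [← hxr]; exact (Subgroup.orderOf_mk x _), mul_comm r] at h1
    exact Nat.dvd_of_mul_dvd_mul_right hr.pos h1
  have hb : (centralizer ({b} : Set H)).index ∣ r := by
    have h1 := hdvd b
    have hk : orderOf b = 2 ^ k := by
      rw [show orderOf b = orderOf (g ^ m) from Subgroup.orderOf_mk y _,
        orderOf_pow_of_dvd (Nat.ordCompl_pos _ (orderOf_pos g).ne').ne' (Nat.ordCompl_dvd _ _)]
      exact Nat.div_div_self (Nat.ordProj_dvd _ _) (orderOf_pos g).ne'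
    rw [hk] at h1
    exact Nat.dvd_of_mul_dvd_mul_left (by positivity) h1
  exact Nat.Coprime.of_dvd ha hb (((Nat.coprime_primes Nat.prime_two hr).2 (fun e => hr2 e.symm)).pow_left k)

/-- Given the odd order theorem such a group is solvable. -/
theorem isSolvable_of_nonCoprime_classes
    (hFT : ∀ (K : Type u) [Group K] [Finite K], Odd (Nat.card K) → Group.IsSolvable K)
    (h : ∀ (H : Subgroup G) (x y : H), 1 < (Subgroup.centralizer ({x} : Set H)).index →
      1 < (Subgroup.centralizer ({y} : Set H)).index →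
      ¬ ((Subgroup.centralizer ({x} : Set H)).index).Coprime (Subgroup.centralizer ({y} : Set H)).index) :
    Group.IsSolvable G := by
  obtain ⟨P⟩ : Nonempty (Sylow 2 G) := inferInstance
  haveI : (P : Subgroup G).Normal := (Cfsg.Agent.S3861.result P).1 (not_real_of_nonCoprime_classes h)
  haveI := P.2.isNilpotent
  haveI : Group.IsSolvable (G ⧸ (P : Subgroup G)) := hFT _ (by
    rw [← Subgroup.index_eq_card, ← Nat.not_even_iff_odd, even_iff_two_dvd]
    exact P.not_dvd_index)
  exact Group.isSolvable_of_ker_le_range (P : Subgroup G).subtype (QuotientGroup.mk' (P : Subgroup G)) (by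
    rw [QuotientGroup.ker_mk', Subgroup.range_subtype])

end CfsgLib.OddConseq
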