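import Cfsg.Agent.S1221
import Cfsg.Agent.S0205
import Cfsg.Agent.S0502
import Cfsg.Agent.Lib.OddConseq.TwoGenCoreEmbedded
import Cfsg.Agent.Lib.Invol.PConstrained
import Cfsg.Agent.Lib.Lie.CharTwoType.Core
import Cfsg.Agent.Lib.ProdFusion.Basic

/-!
# Trivial cores when a Sylow two-subgroup has a normal abelian subgroup of rank at least three
-/

set_option autoImplicit false
set_option linter.style.haveILetI false

namespace CfsgLib.TwoGenCore.NormalAbelian

open Subgroup

universe u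

variable {G : Type u} [Group G] [Finite G]

/-- a normal abelian subgroup of rank three makes the four groups connected -/
theorem connected (S : Sylow 2 G) {A : Subgroup ↥(S : Subgroup G)} (hAn : A.Normal) (hAab : IsMulCommutative ↥A)
    (hA3 : ¬ Cfsg.PRankLE 2 2 ↥A) :
    Cfsg.IsFourConnected ↥(S : Subgroup G) ∧ ¬ Cfsg.PRankLE 2 2 G := by
  haveI : Fact (Nat.Prime 2) := ⟨Nat.prime_two⟩
  have hc : ∀ a ∈ A, ∀ b ∈ A, Commute a b := fun a ha b hb =>
    congrArg Subtype.val (hAab.is_comm.comm ⟨a, ha⟩ ⟨b, hb⟩)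
  let Ω : Subgroup ↥(S : Subgroup G) :=
    { carrier := {a | a ∈ A ∧ a ^ 2 = 1}
      one_mem' := ⟨A.one_mem, one_pow 2⟩
      mul_mem' := fun {a b} ha hb => ⟨A.mul_mem ha.1 hb.1, by rw [(hc a ha.1 b hb.1).mul_pow, ha.2, hb.2, one_mul]⟩
      inv_mem' := fun {a} ha => ⟨A.inv_mem ha.1, by rw [inv_pow, ha.2, inv_one]⟩ }
  haveI : Ω.Normal := ⟨fun a ha g => ⟨hAn.conj_mem a ha.1 g, by rw [conj_pow, ha.2, mul_one, mul_inv_cancel]⟩⟩
  have hΩc : IsMulCommutative ↥Ω := ⟨⟨fun a b => Subtype.ext (hc a a.2.1 b b.2.1).eq⟩⟩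
  have h8 : 8 ≤ Nat.card Ω := by
    unfold Cfsg.PRankLE at hA3
    push Not at hA3
    obtain ⟨B, hB, hB2, hcard⟩ := hA3
    have hle : B.map A.subtype ≤ Ω := by
      rintro _ ⟨b, hb, rfl⟩
      exact ⟨b.2, by rw [← map_pow, hB2 b hb, map_one]⟩
    have h := card_le_of_le hle
    rw [card_map_of_injective A.subtype_injective] at h
    obtain ⟨n, hn⟩ := ((S.2.to_subgroup A).to_subgroup B).exists_card_eq
    have h2 : 2 ^ 2 < 2 ^ n := hn ▸ hcard
    have : 2 ^ 3 ≤ 2 ^ n := Nat.pow_le_pow_right two_pos ((Nat.pow_lt_pow_iff_right (by norm_num)).1 h2)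
    omega
  refine ⟨Cfsg.Agent.S0502.result S.isPGroup' Ω hΩc (fun e he => he.2) h8, fun hr => ?_⟩
  have h := hr (Ω.map (S : Subgroup G).subtype) ⟨⟨?_⟩⟩ ?_
  · rw [card_map_of_injective (S : Subgroup G).subtype_injective] at h
    omega
  · rintro ⟨_, a, ha, rfl⟩ ⟨_, b, hb, rfl⟩
    refine Subtype.ext ?_
    show (S : Subgroup G).subtype a * (S : Subgroup G).subtype b =
      (S : Subgroup G).subtype b * (S : Subgroup G).subtype a
    rw [← map_mul, ← map_mul, (hc a ha.1 b hb.1).eq]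
  · rintro _ ⟨a, ha, rfl⟩
    rw [← map_pow, ha.2, map_one]

/-- cores are trivial outside component type -/
theorem cores_eq_bot (hO : Cfsg.oddCore G = ⊥) (hc : ¬ Cfsg.IsComponentType G) (S : Sylow 2 G)
    {A : Subgroup ↥(S : Subgroup G)} (hAn : A.Normal) (hAab : IsMulCommutative ↥A) (hA3 : ¬ Cfsg.PRankLE 2 2 ↥A)
    (t : G) (ht : orderOf t = 2) : Cfsg.centralizerPPrimeCore 2 t = ⊥ := by
  obtain ⟨hS, hrank⟩ := connected S hAn hAab hA3
  exact CfsgLib.TwoGenCore.theta_eq_bot (fun {X} _ _ h => Cfsg.Agent.S0205.result h)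
    (CfsgLib.TwoGenCore.isBalanced_of_not_componentType hc)
    (fun K hK => Cfsg.Agent.S1221.result K hK) hrank hO hc S hS t ht

theorem normalizer_zpowers_invol {t : G} (ht : orderOf t = 2) :
    normalizer (zpowers t : Set G) = centralizer ({t} : Set G) := by
  ext g
  rw [mem_centralizer_singleton_iff, mem_normalizer_iff]
  constructor
  · intro h
    have h1 := (h t).1 (mem_zpowers t)
    have h2 : t * t = 1 := by rw [← pow_two, ← ht, pow_orderOf_eq_one]
    rcases CfsgLib.ProdFusion.mem_zpowers_invol h2 h1 with e | e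
    · exfalso
      rw [conj_eq_one_iff] at e
      rw [e, orderOf_one] at ht
      omega
    · exact mul_inv_eq_iff_eq_mul.1 e
  · intro h x
    constructor
    · rintro hx
      obtain ⟨i, rfl⟩ := mem_zpowers_iff.1 hx
      rw [← conj_zpow, mul_inv_eq_iff_eq_mul.2 h]
      exact zpow_mem (mem_zpowers t) i
    · intro hx
      obtain ⟨i, hi⟩ := mem_zpowers_iff.1 hx
      have hi' : (t : G) ^ i = g * x * g⁻¹ := hi
      rw [show x = g⁻¹ * (g * x * g⁻¹) * g by group, ← hi',
        show g⁻¹ * t ^ i * g = t ^ i by rw [mul_assoc, ← ((show Commute g t from h).zpow_right i).eq, inv_mul_cancel_left]]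
      exact zpow_mem (mem_zpowers t) i

/-- constrained two-locals exclude component type -/
theorem not_componentType_of_constrained
    (h2c : ∀ T : Subgroup G, IsPGroup 2 T → T ≠ ⊥ → Cfsg.IsPConstrained 2 ↥(normalizer (T : Set G))) :
    ¬ Cfsg.IsComponentType G := by
  haveI : Fact (Nat.Prime 2) := ⟨Nat.prime_two⟩
  rintro ⟨t, ht, K, hK⟩
  have hT : IsPGroup 2 ↥(zpowers t) := IsPGroup.of_card (n := 1) (by rw [Nat.card_zpowers, ht, pow_one])
  have hne : zpowers t ≠ ⊥ := fun h => by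
    rw [zpowers_eq_bot] at h
    rw [h, orderOf_one] at ht
    omega
  have h : CfsgLib.Invol.PCons 2 ↥(centralizer ({t} : Set G)) :=
    CfsgLib.Invol.pCons_congr (MulEquiv.subgroupCongr (normalizer_zpowers_invol ht))
      (CfsgLib.Invol.isPConstrained_iff.1 (h2c _ hT hne))
  exact CfsgLib.Lie.CharTwoType.no_component h K hK

end CfsgLib.TwoGenCore.NormalAbelian
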