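import Cfsg.Agent.Lib.Char.TransLinear.Main
import Cfsg.Agent.Lib.PGroup.NormalRankTwo
import Cfsg.Agent.Lib.OddConseq.Basic
import Cfsg.Agent.Lib.Coprime.Fitting
import Cfsg.Prelude.Def_Perm

/-!
# Transitive linear groups of odd order

* `odd_transitive_structure`: Fitting subgroup cyclic and fixed-point-free, abelian over it.
-/

set_option autoImplicit false
set_option linter.style.haveILetI false
set_option linter.unusedSectionVars false

open Subgroup
open scoped commutatorElement Pointwise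

namespace CfsgLib.OddConseq

open CfsgLib.Char

section Rep

variable {q : ℕ} [Fact q.Prime] {V : Type*} [AddCommGroup V] [Module (ZMod q) V] [Finite V]
  [Nontrivial V] {G : Type*} [Group G] [Finite G] (ρ : G →* (V ≃ₗ[ZMod q] V))

theorem fpf_of_normal_abelian (hρ : Function.Injective ρ)
    (htr : ∀ v w : V, v ≠ 0 → w ≠ 0 → ∃ g : G, ρ g v = w) (B : Subgroup G) [B.Normal]
    (hB : ∀ a ∈ B, ∀ b ∈ B, a * b = b * a) {b : G} (hb : b ∈ B) (hb1 : b ≠ 1) {v : V}
    (hv : ρ b v = v) : v = 0 := by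
  have hfld := spanAlg_isField ρ htr B hB
  set r : spanAlg ρ B := ⟨toEndHom ρ b, toEndHom_mem_spanAlg ρ hb⟩
  have hr : r - 1 ≠ 0 := by
    rw [sub_ne_zero]
    intro h
    exact hb1 (toEndHom_injective hρ ((congrArg Subtype.val h).trans (map_one (toEndHom ρ)).symm))
  obtain ⟨u, hu⟩ := hfld.mul_inv_cancel hr
  rw [hfld.mul_comm] at hu
  have h := congrArg (fun t : spanAlg ρ B => (t : Module.End (ZMod q) V) v) hu
  have h0 : ((r - 1 : spanAlg ρ B) : Module.End (ZMod q) V) v = 0 := by
    show ρ b v - v = 0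
    rw [hv, sub_self]
  simp only [MulMemClass.coe_mul, Module.End.mul_apply, h0, map_zero, OneMemClass.coe_one,
    Module.End.one_apply] at h
  exact h.symm

theorem cyclic_of_normal_abelian (hρ : Function.Injective ρ)
    (htr : ∀ v w : V, v ≠ 0 → w ≠ 0 → ∃ g : G, ρ g v = w) (B : Subgroup G) [B.Normal]
    (hB : ∀ a ∈ B, ∀ b ∈ B, a * b = b * a) : IsCyclic B := by
  haveI := finite_moduleEnd (q := q) (V := V)
  let f : B →* spanAlg ρ B :=
    { toFun := fun a => ⟨toEndHom ρ (a : G), toEndHom_mem_spanAlg ρ a.2⟩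
      map_one' := Subtype.ext (map_one (toEndHom ρ))
      map_mul' := fun a b => Subtype.ext (map_mul (toEndHom ρ) (a : G) b) }
  exact isCyclic_of_injective_isField (spanAlg_isField ρ htr B hB) f
    (fun a b h => Subtype.ext (toEndHom_injective hρ (congrArg Subtype.val h)))

theorem odd_transitive_structure [Group.IsSolvable G] (hodd : Odd (Nat.card G))
    (hρ : Function.Injective ρ) (htr : ∀ v w : V, v ≠ 0 → w ≠ 0 → ∃ g : G, ρ g v = w) :
    IsCyclic (Cfsg.fittingSubgroup G) ∧
      (∀ g ∈ Cfsg.fittingSubgroup G, g ≠ 1 → ∀ v : V, ρ g v = v → v = 0) ∧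
      commutator G ≤ Cfsg.fittingSubgroup G := by
  obtain ⟨A, hAn, hA, hCA⟩ : ∃ A : Subgroup G, A.Normal ∧ (∀ a ∈ A, ∀ b ∈ A, a * b = b * a) ∧
      centralizer (A : Set G) ≤ A := by
    rcases transLinear_cases ρ hρ htr with h | ⟨A, N, -, -, -, -, -, -, -, hA2, -⟩
    · exact h
    · exact absurd (even_iff_two_dvd.2 (hA2.trans (card_subgroup_dvd_card A)))
        (Nat.not_even_iff_odd.2 hodd)
  haveI := hAn
  have hcyc : IsCyclic (G ⧸ centralizer (A : Set G)) := isCyclic_quotient_centralizer ρ hρ htr A hA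
  have hCeq : centralizer (A : Set G) = A := le_antisymm hCA fun a ha =>
    mem_centralizer_iff.2 fun b hb => hA b hb a ha
  haveI hAcyc : IsCyclic A := cyclic_of_normal_abelian ρ hρ htr A hA
  have hGA : IsCyclic (G ⧸ A) :=
    isCyclic_of_surjective (QuotientGroup.quotientMulEquivOfEq hCeq).toMonoidHom
      (QuotientGroup.quotientMulEquivOfEq hCeq).surjective
  have hP : ∀ p : ℕ, p.Prime → ∀ P : Subgroup G, P.Normal → IsPGroup p P → IsCyclic P := by
    intro p hp P hPn hPp
    haveI := Fact.mk hp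
    haveI := hPn
    by_cases hp2 : p = 2
    · subst hp2
      obtain ⟨k, hk⟩ := IsPGroup.iff_card.1 hPp
      have h1 : k = 0 := by
        by_contra hk0
        exact Nat.not_even_iff_odd.2 (Odd.of_dvd_nat hodd (card_subgroup_dvd_card P))
          (hk ▸ (Nat.even_pow.2 ⟨even_two, hk0⟩))
      rw [h1, pow_zero] at hk
      haveI : Subsingleton P := (Nat.card_eq_one_iff_unique.1 hk).1
      exact isCyclic_of_subsingleton
    by_contra hnc
    haveI : (A.subgroupOf P).Normal := Subgroup.normal_subgroupOf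
    haveI : IsCyclic (A.subgroupOf P) := by
      refine isCyclic_of_injective
        ((P.subtype.comp (A.subgroupOf P).subtype).codRestrict A fun x => mem_subgroupOf.1 x.2) ?_
      intro x y h
      exact Subtype.ext (Subtype.ext (congrArg (fun w : A => (w : G)) h))
    have hq : IsCyclic (P ⧸ A.subgroupOf P) := by
      refine isCyclic_of_injective (QuotientGroup.lift (A.subgroupOf P)
        ((QuotientGroup.mk' A).comp P.subtype) fun x hx =>
          (QuotientGroup.eq_one_iff _).2 (mem_subgroupOf.1 hx)) ((injective_iff_map_eq_one _).2 fun x hx => ?_)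
      obtain ⟨x, rfl⟩ := QuotientGroup.mk'_surjective (A.subgroupOf P) x
      exact (QuotientGroup.eq_one_iff x).2 (mem_subgroupOf.2 ((QuotientGroup.eq_one_iff (x : G)).1 hx))
    obtain ⟨hel, hcard⟩ := CfsgLib.PGroup.omega_of_cyclic_extension hPp hp2 hq hnc
    set W := Subgroup.closure {x : P | x ^ p = 1} with hW
    haveI : W.Characteristic := by
      refine characteristic_iff_map_le.2 fun φ => ?_
      rw [hW, MonoidHom.map_closure]
      refine closure_mono ?_
      rintro _ ⟨x, hx, rfl⟩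
      show (φ x) ^ p = 1
      rw [← map_pow, show x ^ p = 1 from hx, map_one]
    haveI : (W.map P.subtype).Normal := ConjAct.normal_of_characteristic_of_normal
    have hWc := cyclic_of_normal_abelian ρ hρ htr (W.map P.subtype) (by
      rintro _ ⟨a, ha, rfl⟩ _ ⟨b, hb, rfl⟩
      exact congrArg (fun w : W => ((w : P) : G))
        (isMulCommutative_iff.1 hel.1 ⟨a, ha⟩ ⟨b, hb⟩))
    have hWc' : IsCyclic W :=
      (equivMapOfInjective W P.subtype P.subtype_injective).isCyclic.2 hWc
    obtain ⟨g, hg⟩ := hWc'.exists_generator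
    have h1 : orderOf g = p ^ 2 := by rw [orderOf_eq_card_of_forall_mem_zpowers hg, hcard]
    have h2 : orderOf g ∣ p :=
      orderOf_dvd_of_pow_eq_one (Subtype.ext (hel.2 (g : P) g.2))
    rw [h1] at h2
    exact Nat.not_dvd_of_pos_of_lt hp.pos (by nlinarith [hp.two_le]) h2
  set F := Cfsg.fittingSubgroup G with hF
  haveI hFn : F.Normal := CfsgLib.Coprime.fitting_normal
  haveI hFnil : Group.IsNilpotent F := CfsgLib.Coprime.fitting_isNilpotent
  have hFcomm : ∀ a ∈ F, ∀ b ∈ F, a * b = b * a := by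
    obtain ⟨e⟩ := (Group.isNilpotent_of_finite_tfae.out 0 4).1 hFnil
    have hS : ∀ p : (Nat.card F).primeFactors, ∀ T : Sylow (p : ℕ) F, ∀ x y : T, x * y = y * x := by
      intro p T x y
      have hp := Nat.prime_of_mem_primeFactors p.2
      haveI := Fact.mk hp
      haveI : ((T : Subgroup F).map F.subtype).Normal := by
        haveI : (T : Subgroup F).Characteristic :=
          Sylow.characteristic_of_normal T inferInstance
        exact ConjAct.normal_of_characteristic_of_normal
      haveI := hP p hp _ ‹_› (T.2.map F.subtype)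
      letI := IsCyclic.commGroup (α := (T : Subgroup F).map F.subtype)
      exact (equivMapOfInjective (T : Subgroup F) F.subtype F.subtype_injective).injective
        (by rw [map_mul, map_mul, mul_comm])
    intro a ha b hb
    have := e.symm.injective (a₁ := (⟨a, ha⟩ : F) * ⟨b, hb⟩) (a₂ := ⟨b, hb⟩ * ⟨a, ha⟩) (by
      rw [map_mul, map_mul]
      funext p T
      exact hS p T _ _)
    exact congrArg Subtype.val this
  refine ⟨cyclic_of_normal_abelian ρ hρ htr F hFcomm,
    fun g hg hg1 v hv => fpf_of_normal_abelian ρ hρ htr F hFcomm hg hg1 hv, ?_⟩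
  have hAF : A ≤ F := CfsgLib.Coprime.le_fitting (by
    letI : CommGroup A := IsCyclic.commGroup
    infer_instance)
  refine le_trans ?_ hAF
  letI : CommGroup (G ⧸ A) := IsCyclic.commGroup
  exact (Abelianization.commutator_subset_ker (QuotientGroup.mk' A)).trans
    (QuotientGroup.ker_mk' A).le

end Rep

universe u v

/-- Odd order groups transitive on the non-zero elements of an elementary abelian group. -/
theorem odd_transitive_module (hFT : OddSolvable.{u}) {D : Type u} {E : Type v} [Group D] [Finite D]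
    [AddCommGroup E] [Finite E] [Nontrivial E] [DistribMulAction D E] [FaithfulSMul D E]
    (hodd : Odd (Nat.card D)) {q : ℕ} (hq : q.Prime) (hE : ∀ e : E, q • e = 0)
    (htrans : ∀ a b : E, a ≠ 0 → b ≠ 0 → ∃ d : D, d • a = b) :
    IsCyclic ↥(Cfsg.fittingSubgroup D) ∧
      (∀ g ∈ Cfsg.fittingSubgroup D, g ≠ 1 → ∀ a : E, g • a = a → a = 0) ∧
      commutator D ≤ Cfsg.fittingSubgroup D := by
  haveI := Fact.mk hq
  haveI := hFT D hodd
  haveI : Module (ZMod q) E := AddCommGroup.zmodModule hE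
  let ρ : D →* (E ≃ₗ[ZMod q] E) :=
    { toFun := fun d =>
        { toFun := fun x => d • x
          invFun := fun x => d⁻¹ • x
          left_inv := fun x => inv_smul_smul d x
          right_inv := fun x => smul_inv_smul d x
          map_add' := smul_add d
          map_smul' := fun c x => ZMod.map_smul (DistribSMul.toAddMonoidHom E d) c x }
      map_one' := LinearEquiv.ext fun x => one_smul D x
      map_mul' := fun a b => LinearEquiv.ext fun x => mul_smul a b x }
  exact odd_transitive_structure ρ hodd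
    (fun a b h => eq_of_smul_eq_smul (α := E) fun x => LinearEquiv.congr_fun h x)
    (fun a b ha hb => htrans a b ha hb)

section Kantor

open MulAction

variable {α : Type u} [Fintype α] [DecidableEq α] (G : Subgroup (Equiv.Perm α))

theorem exists_pair_map (h2 : IsPretransitive G (Set.powersetCard α 2)) {a b x y : α} (hab : a ≠ b)
    (hxy : x ≠ y) : ∃ g : G, (g • a = x ∧ g • b = y) ∨ (g • a = y ∧ g • b = x) := by
  obtain ⟨g, hg⟩ := h2.exists_smul_eq
    ⟨{a, b}, Set.powersetCard.mem_iff.2 (Finset.card_pair hab)⟩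
    ⟨{x, y}, Set.powersetCard.mem_iff.2 (Finset.card_pair hxy)⟩
  have h : g • ({a, b} : Finset α) = {x, y} :=
    (Set.powersetCard.coe_smul (g := g)
      (s := ⟨{a, b}, Set.powersetCard.mem_iff.2 (Finset.card_pair hab)⟩)).symm.trans
      (congrArg Subtype.val hg)
  have ha : g • a ∈ ({x, y} : Finset α) :=
    h ▸ Finset.smul_mem_smul_finset (Finset.mem_insert_self a {b})
  have hb : g • b ∈ ({x, y} : Finset α) :=
    h ▸ Finset.smul_mem_smul_finset (Finset.mem_insert_of_mem (Finset.mem_singleton_self b))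
  simp only [Finset.mem_insert, Finset.mem_singleton] at ha hb
  refine ⟨g, ?_⟩
  rcases ha with ha | ha <;> rcases hb with hb | hb
  · exact absurd (smul_left_cancel g (ha.trans hb.symm)) hab
  · exact Or.inl ⟨ha, hb⟩
  · exact Or.inr ⟨ha, hb⟩
  · exact absurd (smul_left_cancel g (ha.trans hb.symm)) hab

theorem odd_of_not_two_transitive (h2 : IsPretransitive G (Set.powersetCard α 2))
    (hn2 : ¬ IsMultiplyPretransitive G α 2) : Odd (Nat.card G) := by
  rw [← Nat.not_even_iff_odd]
  intro hev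
  haveI : Fact (Nat.Prime 2) := ⟨Nat.prime_two⟩
  obtain ⟨t, ht⟩ := exists_prime_orderOf_dvd_card' (G := G) 2 (even_iff_two_dvd.1 hev)
  obtain ⟨a, ha⟩ : ∃ a : α, t • a ≠ a := by
    by_contra! hall
    rw [show t = 1 from eq_of_smul_eq_smul (α := α) fun x => (hall x).trans (one_smul G x).symm,
      orderOf_one] at ht
    norm_num at ht
  set b := t • a with hb
  have htb : t • b = a := by
    rw [hb, smul_smul, ← pow_two, ← ht, pow_orderOf_eq_one, one_smul]
  have hto : ∀ x y : α, x ≠ y → ∃ g : G, g • a = x ∧ g • b = y := by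
    intro x y hxy
    obtain ⟨g, hg | hg⟩ := exists_pair_map G h2 (Ne.symm ha) hxy
    · exact ⟨g, hg⟩
    · exact ⟨g * t, by rw [mul_smul, ← hb]; exact hg.2, by rw [mul_smul, htb]; exact hg.1⟩
  refine hn2 (is_two_pretransitive_iff.2 fun {x y z w} hxy hzw => ?_)
  obtain ⟨g, hgx, hgy⟩ := hto x y hxy
  obtain ⟨h, hhz, hhw⟩ := hto z w hzw
  exact ⟨h * g⁻¹, by rw [mul_smul, ← hgx, inv_smul_smul, hhz],
    by rw [mul_smul, ← hgy, inv_smul_smul, hhw]⟩

/-- Kantor's theorem on 2-homogeneous groups. -/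
theorem kantor (hFT : OddSolvable.{u}) (hne : G ≠ ⊥)
    (h2 : IsPretransitive G (Set.powersetCard α 2)) (hn2 : ¬ IsMultiplyPretransitive G α 2) :
    Odd (Nat.card G) ∧ ∃ (p f : ℕ) (_ : Fact p.Prime), p ≠ 2 ∧ Fintype.card α = p ^ f ∧
      p ^ f % 4 = 3 ∧ ∃ e : α ≃ GaloisField p f,
        (∀ g : G, e.symm.trans (((g : Equiv.Perm α)).trans e) ∈
          Cfsg.semiaffineGroup (GaloisField p f)) ∧
        ∀ b : GaloisField p f, ∃ g : G, ∀ x : α, e ((g : Equiv.Perm α) x) = e x + b := by
  classical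
  have hodd := odd_of_not_two_transitive G h2 hn2
  refine ⟨hodd, ?_⟩
  haveI : Group.IsSolvable G := hFT G hodd
  haveI : Group.IsSolvable (⊤ : Subgroup G) := inferInstance
  haveI : Nontrivial G := (Subgroup.nontrivial_iff_ne_bot G).2 hne
  obtain ⟨p, N, hp, hNn, -, hNne, hNc, hNp⟩ :=
    CfsgLib.Char.exists_normal_elementary_sub (G := G) (D := ⊤) top_ne_bot
  haveI := Fact.mk hp
  haveI := hNn
  obtain ⟨n₁, hn₁, hn₁1⟩ : ∃ n ∈ N, n ≠ 1 := by
    by_contra! h
    exact hNne ((Subgroup.eq_bot_iff_forall N).2 h)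
  obtain ⟨a₁, ha₁⟩ : ∃ a : α, n₁ • a ≠ a := by
    by_contra! hall
    exact hn₁1 (eq_of_smul_eq_smul (α := α) fun x => (hall x).trans (one_smul G x).symm)
  have htrN : ∀ x y : α, ∃ n ∈ N, n • x = y := by
    intro x y
    by_cases hxy : x = y
    · exact ⟨1, one_mem N, by rw [one_smul, hxy]⟩
    obtain ⟨g, hg | hg⟩ := exists_pair_map G h2 (Ne.symm ha₁) hxy
    · exact ⟨g * n₁ * g⁻¹, hNn.conj_mem n₁ hn₁ g, by
        rw [← hg.1, mul_smul, mul_smul, inv_smul_smul, hg.2]⟩
    · exact ⟨(g * n₁ * g⁻¹)⁻¹, inv_mem (hNn.conj_mem n₁ hn₁ g), by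
        rw [inv_smul_eq_iff, ← hg.1, mul_smul, mul_smul, inv_smul_smul, hg.2]⟩
  have hreg : ∀ x : α, ∀ n ∈ N, n • x = x → n = 1 := by
    intro x n hn h
    refine eq_of_smul_eq_smul (α := α) fun y => ?_
    obtain ⟨m, hm, rfl⟩ := htrN x y
    rw [smul_smul, hNc n hn m hm, mul_smul, h, one_smul]
  have hinj : ∀ x : α, ∀ n ∈ N, ∀ m ∈ N, n • x = m • x → n = m := fun x n hn m hm h =>
    inv_mul_eq_one.1 (hreg x (n⁻¹ * m) (mul_mem (inv_mem hn) hm) (by
      rw [mul_smul, ← h, inv_smul_smul]))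
  set a₀ := a₁
  let ν : N ≃ α := Equiv.ofBijective (fun n : N => (n : G) • a₀)
    ⟨fun n m h => Subtype.ext (hinj a₀ n n.2 m m.2 h), fun y => by
      obtain ⟨n, hn, h⟩ := htrN a₀ y; exact ⟨⟨n, hn⟩, h⟩⟩
  have hν : ∀ n : N, ν n = (n : G) • a₀ := fun n => rfl
  obtain ⟨f, hf⟩ : ∃ f, Nat.card N = p ^ f := IsPGroup.iff_card.1 fun n : N =>
    ⟨1, Subtype.ext (by rw [pow_one]; exact hNp n n.2)⟩
  have hcard : Fintype.card α = p ^ f := by
    rw [← Nat.card_eq_fintype_card, ← Nat.card_congr ν, hf]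
  have hf0 : f ≠ 0 := by
    rintro rfl
    haveI : Subsingleton α := Fintype.card_le_one_iff_subsingleton.1 (by rw [hcard, pow_zero])
    exact ha₁ (Subsingleton.elim _ _)
  have hp2 : p ≠ 2 := by
    intro h
    refine Nat.not_even_iff_odd.2 (Odd.of_dvd_nat hodd (card_subgroup_dvd_card N)) ?_
    rw [hf, h]
    exact Nat.even_pow.2 ⟨even_two, hf0⟩
  have hmod : p ^ f % 4 = 3 := by
    have hn : 2 ≤ Fintype.card α := Fintype.one_lt_card_iff.2 ⟨_, _, ha₁⟩
    haveI := h2
    haveI : Nonempty (Set.powersetCard α 2) :=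
      ⟨⟨{n₁ • a₁, a₁}, Set.powersetCard.mem_iff.2 (Finset.card_pair ha₁)⟩⟩
    obtain ⟨s⟩ := ‹Nonempty (Set.powersetCard α 2)›
    have h1 : Nat.card (Set.powersetCard α 2) ∣ Nat.card G := by
      have e := index_stabilizer G s
      rw [orbit_eq_univ, Set.ncard_univ] at e
      exact e ▸ index_dvd_card _
    rw [Set.powersetCard.card, Nat.card_eq_fintype_card] at h1
    have ho : Odd ((Fintype.card α).choose 2) := Odd.of_dvd_nat hodd h1
    have ho' : Odd (p ^ f) := (hp.odd_of_ne_two hp2).pow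
    rw [hcard] at ho
    rw [Nat.choose_two_right] at ho
    rcases Nat.odd_mod_four_iff.1 (Nat.odd_iff.1 ho') with h | h
    · exfalso
      obtain ⟨k, hk⟩ : ∃ k, p ^ f = 4 * k + 1 := ⟨p ^ f / 4, by omega⟩
      rw [hk, show (4 * k + 1) * (4 * k + 1 - 1) = 2 * ((4 * k + 1) * (2 * k)) by
        rw [Nat.add_sub_cancel]; ring, Nat.mul_div_cancel_left _ two_pos] at ho
      exact Nat.not_even_iff_odd.2 ho (Nat.even_mul.2 (Or.inr (even_two_mul k)))
    · exact h
  -- the linear group
  set H₀ := stabilizer G a₀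
  letI : CommGroup N := { (inferInstance : Group N) with
    mul_comm := fun x y => Subtype.ext (hNc x x.2 y y.2) }
  haveI : Module (ZMod p) (Additive N) := AddCommGroup.zmodModule fun x => by
    rw [← toMul_eq_one]
    exact Subtype.ext (hNp (Additive.toMul x : N) (Additive.toMul x).2)
  haveI : Nontrivial (Additive N) := by
    haveI : Nontrivial N := (Subgroup.nontrivial_iff_ne_bot N).2 hNne
    infer_instance
  let cj : G →* (Additive N ≃ₗ[ZMod p] Additive N) :=
    { toFun := fun g =>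
        { MulEquiv.toAdditive (MulAut.conjNormal g : N ≃* N) with
          map_smul' := fun c x => ZMod.map_smul
            (MulEquiv.toAdditive (MulAut.conjNormal g : N ≃* N)).toAddMonoidHom c x }
      map_one' := LinearEquiv.ext fun x => by
        show Additive.ofMul (MulAut.conjNormal (1 : G) (Additive.toMul x)) = x
        rw [map_one]; rfl
      map_mul' := fun g h => LinearEquiv.ext fun x => by
        show Additive.ofMul (MulAut.conjNormal (g * h) (Additive.toMul x)) = _
        rw [map_mul]; rfl }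
  have hcj : ∀ g n, ((Additive.toMul (cj g (Additive.ofMul n)) : N) : G) = g * n * g⁻¹ :=
    fun g n => MulAut.conjNormal_apply g n
  have hact : ∀ (g : H₀) (n : N), (g : G) • ν n = ν (Additive.toMul (cj g (Additive.ofMul n))) := by
    intro g n
    rw [hν, hν, hcj, mul_smul, mul_smul,
      show ((g : G))⁻¹ • a₀ = a₀ from mem_stabilizer_iff.1 (inv_mem g.2)]
  let ρ : H₀ × ℤˣ →* (Additive N ≃ₗ[ZMod p] Additive N) :=
    { toFun := fun w => (cj w.1) * (if w.2 = 1 then 1 else LinearEquiv.neg (ZMod p))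
      map_one' := by simp
      map_mul' := fun w z => LinearEquiv.ext fun x => by
        rcases Int.units_eq_one_or w.2 with hw | hw <;> rcases Int.units_eq_one_or z.2 with hz | hz <;>
          simp [hw, hz, LinearEquiv.mul_apply, map_neg] }
  have hρ1 : ∀ (g : H₀) x, ρ (g, 1) x = cj g x := fun g x => by simp [ρ]
  have hρ2 : ∀ (g : H₀) x, ρ (g, -1) x = -cj g x := fun g x => by simp [ρ, map_neg]
  have hcjinj : ∀ g : H₀, (∀ x, cj g x = x) → g = 1 := by
    intro g hg
    refine Subtype.ext (eq_of_smul_eq_smul (α := α) fun y => ?_)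
    obtain ⟨n, rfl⟩ := ν.surjective y
    rw [hact, hg, OneMemClass.coe_one, one_smul]; rfl
  have hρinj : Function.Injective ρ := by
    refine (injective_iff_map_eq_one ρ).2 fun w hw => ?_
    obtain ⟨g, ε⟩ := w
    have hw' : ∀ x, ρ (g, ε) x = x := fun x => by rw [hw]; rfl
    rcases Int.units_eq_one_or ε with rfl | rfl
    · rw [hcjinj g fun x => (hρ1 g x).symm.trans (hw' x)]; rfl
    · exfalso
      have hneg : ∀ x, cj g x = -x := fun x => by
        have := hw' x
        rw [hρ2, neg_eq_iff_eq_neg] at this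
        exact this
      have hsq : g * g = 1 := hcjinj _ fun x => by
        show cj ((g : G) * g) x = x
        rw [map_mul, LinearEquiv.mul_apply, hneg, hneg, neg_neg]
      have hg1 : g = 1 := by
        have hd : orderOf g ∣ 2 := orderOf_dvd_of_pow_eq_one (by rw [pow_two, hsq])
        rcases (Nat.dvd_prime Nat.prime_two).1 hd with h | h
        · exact orderOf_eq_one_iff.1 h
        · exact absurd (h ▸ (orderOf_dvd_natCard g).trans (card_subgroup_dvd_card H₀))
            (fun h' => Nat.not_even_iff_odd.2 hodd (even_iff_two_dvd.2 h'))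
      obtain ⟨x, hx⟩ := exists_ne (0 : Additive N)
      have h0 := hneg x
      rw [hg1, OneMemClass.coe_one, map_one, LinearEquiv.coe_one, id_eq] at h0
      have h2x : (2 : ZMod p) • x = 0 := by
        rw [two_smul]; exact add_eq_zero_iff_eq_neg.2 h0
      rcases smul_eq_zero.1 h2x with h | h
      · have h' : ((2 : ℕ) : ZMod p) = 0 := by exact_mod_cast h
        rw [ZMod.natCast_eq_zero_iff] at h'
        exact hp2 ((Nat.prime_dvd_prime_iff_eq hp Nat.prime_two).1 h')
      · exact hx h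
  have htr : ∀ x y : Additive N, x ≠ 0 → y ≠ 0 → ∃ w, ρ w x = y := by
    intro x y hx hy
    obtain ⟨n, rfl⟩ : ∃ n : N, Additive.ofMul n = x := ⟨Additive.toMul x, rfl⟩
    obtain ⟨m, rfl⟩ : ∃ m : N, Additive.ofMul m = y := ⟨Additive.toMul y, rfl⟩
    have hna : a₀ ≠ ν n := fun h => hx (by
      rw [show n = 1 from ν.injective (h.symm.trans (by rw [hν, OneMemClass.coe_one, one_smul]))]; rfl)
    have hma : a₀ ≠ ν m := fun h => hy (by
      rw [show m = 1 from ν.injective (h.symm.trans (by rw [hν, OneMemClass.coe_one, one_smul]))]; rfl)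
    obtain ⟨g, ⟨hga, hgn⟩ | ⟨hga, hgn⟩⟩ := exists_pair_map G h2 hna hma
    · refine ⟨(⟨g, hga⟩, 1), ?_⟩
      rw [hρ1]
      exact congrArg Additive.ofMul (ν.injective ((hact ⟨g, hga⟩ n).symm.trans hgn))
    · have hk : (m : G)⁻¹ * g ∈ H₀ := mem_stabilizer_iff.2 (by
        rw [mul_smul, hga, hν, inv_smul_smul])
      refine ⟨(⟨_, hk⟩, -1), ?_⟩
      rw [hρ2, neg_eq_iff_eq_neg, ← ofMul_inv]
      refine congrArg Additive.ofMul (ν.injective ((hact ⟨_, hk⟩ n).symm.trans ?_))
      rw [mul_smul, hgn, hν]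
      rfl
  haveI : Group.IsSolvable (H₀ × ℤˣ) := inferInstance
  have hsl : IsSemilinearRep ρ := by
    rcases transLinear_cases ρ hρinj htr with ⟨A, hAn, hA, hCA⟩ | ⟨A, M, -, -, -, -, -, -, -, hA2, h⟩
    · exact @isSemilinearRep_of_self_centralizing p _ _ _ _ _ _ _ _ _ ρ hρinj htr A hAn hA hCA
    · exfalso
      have hM := card_subgroup_dvd_card M
      rw [Nat.card_prod, Nat.card_eq_fintype_card (α := ℤˣ), Fintype.card_units_int] at hM
      have hH : Odd (Nat.card H₀) := Odd.of_dvd_nat hodd (card_subgroup_dvd_card H₀)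
      obtain ⟨c, hc⟩ : 4 ∣ Nat.card H₀ * 2 := by
        obtain ⟨d, hd⟩ := hA2
        rcases h with ⟨-, -, hMc, -⟩ | ⟨-, -, hMc⟩
        · exact (show 4 ∣ Nat.card M from ⟨Nat.card A, by rw [hMc, mul_comm]⟩).trans hM
        · exact (show 4 ∣ Nat.card M from ⟨Nat.card A * 4, by rw [hMc]; ring⟩).trans hM
      rw [Nat.odd_iff] at hH
      omega
  obtain ⟨F, hF₁, hF₂, e, he⟩ := hsl
  haveI : Fintype (GaloisField p f) := Fintype.ofFinite _
  haveI : CharP F p := by
    refine (CharP.charP_iff_prime_eq_zero hp).2 ?_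
    have h1 : p • e.symm 1 = 0 := by
      rw [← Nat.cast_smul_eq_nsmul (ZMod p), ZMod.natCast_self, zero_smul]
    have h2 := congrArg e h1
    rwa [map_nsmul, AddEquiv.apply_symm_apply, map_zero, nsmul_one] at h2
  obtain ⟨r⟩ : Nonempty (F ≃+* GaloisField p f) := ⟨FiniteField.ringEquivOfCardEq (by
    rw [← Nat.card_eq_fintype_card, ← Nat.card_congr e.toEquiv, Nat.card_congr Additive.toMul, hf,
      ← Nat.card_eq_fintype_card, GaloisField.card p f hf0])⟩
  let E : α ≃ GaloisField p f :=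
    ((ν.symm.trans Additive.ofMul).trans e.toEquiv).trans r.toEquiv
  have hE : ∀ n : N, E (ν n) = r (e (Additive.ofMul n)) := fun n => by simp [E]
  have hEadd : ∀ n m : N, E (((m : G)) • ν n) = E (ν n) + E (ν m) := fun n m => by
    rw [show (m : G) • ν n = ν (m * n) by rw [hν, hν, smul_smul, Subgroup.coe_mul],
      hE, hE, hE, ofMul_mul, map_add, map_add, add_comm]
  refine ⟨p, f, ⟨hp⟩, hp2, hcard, hmod, E, fun g => ?_, fun b => ?_⟩
  · obtain ⟨m, hm⟩ := ν.surjective ((g : G) • a₀)
    have hk : (m : G)⁻¹ * g ∈ H₀ := mem_stabilizer_iff.2 (by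
      rw [mul_smul, ← hm, hν, inv_smul_smul])
    obtain ⟨c, σ, hcs⟩ := he (⟨_, hk⟩, 1)
    have hc : c ≠ 0 := by
      intro h
      obtain ⟨x, hx⟩ := exists_ne (0 : Additive N)
      have := hcs x
      rw [h, zero_mul, ← map_zero e] at this
      exact hx ((ρ (⟨_, hk⟩, 1)).injective ((e.injective this).trans (map_zero _).symm))
    refine ⟨Units.mk0 (r c) ((map_ne_zero_iff r r.injective).2 hc), E (ν m),
      (r.symm.trans σ).trans r, fun z => ?_⟩
    obtain ⟨y, rfl⟩ := E.surjective z
    obtain ⟨n, rfl⟩ := ν.surjective y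
    show E ((g : Equiv.Perm α) (E.symm (E (ν n)))) = _
    rw [Equiv.symm_apply_apply]
    have h1 : (g : Equiv.Perm α) (ν n) = (m : G) • ((((m : G)⁻¹ * g : G)) • ν n) := by
      rw [smul_smul, mul_inv_cancel_left]; rfl
    rw [h1, hact ⟨_, hk⟩ n, hEadd, hE, hE, ← hρ1]
    simp [hcs, hE]
  · obtain ⟨y, rfl⟩ := E.surjective b
    obtain ⟨m, rfl⟩ := ν.surjective y
    refine ⟨m, fun x => ?_⟩
    obtain ⟨n, rfl⟩ := ν.surjective x
    exact hEadd n m

end Kantor

end CfsgLib.OddConseq
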