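import Cfsg.Agent.S3861
import Cfsg.Agent.Lib.Fusion.PComplement
import Cfsg.Agent.Lib.OddConseq.Basic

/-!
# Real 2-elements central in a Sylow 2-subgroup

* `locallyPNilpotentAction_of_central`: if the involutions are central and the real elements of a
  Sylow 2-subgroup `S` are central in `S`, then `G` has a normal 2-complement. The key remark is
  that `x⁻¹ * y` is inverted by `y` whenever `y ^ 2 = x ^ 2`.
* `normal_sylow_two_of_odd_real_index`: if every non-central real class has odd size, the Sylow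
  2-subgroup is normal.
-/

set_option autoImplicit false
set_option linter.style.haveILetI false

namespace CfsgLib.OddConseq

universe u

variable {G : Type u} [Group G] [Finite G]

omit [Finite G] in
theorem conj_inverts_of_sq_eq {x y : G} (h : y * y = x * x) :
    y * (x⁻¹ * y) * y⁻¹ = (x⁻¹ * y)⁻¹ := by
  have h1 : y * x⁻¹ = y⁻¹ * x := by
    rw [eq_inv_mul_iff_mul_eq, ← mul_assoc, h, mul_inv_cancel_right]
  rw [mul_inv_rev, inv_inv, ← h1]
  group

/-- Conjugation by `g` multiplying `x` by a central `c` of order two, `g` of odd order. -/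
theorem eq_one_of_conj_mul_central {g x c : G} (hg : Odd (orderOf g)) (hc : c * c = 1)
    (hcz : c ∈ Subgroup.center G) (h : g * x * g⁻¹ = x * c) : c = 1 := by
  have hn : ∀ n : ℕ, g ^ n * x * (g ^ n)⁻¹ = x * c ^ n := by
    intro n
    induction n with
    | zero => simp
    | succ n ih =>
      have hcg : g * c ^ n = c ^ n * g := Subgroup.mem_center_iff.1 (pow_mem hcz n) g
      calc g ^ (n + 1) * x * (g ^ (n + 1))⁻¹
          = g * (g ^ n * x * (g ^ n)⁻¹) * g⁻¹ := by rw [pow_succ']; group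
        _ = (g * x * g⁻¹) * (g * c ^ n * g⁻¹) := by rw [ih]; group
        _ = (g * x * g⁻¹) * c ^ n := by rw [hcg, mul_inv_cancel_right]
        _ = x * c ^ (n + 1) := by rw [h, mul_assoc, ← pow_succ']
  obtain ⟨k, hk⟩ := hg
  have h1 := hn (orderOf g)
  rw [pow_orderOf_eq_one, hk, pow_succ, pow_mul, sq, hc, one_pow, one_mul] at h1
  simpa using h1

theorem locallyPNilpotentAction_of_central (S : Sylow 2 G)
    (hI : ∀ t : G, t * t = 1 → t ∈ Subgroup.center G)
    (hS : ∀ s : ↥(S : Subgroup G), IsConj s s⁻¹ → s ∈ Subgroup.center ↥(S : Subgroup G)) :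
    CfsgLib.Fusion.LocallyPNilpotentAction 2 (S : Subgroup G) := by
  intro Q hQ g hg hgc
  have hgo : Odd (orderOf g) := Nat.coprime_two_right.1 hgc
  refine CfsgLib.Fusion.mem_centralizer_iff'.2 ?_
  suffices H : ∀ k : ℕ, ∀ x ∈ Q, x ^ 2 ^ k = 1 → g * x * g⁻¹ = x by
    intro x hx
    obtain ⟨k, hk⟩ := S.2 ⟨x, hQ hx⟩
    exact H k x hx (by simpa using congrArg Subtype.val hk)
  intro k
  induction k with
  | zero => intro x _ h; rw [pow_zero, pow_one] at h; simp [h]
  | succ k ih =>
    intro x hx hxk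
    have hsq : g * (x * x) * g⁻¹ = x * x :=
      ih (x * x) (mul_mem hx hx) (by rw [← sq, ← pow_mul, ← pow_succ']; exact hxk)
    set y := g * x * g⁻¹ with hy
    have hyy : y * y = x * x := by rw [← hsq, hy]; group
    have hyQ : y ∈ Q := (Subgroup.mem_normalizer_iff.1 hg x).1 hx
    have huS : x⁻¹ * y ∈ (S : Subgroup G) := hQ (mul_mem (inv_mem hx) hyQ)
    have hu := hS ⟨_, huS⟩ (isConj_iff.2 ⟨⟨y, hQ hyQ⟩, Subtype.ext (conj_inverts_of_sq_eq hyy)⟩)
    have hsq1 : x⁻¹ * y * (x⁻¹ * y) = 1 := by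
      have h1 := congrArg Subtype.val (Subgroup.mem_center_iff.1 hu ⟨y, hQ hyQ⟩)
      simp only [Subgroup.coe_mul] at h1
      have h2 := conj_inverts_of_sq_eq hyy
      rw [h1, mul_inv_cancel_right] at h2
      exact mul_eq_one_iff_eq_inv.2 h2
    have hc := eq_one_of_conj_mul_central (x := x) (c := x⁻¹ * y) hgo hsq1 (hI _ hsq1)
      (by rw [mul_inv_cancel_left])
    calc y = x * (x⁻¹ * y) := by group
      _ = x := by rw [hc, mul_one]

/-- A non-central real element of odd class size is an involution. -/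
theorem sq_eq_one_of_real_odd_index {x : G} (hx : IsConj x x⁻¹)
    (hodd : Odd (Subgroup.centralizer ({x} : Set G)).index) : x * x = 1 := by
  by_contra hne
  obtain ⟨w, hw⟩ := isConj_iff.1 hx
  set C := Subgroup.centralizer ({x} : Set G)
  have hC : ∀ c : G, c ∈ C ↔ c * x * c⁻¹ = x := fun c => by
    rw [Subgroup.mem_centralizer_singleton_iff, mul_inv_eq_iff_eq_mul]
  have hwn : w ∈ Subgroup.normalizer (C : Set G) := by
    rw [Subgroup.mem_normalizer_iff]
    intro c
    rw [hC, hC]
    constructor <;> intro h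
    · calc w * c * w⁻¹ * x * (w * c * w⁻¹)⁻¹
          = w * (c * (w⁻¹ * x * w) * c⁻¹) * w⁻¹ := by group
        _ = w * (c * x⁻¹ * c⁻¹) * w⁻¹ := by
            rw [show w⁻¹ * x * w = x⁻¹ from
              calc w⁻¹ * x * w = w⁻¹ * (w * x * w⁻¹)⁻¹ * w := by rw [hw, inv_inv]
                _ = x⁻¹ := by group]
        _ = (w * (c * x * c⁻¹) * w⁻¹)⁻¹ := by group
        _ = x := by rw [h, hw, inv_inv]
    · calc c * x * c⁻¹ = (w⁻¹ * ((w * c * w⁻¹) * (w * x * w⁻¹) * (w * c * w⁻¹)⁻¹) * w) := by group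
        _ = w⁻¹ * ((w * c * w⁻¹) * x * (w * c * w⁻¹)⁻¹)⁻¹ * w := by rw [hw]; group
        _ = x := by rw [h, ← hw]; group
  set N := Subgroup.normalizer (C : Set G)
  haveI : (C.subgroupOf N).Normal := Subgroup.normal_in_normalizer
  set v : ↥N ⧸ C.subgroupOf N := QuotientGroup.mk ⟨w, hwn⟩
  have hv2 : orderOf v = 2 := orderOf_eq_prime (by
      rw [← QuotientGroup.mk_pow, QuotientGroup.eq_one_iff, Subgroup.mem_subgroupOf]
      change w ^ 2 ∈ C
      rw [hC]
      calc w ^ 2 * x * (w ^ 2)⁻¹ = w * (w * x * w⁻¹) * w⁻¹ := by rw [sq]; group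
        _ = w * x⁻¹ * w⁻¹ := by rw [hw]
        _ = (w * x * w⁻¹)⁻¹ := by group
        _ = x := by rw [hw, inv_inv])
    (by
      rw [Ne, QuotientGroup.eq_one_iff, Subgroup.mem_subgroupOf]
      change ¬ w ∈ C
      rw [hC, hw]
      intro h
      exact hne (mul_eq_one_iff_eq_inv.2 h.symm))
  have h2 : 2 ∣ C.index := by
    have h1 : 2 ∣ C.relIndex N := hv2 ▸ orderOf_dvd_natCard v
    exact h1.trans (Subgroup.relIndex_dvd_index_of_le Subgroup.le_normalizer)
  exact Nat.not_even_iff_odd.2 hodd (even_iff_two_dvd.2 h2)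

theorem normal_sylow_two_of_odd_real_index (S : Sylow 2 G)
    (h : ∀ x : G, IsConj x x⁻¹ → x ∉ Subgroup.center G →
      Odd (Subgroup.centralizer ({x} : Set G)).index) :
    (S : Subgroup G).Normal := by
  refine (Cfsg.Agent.S3861.result S).1 fun x hx1 hxo hxr => hx1 ?_
  have hsq : x * x = 1 := by
    by_cases hz : x ∈ Subgroup.center G
    · obtain ⟨w, hw⟩ := isConj_iff.1 hxr
      rw [Subgroup.mem_center_iff.1 hz w, mul_inv_cancel_right] at hw
      exact mul_eq_one_iff_eq_inv.2 hw
    · exact sq_eq_one_of_real_odd_index hxr (h x hxr hz)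
  rw [← sq, ← orderOf_dvd_iff_pow_eq_one] at hsq
  rcases (Nat.dvd_prime Nat.prime_two).1 hsq with h1 | h1
  · exact orderOf_eq_one_iff.1 h1
  · rw [h1] at hxo; exact absurd hxo (by decide)

theorem real_central_main (hFT : OddSolvable.{u}) (a : ℕ)
    (h : ∀ x : G, IsConj x x⁻¹ → x ∉ Subgroup.center G →
      ((Subgroup.centralizer ({x} : Set G)).index).factorization 2 = a)
    (S : Sylow 2 G)
    (hS : ∀ s : ↥(S : Subgroup G), IsConj s s⁻¹ → s ∈ Subgroup.center ↥(S : Subgroup G)) :
    Group.IsSolvable G ∧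
      Cfsg.HasNormalPComplement 2 ↥(Subgroup.closure {g : G | ∃ k : ℕ, orderOf g = 2 ^ k}) := by
  haveI : Fact (Nat.Prime 2) := ⟨Nat.prime_two⟩
  haveI : Group.IsNilpotent ↥(S : Subgroup G) := S.2.isNilpotent
  by_cases hI : ∀ t : G, t * t = 1 → t ∈ Subgroup.center G
  · obtain ⟨P, N, hN, hc⟩ := CfsgLib.Fusion.hasNormalPComplement_of_locallyPNilpotentAction S
      (locallyPNilpotentAction_of_central S hI hS)
    refine ⟨?_, CfsgLib.Fusion.hasNormalPComplement_subgroup _ ⟨P, N, hN, hc⟩⟩
    haveI := hN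
    haveI : Group.IsSolvable N := hFT.subgroup (by
      rw [← hc.index_eq_card, Nat.odd_iff]
      have := P.not_dvd_index
      omega)
    haveI : Group.IsNilpotent (G ⧸ N) := by
      refine IsPGroup.isNilpotent (p := 2) ?_
      obtain ⟨n, hn⟩ := P.2.exists_card_eq
      exact IsPGroup.of_card (n := n) (by rw [← Subgroup.index_eq_card, hc.symm.index_eq_card, hn])
    exact Group.isSolvable_of_ker_le_range N.subtype (QuotientGroup.mk' N)
      (by rw [QuotientGroup.ker_mk', Subgroup.range_subtype])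
  · push Not at hI
    obtain ⟨t, ht, htz⟩ := hI
    have hto : IsPGroup 2 (Subgroup.zpowers t) := by
      have : orderOf t ∣ 2 ^ 1 := orderOf_dvd_of_pow_eq_one (by rw [pow_one, sq, ht])
      obtain ⟨j, -, hj⟩ := (Nat.dvd_prime_pow Nat.prime_two).1 this
      exact IsPGroup.of_card (n := j) (by rw [Nat.card_zpowers, hj])
    obtain ⟨T, hT⟩ := hto.exists_le_sylow
    obtain ⟨c, hc⟩ := MulAction.exists_smul_eq G T S
    set s := c * t * c⁻¹ with hsdef
    have hsS : s ∈ (S : Subgroup G) := by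
      rw [← hc, Sylow.coe_subgroup_smul]
      exact ⟨t, hT (Subgroup.mem_zpowers t), rfl⟩
    have hss : s * s = 1 := by
      rw [hsdef, show c * t * c⁻¹ * (c * t * c⁻¹) = c * (t * t) * c⁻¹ by group, ht]; group
    have hsinv : s⁻¹ = s := inv_eq_of_mul_eq_one_right hss
    have hsc := hS ⟨s, hsS⟩ (by
      rw [show (⟨s, hsS⟩ : ↥(S : Subgroup G))⁻¹ = ⟨s, hsS⟩ from Subtype.ext hsinv])
    have hsz : s ∉ Subgroup.center G := fun hz => htz (by
      have h1 := (inferInstance : (Subgroup.center G).Normal).conj_mem s hz c⁻¹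
      rwa [hsdef, show c⁻¹ * (c * t * c⁻¹) * c⁻¹⁻¹ = t by group] at h1)
    have hle : (S : Subgroup G) ≤ Subgroup.centralizer ({s} : Set G) := fun u hu => by
      rw [Subgroup.mem_centralizer_singleton_iff]
      exact congrArg Subtype.val (Subgroup.mem_center_iff.1 hsc ⟨u, hu⟩)
    have ha : a = 0 := by
      rw [← h s (by rw [hsinv]) hsz]
      exact Nat.factorization_eq_zero_of_not_dvd fun hd =>
        S.not_dvd_index (hd.trans (Subgroup.index_dvd_of_le hle))
    haveI hn : (S : Subgroup G).Normal := normal_sylow_two_of_odd_real_index S fun x hx hxz => by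
      have h0 := h x hx hxz
      rw [ha, Nat.factorization_eq_zero_iff] at h0
      rcases h0 with h0 | h0 | h0
      · exact absurd Nat.prime_two h0
      · rw [Nat.odd_iff]; omega
      · exact absurd h0 Subgroup.index_ne_zero_of_finite
    refine ⟨?_, CfsgLib.Fusion.hasNormalPComplement_of_isPGroup (S.2.to_le ?_)⟩
    · haveI : Group.IsSolvable (G ⧸ (S : Subgroup G)) := hFT _ (by
        rw [← Subgroup.index_eq_card, Nat.odd_iff]
        have := S.not_dvd_index
        omega)
      exact Group.isSolvable_of_ker_le_range (S : Subgroup G).subtype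
        (QuotientGroup.mk' (S : Subgroup G))
        (by rw [QuotientGroup.ker_mk', Subgroup.range_subtype])
    · refine (Subgroup.closure_le _).2 fun g hg => ?_
      obtain ⟨k, hk⟩ := hg
      obtain ⟨T', hT'⟩ := (IsPGroup.of_card (p := 2) (G := Subgroup.zpowers g) (n := k)
        (by rw [Nat.card_zpowers, hk])).exists_le_sylow
      haveI : Unique (Sylow 2 G) := Sylow.unique_of_normal S hn
      rw [← Subsingleton.elim T' S]
      exact hT' (Subgroup.mem_zpowers g)

end CfsgLib.OddConseq
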