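import Cfsg.Agent.Lib.Coprime.Supersolvable
import Cfsg.Agent.Lib.Coprime.Fitting
import Cfsg.Agent.Lib.PGroup.SylowTowerCount
import Mathlib.Data.Nat.Squarefree

/-!
# Square-free classes of prime power elements: supersolvability
-/

set_option autoImplicit false
set_option linter.style.haveILetI false

open Subgroup

namespace CfsgLib.OddConseq.SqFree

universe u

variable {G : Type u} [Group G] [Finite G]

/-- `|N : C_N(x)|` divides the class size of `x`, for `N` normal. -/
theorem relIndex_centralizer_dvd (N : Subgroup G) [N.Normal] (x : G) :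
    (centralizer ({x} : Set G)).relIndex N ∣ (centralizer ({x} : Set G)).index := by
  set C := centralizer ({x} : Set G)
  have h2 : C.relIndex (N ⊔ C) * (N ⊔ C).index = C.index := relIndex_mul_index le_sup_right
  have h3 : C.relIndex N = C.relIndex (N ⊔ C) := by
    have e1 := relIndex_mul_relIndex (C ⊓ N) C (N ⊔ C) inf_le_left le_sup_right
    rw [show (C ⊓ N).relIndex C = N.relIndex C by rw [inf_comm, inf_relIndex_right]] at e1
    have e2 := relIndex_mul_relIndex (C ⊓ N) N (N ⊔ C) inf_le_right le_sup_left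
    rw [inf_relIndex_right, relIndex_sup_left, mul_comm] at e2
    exact Nat.eq_of_mul_eq_mul_left (Nat.pos_of_ne_zero (by
      rw [← relIndex_sup_left]; exact index_ne_zero_of_finite)) (e2.trans e1.symm)
  rw [h3, ← h2]
  exact dvd_mul_right _ _

/-- Elements of prime power order lift to elements of prime power order. -/
theorem exists_lift_primePow {H : Type*} [Group H] {f : G →* H} (hf : Function.Surjective f)
    {y : H} {r k : ℕ} (hr : r.Prime) (hy : orderOf y = r ^ k) :
    ∃ (x : G) (a : ℕ), f x = y ∧ orderOf x = r ^ a := by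
  obtain ⟨x₀, rfl⟩ := hf y
  set n := orderOf x₀ with hn
  have hn0 : n ≠ 0 := (orderOf_pos x₀).ne'
  set m := ordCompl[r] n
  have hm : m.Coprime (orderOf (f x₀)) := by
    rw [hy]
    exact ((hr.coprime_iff_not_dvd.2 (Nat.not_dvd_ordCompl hr hn0)).symm).pow_right k
  obtain ⟨j, hj⟩ := exists_pow_eq_self_of_coprime hm
  have hd : orderOf ((x₀ ^ m) ^ j) ∣ r ^ (n.factorization r) :=
    orderOf_dvd_of_pow_eq_one (by
      rw [← pow_mul, ← pow_mul, show m * (j * r ^ n.factorization r) = n * j by
        rw [mul_left_comm, mul_comm m, Nat.ordProj_mul_ordCompl_eq_self, mul_comm], pow_mul, hn,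
        pow_orderOf_eq_one, one_pow])
  obtain ⟨a, -, ha⟩ := (Nat.dvd_prime_pow hr).1 hd
  exact ⟨(x₀ ^ m) ^ j, a, by rw [map_pow, map_pow, hj], ha⟩

/-- The class size of an image divides that of the element. -/
theorem index_centralizer_map_dvd {H : Type*} [Group H] {f : G →* H}
    (hf : Function.Surjective f) (x : G) :
    (centralizer ({f x} : Set H)).index ∣ (centralizer ({x} : Set G)).index := by
  refine (index_dvd_of_le ?_).trans (index_map_dvd _ hf)
  rintro _ ⟨c, hc, rfl⟩
  refine mem_centralizer_singleton_iff.2 ?_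
  rw [← map_mul, mem_centralizer_singleton_iff.1 hc, map_mul]

theorem quotient_hyp (h : ∀ x : G, (∃ (r : ℕ) (k : ℕ), r.Prime ∧ orderOf x = r ^ k) →
    Squarefree (centralizer ({x} : Set G)).index) (N : Subgroup G) [N.Normal] :
    ∀ x : G ⧸ N, (∃ (r : ℕ) (k : ℕ), r.Prime ∧ orderOf x = r ^ k) →
      Squarefree (centralizer ({x} : Set (G ⧸ N))).index := by
  rintro x ⟨r, k, hr, hx⟩
  obtain ⟨y, a, rfl, hy⟩ := exists_lift_primePow (QuotientGroup.mk'_surjective N) hr hx
  exact (h y ⟨r, a, hr, hy⟩).squarefree_of_dvd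
    (index_centralizer_map_dvd (QuotientGroup.mk'_surjective N) y)

/-- A solvable group with square-free classes of prime power elements is supersolvable. -/
theorem isSupersolvable_aux (n : ℕ) : ∀ (G : Type u) [Group G] [Finite G], Nat.card G = n →
    Group.IsSolvable G →
    (∀ x : G, (∃ (r : ℕ) (k : ℕ), r.Prime ∧ orderOf x = r ^ k) →
      Squarefree (centralizer ({x} : Set G)).index) → Cfsg.IsSupersolvable G := by
  induction n using Nat.strong_induction_on with
  | _ n ih =>
    intro G _ _ hn hsol h
    rcases subsingleton_or_nontrivial G with hs | hs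
    · exact Coprime.isSupersolvable_of_subsingleton
    obtain ⟨N, hNn, hN1, -, hmin⟩ :=
      Coprime.exists_minimal_normal_le (N := (⊤ : Subgroup G)) top_ne_bot
    haveI := hNn
    have hlt : ∀ K : Subgroup G, K ≠ ⊥ → Nat.card (G ⧸ K) < n := fun K hK => by
      rw [← hn, K.card_eq_card_quotient_mul_card_subgroup]
      exact lt_mul_of_one_lt_right Nat.card_pos ((one_lt_card_iff_ne_bot K).2 hK)
    have hq : ∀ (K : Subgroup G) [K.Normal], K ≠ ⊥ → Cfsg.IsSupersolvable (G ⧸ K) := fun K _ hK =>
      ih _ (hlt K hK) (G ⧸ K) rfl inferInstance (quotient_hyp h K)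
    obtain ⟨hcomm, p, hp, hexp⟩ := Coprime.minimal_normal_solvable hN1 hmin
    haveI := Fact.mk hp
    have hNp : IsPGroup p N := fun x => ⟨1, Subtype.ext (by
      rw [pow_one, Subgroup.coe_pow, hexp x x.2]; rfl)⟩
    suffices hcard : (Nat.card N).Prime by
      haveI := Fact.mk hcard
      haveI : IsCyclic N := isCyclic_of_prime_card rfl
      exact Coprime.isSupersolvable_of_cyclic_normal N (hq N hN1)
    obtain ⟨a, ha⟩ := IsPGroup.iff_card.1 hNp
    have ha0 : a ≠ 0 := fun e => hN1 (card_eq_one.1 (by rw [ha, e, pow_zero]))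
    set C := centralizer (N : Set G) with hC
    have hNC : N ≤ C := fun x hx => mem_centralizer_iff.2 fun y hy => hcomm y hy x hx
    by_cases hCtop : C = ⊤
    · obtain ⟨x, hx⟩ := exists_prime_orderOf_dvd_card' (G := N) p (ha ▸ dvd_pow_self p ha0)
      have hxc : ∀ g : G, g * (x : G) = x * g := fun g =>
        (mem_centralizer_iff.1 (hCtop ▸ mem_top g : g ∈ C) x x.2).symm
      haveI : (zpowers (x : G)).Normal := ⟨fun z hz g => by
        obtain ⟨i, rfl⟩ := mem_zpowers_iff.1 hz
        rw [(Commute.zpow_right (hxc g) i).eq, mul_inv_cancel_right]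
        exact zpow_mem (mem_zpowers _) i⟩
      rcases hmin (zpowers (x : G)) inferInstance (zpowers_le.2 x.2) with e | e
      · rw [zpowers_eq_bot] at e
        rw [← orderOf_coe, e, orderOf_one] at hx
        exact absurd hx hp.one_lt.ne
      · rw [← e, Nat.card_zpowers, orderOf_coe, hx]; exact hp
    have hC1 : C ≠ ⊥ := fun e => hN1 (le_bot_iff.1 (e ▸ hNC))
    haveI : C.Normal := inferInstance
    haveI : Nontrivial (G ⧸ C) := (QuotientGroup.nontrivial_iff).2 hCtop
    obtain ⟨Y, hYn, hY⟩ := PGroup.exists_normal_prime_order (hq C hC1)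
    haveI := hYn
    haveI := Fact.mk hY
    haveI : IsCyclic Y := isCyclic_of_prime_card rfl
    obtain ⟨y, hy⟩ := IsCyclic.exists_generator (α := Y)
    have hyo : orderOf (y : G ⧸ C) = Nat.card Y ^ 1 := by
      rw [pow_one, orderOf_coe]; exact orderOf_eq_card_of_forall_mem_zpowers hy
    obtain ⟨z, b, hz, hzo⟩ := exists_lift_primePow (QuotientGroup.mk'_surjective C) hY hyo
    have hzC : z ∉ C := fun e => by
      have e1 : (y : G ⧸ C) = 1 := hz ▸ (QuotientGroup.eq_one_iff z).2 e
      rw [e1, orderOf_one, pow_one] at hyo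
      exact hY.one_lt.ne hyo
    set A := Y.comap (QuotientGroup.mk' C)
    have hinf : N ⊓ centralizer ({z} : Set G) = ⊥ := by
      have heq : N ⊓ centralizer ({z} : Set G) = N ⊓ centralizer (A : Set G) := by
        refine le_antisymm ?_ ?_
        · intro v hv
          refine ⟨hv.1, mem_centralizer_iff.2 fun w hw => ?_⟩
          obtain ⟨i, hi⟩ := mem_zpowers_iff.1 (hy ⟨QuotientGroup.mk' C w, hw⟩)
          have hi' : QuotientGroup.mk' C (z ^ i) = QuotientGroup.mk' C w := by
            rw [map_zpow, hz, ← Subgroup.coe_zpow, hi]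
          have hc : (z ^ i)⁻¹ * w ∈ C := QuotientGroup.eq.1 hi'
          have h1 : Commute ((z ^ i)⁻¹ * w) v := (mem_centralizer_iff.1 hc v hv.1).symm
          have h2 : Commute (z ^ i) v :=
            (Commute.zpow_right (mem_centralizer_singleton_iff.1 hv.2 : Commute v z) i).symm
          have := h2.mul_left h1
          rwa [mul_inv_cancel_left] at this
        · intro v hv
          refine ⟨hv.1, mem_centralizer_singleton_iff.2 ?_⟩
          exact (mem_centralizer_iff.1 hv.2 z (show QuotientGroup.mk' C z ∈ Y from hz ▸ y.2)).symm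
      haveI : A.Normal := inferInstance
      haveI : (N ⊓ centralizer (A : Set G)).Normal := normal_inf_normal _ _
      rw [heq]
      refine (hmin _ inferInstance inf_le_left).resolve_right fun e => hzC ?_
      refine mem_centralizer_iff.2 fun v hv => ?_
      have := mem_centralizer_iff.1 (e.ge hv).2 z (show QuotientGroup.mk' C z ∈ Y from hz ▸ y.2)
      exact this.symm
    have hd : Nat.card N ∣ (centralizer ({z} : Set G)).index := by
      have := relIndex_centralizer_dvd N z
      rwa [← inf_relIndex_right, inf_comm, hinf, relIndex_bot_left] at this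
    have hsf := (h z ⟨_, b, hY, hzo⟩).squarefree_of_dvd hd
    rw [ha] at hsf ⊢
    rcases Nat.squarefree_pow_iff hp.ne_one ha0 |>.1 hsf with ⟨-, rfl⟩
    rwa [pow_one]

theorem isSupersolvable [Group.IsSolvable G]
    (h : ∀ x : G, (∃ (r : ℕ) (k : ℕ), r.Prime ∧ orderOf x = r ^ k) →
      Squarefree (centralizer ({x} : Set G)).index) : Cfsg.IsSupersolvable G :=
  isSupersolvable_aux _ G rfl inferInstance h

end CfsgLib.OddConseq.SqFree
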