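import Cfsg.Agent.Lib.OddConseq.SquareFreeStructure

/-!
# The Fitting subgroup when all class sizes are square-free
-/

set_option autoImplicit false
set_option linter.style.haveILetI false

open Subgroup
open scoped commutatorElement

namespace CfsgLib.OddConseq.SqFree

universe u

variable {G : Type u} [Group G]

/-- A nilpotent group centralizes a normalized cyclic subgroup of square-free order. -/
theorem commute_of_squarefree_orderOf {F : Subgroup G} (hF : Group.IsNilpotent F) {a x : G}
    (ha : a ∈ F) (hx : x ∈ F) (hconj : x * a * x⁻¹ ∈ zpowers a) (hsf : Squarefree (orderOf a)) :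
    x * a = a * x := by
  obtain ⟨i, hi⟩ := mem_zpowers_iff.1 hconj
  have key : ∀ n : ℕ, a ^ ((1 - i) ^ n) ∈ F.lowerCentralSeries n := by
    intro n
    induction n with
    | zero => rw [pow_zero, zpow_one, Subgroup.lowerCentralSeries_zero]; exact ha
    | succ n ih =>
      rw [Subgroup.lowerCentralSeries_succ]
      have h := commutator_mem_commutator ih hx
      rw [commutatorElement_def] at h
      have e : a ^ ((1 - i) ^ (n + 1)) =
          a ^ (1 - i) ^ n * x * (a ^ (1 - i) ^ n)⁻¹ * x⁻¹ := by
        set j := (1 - i) ^ n with hj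
        rw [show a ^ j * x * (a ^ j)⁻¹ * x⁻¹ = a ^ j * (x * a ^ j * x⁻¹)⁻¹ by group, ← conj_zpow,
          ← hi, ← zpow_mul, ← zpow_neg, ← zpow_add, pow_succ, ← hj]
        congr 1
        ring
      rw [e]; exact h
  obtain ⟨c, hc⟩ := (Subgroup.isNilpotent_iff_lowerCentralSeries (S := F)).1 hF
  have h1 := key c
  rw [hc, mem_bot, ← orderOf_dvd_iff_zpow_eq_one] at h1
  have h2 : (orderOf a : ℤ) ∣ 1 - i := by
    rcases eq_or_ne c 0 with rfl | hc0
    · rw [pow_zero] at h1; exact h1.trans (one_dvd _)
    · exact (Int.squarefree_natCast.2 hsf).isRadical c _ h1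
  have h3 : a ^ (1 - i) = 1 := orderOf_dvd_iff_zpow_eq_one.1 h2
  rw [zpow_sub, zpow_one, mul_inv_eq_one] at h3
  have h4 : x * a * x⁻¹ = a := by rw [← hi, ← h3]
  exact mul_inv_eq_iff_eq_mul.1 h4

/-- Structure of groups with square-free classes, given supersolvability. -/
theorem structure_theorem [Finite G] (hss : Cfsg.IsSupersolvable G)
    (h : ∀ x : G, Squarefree (centralizer ({x} : Set G)).index) :
    (∀ _h : (Cfsg.fittingSubgroup G).Normal,
      IsCyclic (G ⧸ Cfsg.fittingSubgroup G) ∧ Squarefree (Cfsg.fittingSubgroup G).index) ∧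
    IsCyclic (commutator G) ∧ Squarefree (Nat.card (commutator G)) ∧
    Subgroup.upperCentralSeries ↥(Cfsg.fittingSubgroup G) 2 = ⊤ ∧
    commutator ↥(commutator G) = ⊥ := by
  have hsq := squarefree_card_commutator hss h
  haveI : Group.IsNilpotent (commutator G) := Coprime.commutator_isNilpotent hss
  haveI : IsZGroup (commutator G) := IsZGroup.of_squarefree hsq
  have hcyc : IsCyclic (commutator G) := inferInstance
  obtain ⟨a, ha⟩ := (Subgroup.isCyclic_iff_exists_zpowers_eq_top _).1 hcyc
  have haG : a ∈ commutator G := ha ▸ mem_zpowers a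
  set F := Cfsg.fittingSubgroup G with hF
  have hGF : commutator G ≤ F := Coprime.le_fitting inferInstance
  -- `F = C(a)`
  have h1 : ∀ x ∈ F, x * a = a * x := fun x hx =>
    commute_of_squarefree_orderOf Coprime.fitting_isNilpotent (hGF haG) hx
      (ha ▸ Subgroup.Normal.conj_mem inferInstance a haG x)
      (by rwa [← Nat.card_zpowers, ha])
  have hC : centralizer ({a} : Set G) = F := by
    refine le_antisymm ?_ fun x hx => mem_centralizer_singleton_iff.2 (h1 x hx)
    have e : centralizer ({a} : Set G) = centralizer ((commutator G : Subgroup G) : Set G) := by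
      rw [← ha, zpowers_eq_closure, centralizer_closure]
    rw [e]
    set C := centralizer ((commutator G : Subgroup G) : Set G) with hCdef
    refine Coprime.le_fitting (Subgroup.isNilpotent_of_ker_le_center (Abelianization.of (G := C)) ?_)
    rw [Abelianization.ker_of]
    intro x hx
    have hxG : (x : G) ∈ commutator G := by
      have := mem_map_of_mem C.subtype hx
      rw [_root_.commutator_def, map_commutator] at this
      exact commutator_mono le_top le_top this
    exact mem_center_iff.2 fun y => Subtype.ext (mem_centralizer_iff.1 y.2 _ hxG).symm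
  have hcen : ∀ x ∈ F, ∀ g ∈ commutator G, x * g = g * x := by
    intro x hx g hg
    rw [← ha] at hg
    obtain ⟨i, rfl⟩ := mem_zpowers_iff.1 hg
    exact (Commute.zpow_right (h1 x hx) i).eq
  refine ⟨fun _ => ?_, hcyc, hsq, ?_, ?_⟩
  · have hidx : Squarefree F.index := hC ▸ h a
    refine ⟨?_, hidx⟩
    haveI : IsZGroup (G ⧸ F) := IsZGroup.of_squarefree (by rwa [← index_eq_card])
    haveI : Group.IsNilpotent (G ⧸ F) := Subgroup.isNilpotent_of_ker_le_center
      (Abelianization.of (G := G ⧸ F)) (by
        rw [Abelianization.ker_of, _root_.commutator_def, ← map_top_of_surjective (QuotientGroup.mk' F)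
          (QuotientGroup.mk'_surjective F), ← map_commutator]
        rintro _ ⟨x, hx, rfl⟩
        have : (QuotientGroup.mk' F) x = 1 := (QuotientGroup.eq_one_iff x).2 (hGF hx)
        rw [this]; exact one_mem _)
    infer_instance
  · refine eq_top_iff.2 fun x _ => ?_
    rw [Subgroup.mem_upperCentralSeries_succ_iff]
    intro y
    rw [Subgroup.upperCentralSeries_one, mem_center_iff]
    intro z
    refine Subtype.ext ?_
    exact hcen z z.2 _ (commutator_mem_commutator (mem_top (x : G)) (mem_top (y : G)))
  · rw [eq_bot_iff, _root_.commutator_def ↥(_root_.commutator G), commutator_le]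
    intro g _ k _
    rw [mem_bot, commutatorElement_eq_one_iff_mul_comm]
    letI := hcyc.commGroup
    exact mul_comm g k

end CfsgLib.OddConseq.SqFree
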