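import Cfsg.Agent.Lib.OddConseq.SquareFreeBase
import Cfsg.Agent.Lib.Coprime.Action
import Cfsg.Agent.Lib.Coprime.Solvable
import Cfsg.Agent.Lib.PGroup.Breadth
import Mathlib.GroupTheory.SchurZassenhaus
import Mathlib.GroupTheory.SpecificGroups.ZGroup

/-!
# The structure of groups with square-free class sizes

`G'` has square-free order, `F(G) = C_G(G')` has class at most two and `G/F(G)` is cyclic.
-/

set_option autoImplicit false
set_option linter.style.haveILetI false

open Subgroup
open scoped commutatorElement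

namespace CfsgLib.OddConseq.SqFree

universe u

variable {G : Type u} [Group G] [Finite G]

theorem map_conj_normal (P : Subgroup G) [P.Normal] (k : G) :
    P.map (MulAut.conj k).toMonoidHom = P := by
  refine eq_of_le_of_card_ge ?_ (card_map_of_injective (MulAut.conj k).injective).ge
  rintro _ ⟨p, hp, rfl⟩
  exact Subgroup.Normal.conj_mem inferInstance p hp k

/-- A coprime automorphism with square-free class size moves a single central line of `P`. -/
theorem moved_line {r : ℕ} [Fact r.Prime] {P : Subgroup G} [P.Normal] (hP : IsPGroup r P) {h : G}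
    (hcop : (orderOf h).Coprime (Nat.card P)) (hh : h ∉ centralizer (P : Set G))
    (hsq : Squarefree (centralizer ({h} : Set G)).index) :
    (centralizer ({h} : Set G)).relIndex P = r ∧
      Nat.card (⁅P, zpowers h⁆ : Subgroup G) = r ∧
      ⁅P, zpowers h⁆ ⊓ (P ⊓ centralizer ({h} : Set G)) = ⊥ ∧
      ⁅P, zpowers h⁆ ⊔ (P ⊓ centralizer ({h} : Set G)) = P ∧
      ⁅P, zpowers h⁆ ≤ centralizer (P : Set G) := by
  classical
  set A := zpowers h with hA
  set C := P ⊓ centralizer ({h} : Set G) with hC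
  set D := ⁅P, A⁆ with hD
  have hCA : centralizer (A : Set G) = centralizer ({h} : Set G) := by
    rw [hA, zpowers_eq_closure, centralizer_closure]
  have hAP : A ≤ normalizer (P : Set G) := by
    rw [normalizer_eq_top_iff.2 inferInstance]; exact le_top
  have hcopA : (Nat.card A).Coprime (Nat.card P) := by rwa [hA, Nat.card_zpowers]
  have hsol : Group.IsSolvable A ∨ Group.IsSolvable P :=
    Or.inl (Coprime.isSolvable_of_isMulCommutative inferInstance)
  -- the index
  have hidx : (centralizer ({h} : Set G)).relIndex P = r := by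
    obtain ⟨k, hk⟩ := hP.index ((centralizer ({h} : Set G)).subgroupOf P)
    change (centralizer ({h} : Set G)).relIndex P = r ^ k at hk
    have hsf := hsq.squarefree_of_dvd (hk ▸ relIndex_centralizer_dvd P h)
    rcases eq_or_ne k 0 with rfl | hk0
    · rw [pow_zero, relIndex_eq_one] at hk
      refine absurd (mem_centralizer_iff.2 fun x hx => ?_) hh
      exact mem_centralizer_singleton_iff.1 (hk hx)
    · rcases (Nat.squarefree_pow_iff (Fact.out : r.Prime).ne_one hk0).1 hsf with ⟨-, rfl⟩
      rw [hk, pow_one]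
  have hCidx : (C.subgroupOf P).index = r := by
    show C.relIndex P = r
    rw [hC, inf_comm, inf_relIndex_right, hidx]
  haveI hCn : (C.subgroupOf P).Normal := by
    refine normal_of_index_eq_minFac_card ?_
    obtain ⟨n, hn⟩ := IsPGroup.iff_card.1 hP
    have hn0 : n ≠ 0 := fun e => by
      have := (C.subgroupOf P).index_dvd_card
      rw [hCidx, hn, e, pow_zero, Nat.dvd_one] at this
      exact (Fact.out : r.Prime).ne_one this
    rw [hCidx, hn, Nat.Prime.pow_minFac Fact.out hn0]
  have hCconj : ∀ y ∈ P, ∀ c ∈ C, y⁻¹ * c * y ∈ C := fun y hy c hc => by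
    have := hCn.conj_mem ⟨c, hc.1⟩ hc (⟨y⁻¹, inv_mem hy⟩ : P)
    rw [mem_subgroupOf] at this
    push_cast at this
    rwa [inv_inv] at this
  -- `D` centralizes `C`
  have hDC : D ≤ centralizer (C : Set G) := by
    rw [hD, commutator_le]
    intro y hy a ha
    refine mem_centralizer_iff.2 fun c hc => ?_
    have hca : ∀ c ∈ C, c * a = a * c := fun c hc => by
      have : c ∈ centralizer (A : Set G) := hCA ▸ hc.2
      exact (mem_centralizer_iff.1 this a ha).symm
    have h1 := hca _ (hCconj y hy c hc)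
    have h3 : c * a⁻¹ = a⁻¹ * c := (Commute.inv_right (hca c hc)).eq
    rw [commutatorElement_def]
    calc c * (y * a * y⁻¹ * a⁻¹) = y * ((y⁻¹ * c * y) * a) * y⁻¹ * a⁻¹ := by group
      _ = y * a * y⁻¹ * (c * a⁻¹) := by rw [h1]; group
      _ = y * a * y⁻¹ * a⁻¹ * c := by rw [h3]; group
  have hDP : D ≤ P := by
    rw [hD, commutator_le]
    intro y hy a ha
    rw [commutatorElement_def, show y * a * y⁻¹ * a⁻¹ = y * (a * y⁻¹ * a⁻¹) by group]
    exact mul_mem hy (Subgroup.Normal.conj_mem inferInstance _ (inv_mem hy) _)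
  have hsup : D ⊔ C = P := by
    have := Coprime.commutator_sup_centralizer hAP hcopA hsol
    rwa [hCA] at this
  -- `D` is abelian
  haveI : IsCyclic (P ⧸ C.subgroupOf P) :=
    isCyclic_of_prime_card (p := r) (by rw [← index_eq_card, hCidx])
  let f : D →* P ⧸ C.subgroupOf P := (QuotientGroup.mk' _).comp (inclusion hDP)
  have hker : f.ker ≤ center D := by
    intro d hd
    rw [MonoidHom.mem_ker, MonoidHom.comp_apply] at hd
    have hdC : (d : G) ∈ C := (QuotientGroup.eq_one_iff (inclusion hDP d)).1 hd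
    refine mem_center_iff.2 fun e => Subtype.ext ?_
    exact (mem_centralizer_iff.1 (hDC e.2) _ hdC).symm
  have hDab : IsMulCommutative D := f.isMulCommutative_of_isCyclic_of_ker_le_center hker
  have hAD : A ≤ normalizer (D : Set G) := by
    rw [hD, commutator_comm]; exact normalizer_commutator_ge_left A P
  have hDinf : D ⊓ C = ⊥ := by
    have h1 := Coprime.centralizer_inf_commutator_eq_bot hDab hAD
      (hcopA.coprime_dvd_right (card_dvd_of_le hDP))
    rw [hD, Coprime.commutator_commutator_eq hAP hcopA hsol, hCA] at h1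
    rw [eq_bot_iff, ← h1]
    rintro x ⟨hxD, hxC⟩
    exact ⟨⟨hxD, hxC.2⟩, hxD⟩
  have hfinj : Function.Injective f := by
    rw [← MonoidHom.ker_eq_bot_iff, eq_bot_iff]
    intro d hd
    rw [MonoidHom.mem_ker, MonoidHom.comp_apply] at hd
    have hdC : (d : G) ∈ C := (QuotientGroup.eq_one_iff (inclusion hDP d)).1 hd
    rw [mem_bot]
    exact Subtype.ext (mem_bot.1 (hDinf ▸ (⟨d.2, hdC⟩ : (d : G) ∈ D ⊓ C)))
  have hDcard : Nat.card D = r := by
    have hd := card_dvd_of_injective f hfinj
    rw [← index_eq_card, hCidx] at hd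
    refine ((Nat.dvd_prime (Fact.out : r.Prime)).1 hd).resolve_left fun e => ?_
    rw [card_eq_one.1 e, bot_sup_eq] at hsup
    apply hh
    refine mem_centralizer_iff.2 fun x hx => ?_
    exact mem_centralizer_singleton_iff.1 (hsup.ge hx).2
  refine ⟨hidx, hDcard, hDinf, hsup, ?_⟩
  rw [le_centralizer_iff]
  refine hsup.ge.trans (sup_le ?_ (le_centralizer_iff.1 hDC))
  intro x hx
  exact mem_centralizer_iff.2 fun y hy => congrArg Subtype.val
    (hDab.is_comm.comm (⟨y, hy⟩ : D) ⟨x, hx⟩)

/-- For trivial `O_{r'}` the derived subgroup has order dividing `r`. -/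
theorem card_commutator_dvd {r : ℕ} [Fact r.Prime] (hss : Cfsg.IsSupersolvable G)
    (hO : Cfsg.pPrimeCore r G = ⊥)
    (h : ∀ x : G, Squarefree (centralizer ({x} : Set G)).index) :
    Nat.card (commutator G) ∣ r := by
  classical
  have hr : r.Prime := Fact.out
  haveI : Group.IsSolvable G := Coprime.isSolvable_of_isSupersolvable hss
  set P := Cfsg.pCore r G with hPdef
  haveI hPn : P.Normal := Coprime.pCore_normal' r
  have hP : IsPGroup r P := Coprime.pCore_isPGroup r
  have hGP : commutator G ≤ P := by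
    rw [hPdef, ← Coprime.fitting_eq_pCore_of_pPrimeCore_eq_bot hO]
    exact Coprime.le_fitting (Coprime.commutator_isNilpotent hss)
  have hcomm : ∀ a b : G, a * b * a⁻¹ * b⁻¹ ∈ P := fun a b =>
    hGP (commutator_mem_commutator (mem_top a) (mem_top b))
  have hCP : centralizer (P : Set G) ≤ P := Coprime.centralizer_pCore_le hO
  have hidx : ¬ r ∣ P.index := by
    let S : Sylow r G := default
    have hle : P ≤ S := Coprime.pCore_le_sylow S
    haveI : (S : Subgroup G).Normal := ⟨fun s hs g => by
      rw [show g * s * g⁻¹ = (g * s * g⁻¹ * s⁻¹) * s by group]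
      exact mul_mem (hle (hcomm g s)) hs⟩
    rw [le_antisymm hle (Coprime.le_pCore S.isPGroup')]
    exact S.not_dvd_index
  obtain ⟨a, ha⟩ := IsPGroup.iff_card.1 hP
  have hcop : (Nat.card P).Coprime P.index := by
    rw [ha]; exact Nat.Coprime.pow_left a (hr.coprime_iff_not_dvd.2 hidx)
  obtain ⟨H, hH⟩ := exists_right_complement'_of_coprime hcop
  have hHc : Nat.card H = P.index := hH.symm.index_eq_card.symm
  have hdisj : P ⊓ H = ⊥ := hH.disjoint.eq_bot
  rcases eq_or_ne H ⊥ with rfl | hH1
  · -- `G` is an `r`-group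
    rw [card_bot] at hHc
    have hPtop : P = ⊤ := index_eq_one.1 hHc.symm
    have hG : IsPGroup r G := IsPGroup.iff_card.2 ⟨a, by rw [← ha, hPtop, card_top]⟩
    have hb : ∀ x : G, (centralizer ({x} : Set G)).index ≤ r ^ 1 := fun x => by
      obtain ⟨k, hk⟩ := hG.index (centralizer ({x} : Set G))
      rw [hk]
      rcases eq_or_ne k 0 with rfl | hk0
      · exact Nat.pow_le_pow_right hr.pos (Nat.zero_le 1)
      · rcases (Nat.squarefree_pow_iff hr.ne_one hk0).1 (hk ▸ h x) with ⟨-, rfl⟩
        exact le_rfl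
    have h1 := Breadth.card_commutator_le hG hb
    obtain ⟨k, hk⟩ := IsPGroup.iff_card.1 (hG.to_subgroup (commutator G))
    rw [hk] at h1 ⊢
    have hk1 : k ≤ 1 := (Nat.pow_le_pow_iff_right hr.one_lt).1 h1
    exact (pow_dvd_pow r hk1).trans (pow_one r).dvd
  -- every element of `H` moves one line
  have hdata : ∀ x ∈ H, x ≠ 1 → (centralizer ({x} : Set G)).relIndex P = r ∧
      Nat.card (⁅P, zpowers x⁆ : Subgroup G) = r ∧
      ⁅P, zpowers x⁆ ⊓ (P ⊓ centralizer ({x} : Set G)) = ⊥ ∧
      ⁅P, zpowers x⁆ ⊔ (P ⊓ centralizer ({x} : Set G)) = P ∧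
      ⁅P, zpowers x⁆ ≤ centralizer (P : Set G) := by
    intro x hx hx1
    refine moved_line hP ?_ (fun hc => hx1 ?_) (h x)
    · exact Nat.Coprime.coprime_dvd_left (hHc ▸ orderOf_dvd_natCard H hx) hcop.symm
    · rw [← mem_bot, ← hdisj]; exact ⟨hCP hc, hx⟩
  have hHcomm : ∀ x ∈ H, ∀ y ∈ H, x * y = y * x := fun x hx y hy => by
    have : x * y * x⁻¹ * y⁻¹ ∈ P ⊓ H :=
      Subgroup.mem_inf.2 ⟨hcomm x y, mul_mem (mul_mem (mul_mem hx hy) (inv_mem hx)) (inv_mem hy)⟩
    rw [hdisj, mem_bot] at this
    calc x * y = (x * y * x⁻¹ * y⁻¹) * (y * x) := by group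
      _ = y * x := by rw [this, one_mul]
  obtain ⟨⟨x, hx⟩, hx1'⟩ := ne_bot_iff_exists_ne_one.1 hH1
  have hx1 : x ≠ 1 := fun e => hx1' (Subtype.ext e)
  set D := ⁅P, zpowers x⁆ with hD
  set C := P ⊓ centralizer ({x} : Set G) with hC
  obtain ⟨hxidx, hDcard, hDC, hsup, hDcen⟩ := hdata x hx hx1
  have hDP : D ≤ P := le_sup_left.trans hsup.le
  have hHn : ∀ k ∈ H, ∀ d ∈ D, k * d * k⁻¹ ∈ D := by
    intro k hk d hd
    have hmap : D.map (MulAut.conj k).toMonoidHom = D := by
      rw [hD, map_commutator, MonoidHom.map_zpowers]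
      congr 1
      · exact map_conj_normal P k
      · simp [hHcomm k hk x hx]
    rw [← hmap]
    exact ⟨d, hd, rfl⟩
  -- only one line is moved
  have hkD : ∀ k ∈ H, ⁅P, zpowers k⁆ ≤ D := by
    intro k hk
    rcases eq_or_ne k 1 with rfl | hk1
    · rw [zpowers_one_eq_bot, commutator_bot_right]; exact bot_le
    by_contra hne
    set E' := ⁅P, zpowers k⁆ with hE'
    obtain ⟨hkidx, hEcard, hEC, hEsup, hEcen⟩ := hdata k hk hk1
    have hinf : D ⊓ E' = ⊥ := by
      rw [← card_eq_one]
      refine ((Nat.dvd_prime hr).1 (hEcard ▸ card_dvd_of_le inf_le_right)).resolve_right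
        fun e => hne ?_
      exact (eq_of_le_of_card_ge inf_le_right (hEcard.trans e.symm).le).ge.trans inf_le_left
    have hEn : ∀ e ∈ E', x * e * x⁻¹ ∈ E' := by
      intro e he
      have hmap : E'.map (MulAut.conj x).toMonoidHom = E' := by
        rw [hE', map_commutator, MonoidHom.map_zpowers]
        congr 1
        · exact map_conj_normal P x
        · simp [hHcomm x hx k hk]
      rw [← hmap]
      exact ⟨e, he, rfl⟩
    have hEP : E' ≤ P := le_sup_left.trans hEsup.le
    -- `k` centralizes `D`, `x` centralizes `E'`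
    have hkd : ∀ d ∈ D, k * d * k⁻¹ = d := fun d hd => by
      have h1 : d * k * d⁻¹ * k⁻¹ ∈ E' := commutator_mem_commutator (hDP hd) (mem_zpowers k)
      have h2 : d * k * d⁻¹ * k⁻¹ ∈ D := by
        rw [show d * k * d⁻¹ * k⁻¹ = d * (k * d⁻¹ * k⁻¹) by group]
        exact mul_mem hd (hHn k hk _ (inv_mem hd))
      have h3 := mem_bot.1 (hinf.le (Subgroup.mem_inf.2 ⟨h2, h1⟩))
      calc k * d * k⁻¹ = (d * k * d⁻¹ * k⁻¹)⁻¹ * d := by group
        _ = d := by rw [h3, inv_one, one_mul]
    have hxe : ∀ e ∈ E', x * e * x⁻¹ = e := fun e he => by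
      have h1 : e * x * e⁻¹ * x⁻¹ ∈ D := commutator_mem_commutator (hEP he) (mem_zpowers x)
      have h2 : e * x * e⁻¹ * x⁻¹ ∈ E' := by
        rw [show e * x * e⁻¹ * x⁻¹ = e * (x * e⁻¹ * x⁻¹) by group]
        exact mul_mem he (hEn _ (inv_mem he))
      have h3 := mem_bot.1 (hinf.le (Subgroup.mem_inf.2 ⟨h1, h2⟩))
      calc x * e * x⁻¹ = (e * x * e⁻¹ * x⁻¹)⁻¹ * e := by group
        _ = e := by rw [h3, inv_one, one_mul]
    have hg1 : x * k ≠ 1 := fun e => hne (by
      rw [hE', show k = x⁻¹ from (inv_eq_of_mul_eq_one_right e).symm, zpowers_inv])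
    obtain ⟨hgidx, -⟩ := hdata (x * k) (mul_mem hx hk) hg1
    set Cg := P ⊓ centralizer ({x * k} : Set G)
    have hEnD : E' ≤ normalizer (D : Set G) := fun e he =>
      centralizer_le_normalizer _ (le_centralizer_iff.1 hDcen (hEP he))
    have hmeet : (D ⊔ E') ⊓ Cg = ⊥ := by
      rw [eq_bot_iff]
      rintro _ ⟨hy, hyg⟩
      obtain ⟨d, hd, e, he, rfl⟩ := Coprime.mem_sup_exists hEnD hy
      have hfix := mem_centralizer_singleton_iff.1 hyg.2
      have hk' : k * (d * e) * k⁻¹ = d * (k * e * k⁻¹) := by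
        rw [show k * (d * e) * k⁻¹ = (k * d * k⁻¹) * (k * e * k⁻¹) by group, hkd d hd]
      have hek : k * e * k⁻¹ ∈ E' := by
        have hmap : E'.map (MulAut.conj k).toMonoidHom = E' := by
          rw [hE', map_commutator, MonoidHom.map_zpowers]
          congr 1
          · exact map_conj_normal P k
          · simp
        rw [← hmap]; exact ⟨e, he, rfl⟩
      have h4 : (x * d * x⁻¹) * (k * e * k⁻¹) = d * e := by
        calc (x * d * x⁻¹) * (k * e * k⁻¹)
            = (x * d * x⁻¹) * (x * (k * e * k⁻¹) * x⁻¹) := by rw [hxe _ hek]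
          _ = x * (d * (k * e * k⁻¹)) * x⁻¹ := by group
          _ = x * (k * (d * e) * k⁻¹) * x⁻¹ := by rw [hk']
          _ = (x * k) * (d * e) * (x * k)⁻¹ := by group
          _ = d * e := by rw [← hfix, mul_inv_cancel_right]
      have h5 : d⁻¹ * (x * d * x⁻¹) = 1 := by
        rw [← mem_bot, ← hinf]
        refine Subgroup.mem_inf.2 ⟨mul_mem (inv_mem hd) (hHn x hx d hd), ?_⟩
        rw [show d⁻¹ * (x * d * x⁻¹) = e * (k * e * k⁻¹)⁻¹ by
          calc d⁻¹ * (x * d * x⁻¹)
              = d⁻¹ * ((x * d * x⁻¹) * (k * e * k⁻¹)) * (k * e * k⁻¹)⁻¹ := by group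
            _ = e * (k * e * k⁻¹)⁻¹ := by rw [h4]; group]
        exact mul_mem he (inv_mem hek)
      have hd1 : d = 1 := by
        rw [← mem_bot, ← hDC]
        refine ⟨hd, hDP hd, mem_centralizer_singleton_iff.2 ?_⟩
        have h6 : x * d * x⁻¹ = d := (eq_of_inv_mul_eq_one h5).symm
        exact (mul_inv_eq_iff_eq_mul.1 h6).symm
      subst hd1
      rw [one_mul] at h4 hfix ⊢
      rw [mem_bot, ← mem_bot, ← hEC]
      refine ⟨he, hEP he, mem_centralizer_singleton_iff.2 ?_⟩
      rw [mul_one, mul_inv_cancel, one_mul] at h4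
      exact (mul_inv_eq_iff_eq_mul.1 h4).symm
    have hle : D ⊔ E' ≤ P := sup_le hDP hEP
    have h7 : Nat.card (D ⊔ E' : Subgroup G) ≤ r := by
      have h8 : Cg.relIndex (D ⊔ E') ≤ Cg.relIndex P :=
        relIndex_le_of_le_right hle index_ne_zero_of_finite
      rw [← inf_relIndex_right Cg (D ⊔ E'), inf_comm, hmeet, relIndex_bot_left] at h8
      refine h8.trans (le_of_eq ?_)
      show (P ⊓ centralizer ({x * k} : Set G)).relIndex P = r
      rw [inf_comm, inf_relIndex_right, hgidx]
    have h9 : D = D ⊔ E' := eq_of_le_of_card_ge le_sup_left (hDcard ▸ h7)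
    exact hne (h9 ▸ le_sup_right)
  -- `C` is abelian
  have hCab : ∀ c ∈ C, ∀ d ∈ C, c * d = d * c := by
    by_contra hcon
    push Not at hcon
    obtain ⟨c, hc, d, hd, hcd⟩ := hcon
    set C2 := C ⊓ centralizer ({c} : Set G)
    have hcx : Commute c x := mem_centralizer_singleton_iff.1 hc.2
    have hox : (orderOf x).Coprime (orderOf c) :=
      (Nat.Coprime.coprime_dvd_left (hHc ▸ orderOf_dvd_natCard H hx) hcop.symm).coprime_dvd_right
        (orderOf_dvd_natCard P hc.1)
    obtain ⟨m, hm⟩ := exists_pow_eq_self_of_coprime hox.symm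
    have hpow : ((x * c) ^ orderOf c) ^ m = x := by
      rw [hcx.symm.mul_pow, pow_orderOf_eq_one, mul_one, hm]
    have hle : P ⊓ centralizer ({x * c} : Set G) ≤ C2 := by
      rintro y ⟨hyP, hy⟩
      have hy' : Commute y (x * c) := mem_centralizer_singleton_iff.1 hy
      have hyx : Commute y x := hpow ▸ (hy'.pow_right _).pow_right _
      have hyc : Commute y c := by
        have := hyx.inv_right.mul_right hy'
        rwa [inv_mul_cancel_left] at this
      exact ⟨⟨hyP, mem_centralizer_singleton_iff.2 hyx⟩, mem_centralizer_singleton_iff.2 hyc⟩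
    have hne : C2.relIndex C ≠ 1 := fun e => hcd
      (mem_centralizer_singleton_iff.1 ((relIndex_eq_one.1 e) hd).2).symm
    obtain ⟨k, hk⟩ := (hP.to_le (inf_le_left : C ≤ P)).index (C2.subgroupOf C)
    change C2.relIndex C = r ^ k at hk
    have hk0 : k ≠ 0 := fun e => hne (by rw [hk, e, pow_zero])
    have hCP' : C.relIndex P = r := by rw [hC, inf_comm, inf_relIndex_right, hxidx]
    have h10 : r ^ 2 ∣ C2.relIndex P := by
      rw [← relIndex_mul_relIndex C2 C P inf_le_left inf_le_left, hk, hCP', pow_two]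
      exact mul_dvd_mul_right (dvd_pow_self r hk0) r
    have h11 : r ^ 2 ∣ (centralizer ({x * c} : Set G)).index := by
      refine (h10.trans ?_).trans (relIndex_centralizer_dvd P (x * c))
      rw [← inf_relIndex_right (centralizer ({x * c} : Set G)) P, inf_comm]
      exact relIndex_dvd_of_le_left P hle
    exact hr.ne_one (Nat.isUnit_iff.1 (h (x * c) r (by rwa [← pow_two])))
  have hPab : P ≤ centralizer (P : Set G) := by
    refine le_trans hsup.ge (sup_le hDcen (le_centralizer_iff.1 ?_))
    refine hsup.ge.trans (sup_le ?_ fun c hc => mem_centralizer_iff.2 fun d hd => hCab d hd c hc)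
    exact hDcen.trans (centralizer_le inf_le_left)
  -- `D` is normal with abelian quotient
  have htop : P ⊔ H = ⊤ := hH.isCompl.sup_eq_top
  haveI hDn : D.Normal := normalizer_eq_top_iff.1 <| top_le_iff.1 <| htop ▸ sup_le
    (fun p hp => centralizer_le_normalizer _ (le_centralizer_iff.1 hDcen hp))
    (fun k hk => mem_normalizer_iff.2 fun d => ⟨hHn k hk d, fun hd => by
      have := hHn k⁻¹ (inv_mem hk) _ hd
      rwa [show k⁻¹ * (k * d * k⁻¹) * k⁻¹⁻¹ = d by group] at this⟩)
  have hcen : ∀ a b : G ⧸ D, a * b = b * a := by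
    set f := QuotientGroup.mk' D
    have hPH : ∀ p ∈ P, ∀ k ∈ H, f p * f k = f k * f p := by
      intro p hp k hk
      have hmem : p * k * p⁻¹ * k⁻¹ ∈ D :=
        hkD k hk (commutator_mem_commutator hp (mem_zpowers k))
      have := (QuotientGroup.eq_one_iff _).2 hmem
      change f (p * k * p⁻¹ * k⁻¹) = 1 at this
      rw [map_mul, map_mul, map_mul, map_inv, map_inv] at this
      calc f p * f k = (f p * f k * (f p)⁻¹ * (f k)⁻¹) * (f k * f p) := by group
        _ = f k * f p := by rw [this, one_mul]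
    have hle : (⊤ : Subgroup (G ⧸ D)) ≤ center (G ⧸ D) := by
      rw [← map_top_of_surjective f (QuotientGroup.mk'_surjective D), ← htop, Subgroup.map_sup]
      have hgen : ∀ z : G ⧸ D, (∀ p ∈ P, z * f p = f p * z) → (∀ k ∈ H, z * f k = f k * z) →
          z ∈ center (G ⧸ D) := by
        intro z hz1 hz2
        have : (⊤ : Subgroup (G ⧸ D)) ≤ centralizer ({z} : Set (G ⧸ D)) := by
          rw [← map_top_of_surjective f (QuotientGroup.mk'_surjective D), ← htop, Subgroup.map_sup]
          refine sup_le ?_ ?_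
          · rintro _ ⟨p, hp, rfl⟩; exact mem_centralizer_singleton_iff.2 (hz1 p hp).symm
          · rintro _ ⟨k, hk, rfl⟩; exact mem_centralizer_singleton_iff.2 (hz2 k hk).symm
        exact mem_center_iff.2 fun g => mem_centralizer_singleton_iff.1 (this (mem_top g))
      refine sup_le ?_ ?_
      · rintro _ ⟨p, hp, rfl⟩
        refine hgen _ (fun q hq => ?_) (fun k hk => hPH p hp k hk)
        rw [← map_mul, ← map_mul, mem_centralizer_iff.1 (hPab hq) p hp]
      · rintro _ ⟨k, hk, rfl⟩
        refine hgen _ (fun p hp => (hPH p hp k hk).symm) (fun l hl => ?_)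
        rw [← map_mul, ← map_mul, hHcomm k hk l hl]
    exact fun a b => (mem_center_iff.1 (hle (mem_top a)) b).symm
  have hGD : commutator G ≤ D := by
    rw [_root_.commutator_def, commutator_le]
    intro a _ b _
    refine (QuotientGroup.eq_one_iff _).1 ?_
    rw [commutatorElement_def]
    change QuotientGroup.mk' D (a * b * a⁻¹ * b⁻¹) = 1
    rw [map_mul, map_mul, map_mul, map_inv, map_inv, hcen (QuotientGroup.mk' D a)]
    group
  exact hDcard ▸ card_dvd_of_le hGD

/-- The derived subgroup has square-free order. -/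
theorem squarefree_card_commutator (hss : Cfsg.IsSupersolvable G)
    (h : ∀ x : G, Squarefree (centralizer ({x} : Set G)).index) :
    Squarefree (Nat.card (commutator G)) := by
  refine Nat.squarefree_iff_prime_squarefree.2 fun r hr hdvd => ?_
  haveI := Fact.mk hr
  haveI : (Cfsg.pPrimeCore r G).Normal :=
    haveI := Coprime.pPrimeCore_characteristic (G := G) r; inferInstance
  set f := QuotientGroup.mk' (Cfsg.pPrimeCore r G)
  have hb := card_commutator_dvd (r := r) (PGroup.isSupersolvable_quotient hss _)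
    (Coprime.pPrimeCore_quotient_eq_bot hr) fun y => by
      obtain ⟨x, rfl⟩ := QuotientGroup.mk'_surjective (Cfsg.pPrimeCore r G) y
      exact (h x).squarefree_of_dvd
        (index_centralizer_map_dvd (QuotientGroup.mk'_surjective _) x)
  obtain ⟨T, hT⟩ := Sylow.exists_subgroup_card_pow_prime (G := commutator G) r (n := 2)
    (by rwa [pow_two])
  have hmap : (commutator G).map f = commutator (G ⧸ Cfsg.pPrimeCore r G) := by
    rw [_root_.commutator_def, _root_.commutator_def, map_commutator,
      map_top_of_surjective f (QuotientGroup.mk'_surjective _)]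
  let g : T →* commutator (G ⧸ Cfsg.pPrimeCore r G) :=
    ((f.comp (commutator G).subtype).comp T.subtype).codRestrict _
      fun t => hmap ▸ mem_map_of_mem f t.1.2
  have hinj : Function.Injective g := by
    rw [← MonoidHom.ker_eq_bot_iff, eq_bot_iff]
    intro t ht
    have htK : ((t : commutator G) : G) ∈ Cfsg.pPrimeCore r G :=
      (QuotientGroup.eq_one_iff _).1 (congrArg Subtype.val (MonoidHom.mem_ker.1 ht))
    have h1 : orderOf ((t : commutator G) : G) ∣ r ^ 2 := by
      rw [orderOf_coe, orderOf_coe, ← hT]; exact orderOf_dvd_natCard t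
    have h2 := Nat.eq_one_of_dvd_coprimes
      ((Coprime.pPrimeCore_coprime (G := G) hr).symm.pow_left 2) h1
      (Subgroup.orderOf_dvd_natCard _ htK)
    rw [mem_bot]
    exact Subtype.ext (Subtype.ext (orderOf_eq_one_iff.1 h2))
  have h3 := (card_dvd_of_injective g hinj).trans hb
  rw [hT] at h3
  have := Nat.le_of_dvd hr.pos h3
  have := hr.one_lt
  nlinarith

end CfsgLib.OddConseq.SqFree
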