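import Cfsg.Agent.Lib.Coprime.LBalance.Main
import Cfsg.Agent.Lib.Coprime.PComponent
import Mathlib.Tactic.Group

/-!
# A standard subgroup of a core-free group

For a standard subgroup `A` of even order of a group `G` with `O(G) = 1` and an involution `t` of
`C_G(A)`: either `A` is normal, or `E(G)` is simple and contains `A`, or `E(G) = X × X^t` with
`A` the diagonal and `C_G(A) = ⟨t⟩`. The first step `A ≤ E(G)` is L-balance; the rest uses only
that `C_G(A)` is tightly embedded and has the same normalizer as `A`.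
-/

set_option autoImplicit false
set_option linter.style.haveILetI false
set_option linter.unusedSectionVars false

namespace CfsgLib.OddConseq.StdTrichotomy

open Subgroup CfsgLib.Coprime
open scoped commutatorElement

variable {G : Type*} [Group G] [Finite G]

/-! ### Generalities -/

theorem isQuasisimple_of_surjective {X Y : Type*} [Group X] [Group Y] [Nontrivial Y]
    (h : Cfsg.IsQuasisimple X) (f : X →* Y) (hf : Function.Surjective f) :
    Cfsg.IsQuasisimple Y := by
  haveI := h.1
  haveI : Group.IsPerfect Y := Group.IsPerfect.ofSurjective (f := f) hf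
  refine isQuasisimple_of_normal_le_center fun N hN => ?_
  haveI := hN
  rcases subnormal_eq_top_or_le_center h
    (Subgroup.Normal.isSubnormal (inferInstance : (N.comap f).Normal)) with e | e
  · left
    rw [← map_comap_eq_self_of_surjective hf N, e, Subgroup.map_top_of_surjective _ hf]
  · right
    intro y hy
    obtain ⟨x, rfl⟩ := hf y
    refine mem_center_iff.2 fun z => ?_
    obtain ⟨w, rfl⟩ := hf z
    rw [← map_mul, ← map_mul, mem_center_iff.1 (e (mem_comap.2 hy)) w]

/-- A component of even order is a `2`-component. -/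
theorem isPComponent_two_of_isComponent {C : Type*} [Group C] [Finite C] {A : Subgroup C}
    (hA : Cfsg.IsComponent A) (hev : Even (Nat.card A)) : Cfsg.IsPComponent 2 A := by
  haveI : Fact (Nat.Prime 2) := ⟨Nat.prime_two⟩
  set π := QuotientGroup.mk' (Cfsg.pPrimeCore 2 C) with hπ
  have hnot : ¬ A ≤ Cfsg.pPrimeCore 2 C := fun h =>
    pPrimeCore_not_dvd (G := C) Nat.prime_two
      ((even_iff_two_dvd.1 hev).trans (card_dvd_of_le h))
  haveI : Nontrivial ↥(A.map π) := (nontrivial_iff_ne_bot _).2 fun h => hnot (by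
    rwa [Subgroup.map_eq_bot_iff, QuotientGroup.ker_mk'] at h)
  have hc : Cfsg.IsComponent (A.map π) :=
    ⟨hA.1.map (QuotientGroup.mk'_surjective _),
      isQuasisimple_of_surjective hA.2 (π.subgroupMap A) (π.subgroupMap_surjective A)⟩
  refine ⟨hA.1, hc, fun H hH hHA hmap => ?_⟩
  refine (eq_or_le_center_of_le_component hA hH hHA).resolve_right fun e => ?_
  refine not_isSolvable_of_isComponent hc ?_
  have hab : ∀ u v : ↥(H.map π), u * v = v * u := fun u v => by
    obtain ⟨_, u, hu, rfl⟩ := u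
    obtain ⟨_, v, hv, rfl⟩ := v
    refine Subtype.ext ?_
    show π u * π v = π v * π u
    rw [← map_mul, ← map_mul,
      mem_centralizer_iff.1 (subgroupOf_le_center hHA e hv) u (hHA hu)]
  rw [← hmap]
  exact Group.isSolvable_of_comm hab

/-- The commutator of a join of two commuting subgroups. -/
theorem commutator_sup_le_of_commuting {X Y : Subgroup G} (h : ⁅X, Y⁆ = ⊥) :
    ⁅X ⊔ Y, X ⊔ Y⁆ ≤ ⁅X, X⁆ ⊔ ⁅Y, Y⁆ := by
  have hc := commutator_eq_bot_iff_forall.1 h
  have hn : Y ≤ normalizer (X : Set G) := by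
    rw [commutator_comm] at h
    exact (commutator_eq_bot_iff_le_centralizer.1 h).trans (Subgroup.centralizer_le_normalizer _)
  refine commutator_le.2 fun u hu v hv => ?_
  rw [← SetLike.mem_coe, coe_mul_of_right_le_normalizer_left _ _ hn] at hu hv
  obtain ⟨x, hx, y, hy, rfl⟩ := hu
  obtain ⟨x', hx', y', hy', rfl⟩ := hv
  have key : ⁅x * y, x' * y'⁆ = ⁅x, x'⁆ * ⁅y, y'⁆ := by
    have h1 : Commute y x' := (hc x' hx' y hy).symm
    have h2 : Commute y x⁻¹ := (hc x⁻¹ (inv_mem hx) y hy).symm
    have h3 : Commute y' x⁻¹ := (hc x⁻¹ (inv_mem hx) y' hy').symm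
    have h4 : Commute (y * y' * y⁻¹ * y'⁻¹) x'⁻¹ := (hc x'⁻¹ (inv_mem hx') _
      (mul_mem (mul_mem (mul_mem hy hy') (inv_mem hy)) (inv_mem hy'))).symm
    have h5 : Commute y⁻¹ x⁻¹ := (hc x⁻¹ (inv_mem hx) y⁻¹ (inv_mem hy)).symm
    have h6 : Commute (y * y' * y⁻¹) x⁻¹ :=
      (hc x⁻¹ (inv_mem hx) _ (mul_mem (mul_mem hy hy') (inv_mem hy))).symm
    have h7 : Commute y'⁻¹ x'⁻¹ := (hc x'⁻¹ (inv_mem hx') _ (inv_mem hy')).symm
    simp only [commutatorElement_def, mul_inv_rev]
    calc x * y * (x' * y') * (y⁻¹ * x⁻¹) * (y'⁻¹ * x'⁻¹)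
        = x * (y * x') * y' * y⁻¹ * x⁻¹ * y'⁻¹ * x'⁻¹ := by group
      _ = x * x' * ((y * y' * y⁻¹) * x⁻¹) * y'⁻¹ * x'⁻¹ := by rw [h1.eq]; group
      _ = x * x' * x⁻¹ * ((y * y' * y⁻¹ * y'⁻¹) * x'⁻¹) := by rw [h6.eq]; group
      _ = x * x' * x⁻¹ * x'⁻¹ * (y * y' * y⁻¹ * y'⁻¹) := by rw [h4.eq]; group
  rw [key]
  exact mul_mem (mem_sup_left (commutator_mem_commutator hx hx'))
    (mem_sup_right (commutator_mem_commutator hy hy'))

/-! ### Tight embedding -/

variable {A : Subgroup G}

local notation "K₀" => Subgroup.centralizer (A : Set G)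

theorem mem_normalizer_of_involution (hA : Cfsg.IsStandardSubgroup A) {g x : G}
    (hx2 : orderOf x = 2) (hx : x ∈ K₀) (hxg : g⁻¹ * x * g ∈ K₀) :
    g ∈ normalizer (A : Set G) := by
  rw [hA.2.2.2]
  by_contra hg
  have hmem : x ∈ K₀ ⊓ (K₀).map (MulAut.conj g).toMonoidHom :=
    mem_inf.2 ⟨hx, mem_map.2 ⟨g⁻¹ * x * g, hxg, by simp [MulAut.conj_apply, mul_assoc]⟩⟩
  have hd : orderOf x ∣ Nat.card ↥(K₀ ⊓ (K₀).map (MulAut.conj g).toMonoidHom) := by
    rw [← Subgroup.orderOf_mk x hmem]
    exact orderOf_dvd_natCard _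
  rw [hx2] at hd
  exact Nat.not_even_iff_odd.2 (hA.2.1.2 g hg) (even_iff_two_dvd.2 hd)

theorem exists_involution {L : Subgroup G} (hd : 2 ∣ Nat.card L) :
    ∃ x ∈ L, orderOf x = 2 := by
  haveI : Fact (Nat.Prime 2) := ⟨Nat.prime_two⟩
  obtain ⟨x, hx⟩ := exists_prime_orderOf_dvd_card' (G := L) 2 hd
  exact ⟨x, x.2, by rw [orderOf_coe]; exact hx⟩

theorem normalizer_le_of_component_le (hA : Cfsg.IsStandardSubgroup A)
    (hO : Cfsg.oddCore G = ⊥) {L : Subgroup G} (hL : Cfsg.IsComponent L) (hLK : L ≤ K₀) :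
    normalizer (L : Set G) ≤ normalizer (A : Set G) := by
  haveI : Fact (Nat.Prime 2) := ⟨Nat.prime_two⟩
  obtain ⟨x, hxL, hx⟩ := exists_involution (dvd_card_of_isComponent hO hL)
  intro g hg
  refine mem_normalizer_of_involution hA hx (hLK hxL) (hLK ?_)
  have := (mem_normalizer_iff.1 (inv_mem hg) x).1 hxL
  rwa [inv_inv] at this

theorem eq_bot_of_normal_le (hA : Cfsg.IsStandardSubgroup A) (hO : Cfsg.oddCore G = ⊥)
    (hn : ¬ A.Normal) (N : Subgroup G) [hN : N.Normal] (hNK : N ≤ K₀) : N = ⊥ := by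
  by_cases h2 : 2 ∣ Nat.card N
  · obtain ⟨x, hxN, hx⟩ := exists_involution h2
    refine absurd (normalizer_eq_top_iff.1 (eq_top_iff.2 fun g _ => ?_)) hn
    refine mem_normalizer_of_involution hA hx (hNK hxN) (hNK ?_)
    simpa [mul_assoc] using hN.conj_mem x hxN g⁻¹
  · exact le_bot_iff.1 (hO ▸ le_pPrimeCore_of_not_dvd Nat.prime_two h2)

variable {t : G}

theorem centralizer_le_normalizer' (hA : Cfsg.IsStandardSubgroup A) (ht : orderOf t = 2)
    (htA : t ∈ K₀) : centralizer ({t} : Set G) ≤ normalizer (A : Set G) := by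
  intro g hg
  refine mem_normalizer_of_involution hA ht htA ?_
  have h := mem_centralizer_singleton_iff.1 hg
  rw [mul_assoc, ← h, ← mul_assoc, inv_mul_cancel, one_mul]
  exact htA

theorem le_centralizer_singleton (htA : t ∈ K₀) : A ≤ centralizer ({t} : Set G) := fun a ha =>
  mem_centralizer_singleton_iff.2 (mem_centralizer_iff.1 htA a ha)

/-- L-balance puts a standard subgroup of even order into the layer. -/
theorem le_layer (hA : Cfsg.IsStandardSubgroup A) (hO : Cfsg.oddCore G = ⊥)
    (hev : Even (Nat.card A)) (ht : orderOf t = 2) (htA : t ∈ K₀) : A ≤ Cfsg.layer G := by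
  haveI : Fact (Nat.Prime 2) := ⟨Nat.prime_two⟩
  have hAC := le_centralizer_singleton htA
  haveI : (A.subgroupOf (centralizer ({t} : Set G))).Normal :=
    (normal_subgroupOf_iff_le_normalizer hAC).2 (centralizer_le_normalizer' hA ht htA)
  have hc : Cfsg.IsComponent (A.subgroupOf (centralizer ({t} : Set G))) :=
    ⟨Subgroup.Normal.isSubnormal inferInstance,
      isQuasisimple_congr (subgroupOfEquivOfLe hAC).symm hA.1⟩
  have hev' : Even (Nat.card (A.subgroupOf (centralizer ({t} : Set G)))) := by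
    rwa [Nat.card_congr (subgroupOfEquivOfLe hAC).toEquiv]
  have h1 : A ≤ (Cfsg.pLayer 2 ↥(centralizer ({t} : Set G))).map
      (centralizer ({t} : Set G)).subtype := by
    conv_lhs => rw [← map_subgroupOf_eq_of_le hAC]
    exact map_mono (pComponent_le_pLayer (isPComponent_two_of_isComponent hc hev'))
  have hT : IsPGroup 2 ↥(zpowers t) :=
    IsPGroup.of_card (n := 1) (by rw [Nat.card_zpowers, ht, pow_one])
  have h2 := lBalance_two (zpowers t) hT
  rw [zpowers_eq_closure, centralizer_closure] at h2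
  exact (h1.trans h2).trans (pLayer_eq_layer hO).le

/-! ### The components -/

/-- The conjugate of `L` under `g`. -/
abbrev cj (g : G) (L : Subgroup G) : Subgroup G := L.map (MulAut.conj g).toMonoidHom

theorem mem_cj {g x : G} {L : Subgroup G} (hx : x ∈ L) : g * x * g⁻¹ ∈ cj g L :=
  mem_map.2 ⟨x, hx, by simp [MulAut.conj_apply]⟩

theorem mem_cj_iff {g x : G} {L : Subgroup G} : x ∈ cj g L ↔ g⁻¹ * x * g ∈ L := by
  refine ⟨fun h => ?_, fun h => by simpa [mul_assoc] using mem_cj (g := g) h⟩
  obtain ⟨y, hy, rfl⟩ := mem_map.1 h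
  simpa [MulAut.conj_apply, mul_assoc] using hy

theorem cj_cj (g h : G) (L : Subgroup G) : cj g (cj h L) = cj (g * h) L := by
  ext x
  simp only [mem_cj_iff, mul_inv_rev, mul_assoc]

theorem cj_one (L : Subgroup G) : cj 1 L = L := by
  ext x
  simp [mem_cj_iff]

theorem isComponent_cj (g : G) {L : Subgroup G} (hL : Cfsg.IsComponent L) :
    Cfsg.IsComponent (cj g L) := isComponent_map_equiv (MulAut.conj g) hL

theorem not_component (hA : Cfsg.IsStandardSubgroup A) (hn : ¬ A.Normal) :
    ¬ Cfsg.IsComponent A := fun hc => by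
  obtain ⟨g, hg⟩ : ∃ g : G, cj g A ≠ A := by
    by_contra h
    push Not at h
    exact hn ⟨fun a ha g => (h g).le (mem_cj ha)⟩
  exact hA.2.2.1 g hg (components_commute hc (isComponent_cj g hc) (Ne.symm hg))

/-- No component centralizes a non-normal standard subgroup. -/
theorem not_component_le (hA : Cfsg.IsStandardSubgroup A) (hO : Cfsg.oddCore G = ⊥)
    (hn : ¬ A.Normal) (hAE : A ≤ Cfsg.layer G) {L : Subgroup G} (hL : Cfsg.IsComponent L)
    (hLK : L ≤ K₀) : False := by
  have hperf : ⁅A, A⁆ = A := Subgroup.isPerfect_iff.1 hA.1.1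
  have hNL := normalizer_le_of_component_le hA hO hL hLK
  have hcomm : ∀ M : Subgroup G, Cfsg.IsComponent M → ⁅M, A⁆ = ⊥ := by
    intro M hM
    by_cases hML : M = L
    · subst hML
      exact commutator_eq_bot_iff_le_centralizer.2 hLK
    have hMN : M ≤ normalizer (A : Set G) :=
      ((commutator_eq_bot_iff_le_centralizer.1 (components_commute hM hL hML)).trans
        (Subgroup.centralizer_le_normalizer _)).trans hNL
    by_contra hne
    haveI : (A.subgroupOf (normalizer (A : Set G))).Normal :=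
      (normal_subgroupOf_iff_le_normalizer le_normalizer).2 le_rfl
    rcases component_le_or_commutator_eq_bot (isComponent_subgroupOf hM hMN)
      (Subgroup.Normal.isSubnormal (inferInstance :
        (A.subgroupOf (normalizer (A : Set G))).Normal)) with e | e
    · have hMA : M ≤ A := by
        have h2 := map_mono (f := (normalizer (A : Set G)).subtype) e
        rwa [map_subgroupOf_eq_of_le hMN, map_subgroupOf_eq_of_le le_normalizer] at h2
      haveI : (M.subgroupOf A).Normal := (normal_subgroupOf_iff_le_normalizer hMA).2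
        (hAE.trans (layer_le_normalizer_component hM))
      rcases subnormal_eq_top_or_le_center hA.1
        (Subgroup.Normal.isSubnormal (inferInstance : (M.subgroupOf A).Normal)) with e' | e'
      · exact not_component hA hn (le_antisymm (subgroupOf_eq_top.1 e') hMA ▸ hM)
      · exact hne (commutator_eq_bot_iff_le_centralizer.2 (subgroupOf_le_center hMA e'))
    · refine hne ?_
      have h2 := congrArg (Subgroup.map (normalizer (A : Set G)).subtype) e
      rwa [map_commutator, map_subgroupOf_eq_of_le hMN, map_subgroupOf_eq_of_le le_normalizer,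
        Subgroup.map_bot] at h2
  have h : ⁅A, A⁆ = ⊥ := eq_bot_iff.2 (((commutator_mono hAE le_rfl).trans
    (commutator_layer_eq_bot_iff.2 hcomm).le))
  haveI := nontrivial_of_isQuasisimple hA.1
  exact (nontrivial_iff_ne_bot A).1 inferInstance (hperf ▸ h)

/-- All components are conjugate under `t`. -/
theorem components_eq (hA : Cfsg.IsStandardSubgroup A) (hO : Cfsg.oddCore G = ⊥)
    (hn : ¬ A.Normal) (hAE : A ≤ Cfsg.layer G) (ht : orderOf t = 2) (htA : t ∈ K₀)
    {L M : Subgroup G} (hL : Cfsg.IsComponent L) (hM : Cfsg.IsComponent M) :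
    M = L ∨ M = cj t L := by
  by_contra hcon
  push Not at hcon
  have htt : t * t = 1 := by rw [← pow_two, ← ht]; exact pow_orderOf_eq_one t
  have hperf : ⁅A, A⁆ = A := Subgroup.isPerfect_iff.1 hA.1.1
  set E₁ := L ⊔ cj t L with hE₁
  set E₂ := sSup {N : Subgroup G | Cfsg.IsComponent N ∧ N ≠ L ∧ N ≠ cj t L} with hE₂
  have hLt := isComponent_cj t hL
  have h12 : ⁅E₁, E₂⁆ = ⊥ := by
    rw [commutator_eq_bot_iff_le_centralizer]
    refine sup_le ?_ ?_ <;> rw [le_centralizer_iff] <;> refine sSup_le fun N hN => ?_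
    · exact commutator_eq_bot_iff_le_centralizer.1 (components_commute hN.1 hL hN.2.1)
    · exact commutator_eq_bot_iff_le_centralizer.1 (components_commute hN.1 hLt hN.2.2)
  have hc := commutator_eq_bot_iff_forall.1 h12
  have hlay : Cfsg.layer G ≤ E₁ ⊔ E₂ := sSup_le fun N hN => by
    by_cases h1 : N = L
    · exact h1 ▸ le_sup_of_le_left le_sup_left
    by_cases h2 : N = cj t L
    · exact h2 ▸ le_sup_of_le_left le_sup_right
    exact le_sup_of_le_right (le_sSup ⟨hN, h1, h2⟩)
  have hnN : Cfsg.layer G ≤ normalizer (E₁ : Set G) := by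
    refine hlay.trans (sup_le le_normalizer ?_)
    exact (commutator_eq_bot_iff_le_centralizer.1 (commutator_comm E₁ E₂ ▸ h12)).trans
      (Subgroup.centralizer_le_normalizer _)
  have hAn1 : A ≤ normalizer (E₁ : Set G) := hAE.trans hnN
  have hAn2 : A ≤ normalizer (E₂ : Set G) := by
    refine hAE.trans (hlay.trans (sup_le ?_ le_normalizer))
    exact (commutator_eq_bot_iff_le_centralizer.1 h12).trans (Subgroup.centralizer_le_normalizer _)
  have hts : ∀ x ∈ E₁, t * x * t⁻¹ ∈ E₁ := fun x hx => by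
    have : E₁.map (MulAut.conj t).toMonoidHom ≤ E₁ := by
      rw [hE₁, Subgroup.map_sup]
      refine sup_le le_sup_right (le_sup_of_le_left ?_)
      show cj t (cj t L) ≤ L
      rw [cj_cj, htt, cj_one]
    exact this (mem_cj hx)
  have hts2 : ∀ x ∈ E₂, t * x * t⁻¹ ∈ E₂ := fun x hx => by
    have : E₂.map (MulAut.conj t).toMonoidHom ≤ E₂ := by
      refine map_le_iff_le_comap.2 (sSup_le fun N hN => map_le_iff_le_comap.1 ?_)
      refine le_sSup ⟨isComponent_cj t hN.1, fun e => hN.2.2 ?_, fun e => hN.2.1 ?_⟩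
      · show N = cj t L
        rw [← e]
        show N = cj t (cj t N)
        rw [cj_cj, htt, cj_one]
      · have := congrArg (cj t) e
        show N = L
        change cj t (cj t N) = cj t (cj t L) at this
        rwa [cj_cj, cj_cj, htt, cj_one, cj_one] at this
    exact this (mem_cj hx)
  set C₁ := E₁ ⊓ centralizer ({t} : Set G) with hC₁
  have hAC1 : ⁅C₁, A⁆ = ⊥ := by
    haveI : ((A ⊓ E₁).subgroupOf A).Normal :=
      (normal_subgroupOf_iff_le_normalizer inf_le_left).2
        (le_trans (le_inf le_normalizer hAn1) inf_normalizer_le_normalizer_inf)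
    rcases subnormal_eq_top_or_le_center hA.1
      (Subgroup.Normal.isSubnormal (inferInstance : ((A ⊓ E₁).subgroupOf A).Normal)) with e | e
    · exfalso
      have hle : A ≤ E₁ := (subgroupOf_eq_top.1 e).trans inf_le_right
      refine not_component_le hA hO hn hAE hM (le_centralizer_iff.1 (hle.trans ?_))
      refine (commutator_eq_bot_iff_le_centralizer.1 h12).trans ?_
      exact centralizer_le (le_sSup (show M ∈ {N : Subgroup G | Cfsg.IsComponent N ∧ N ≠ L ∧
        N ≠ cj t L} from ⟨hM, hcon⟩))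
    · refine commutator_eq_bot_of_perfect hperf ?_
      rw [commutator_eq_bot_iff_le_centralizer]
      refine le_trans ?_ (subgroupOf_le_center inf_le_left e)
      refine le_inf ?_ ?_
      · exact commutator_le.2 fun u hu a ha => by
          rw [commutatorElement_def]
          exact mul_mem ((mem_normalizer_iff.1
            (centralizer_le_normalizer' hA ht htA hu.2) a).1 ha) (inv_mem ha)
      · exact commutator_le.2 fun u hu a ha => by
          rw [commutatorElement_def, mul_assoc u a, mul_assoc, mul_assoc]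
          refine mul_mem hu.1 ?_
          rw [← mul_assoc]
          exact (mem_normalizer_iff.1 (hAn1 ha) u⁻¹).1 (inv_mem hu.1)
  set A₁ := (A ⊔ E₂) ⊓ E₁ with hA₁
  have hfix : ∀ x ∈ A₁, (x⁻¹ * (t * x * t⁻¹)) ∈ E₁ ⊓ E₂ := by
    intro x hxx
    obtain ⟨hx, hx1⟩ := mem_inf.1 hxx
    refine mem_inf.2 ⟨mul_mem (inv_mem hx1) (hts x hx1), ?_⟩
    rw [← SetLike.mem_coe, coe_mul_of_left_le_normalizer_right _ _ hAn2] at hx
    obtain ⟨a, ha, e, he, rfl⟩ := hx
    have hta : t * a * t⁻¹ = a := by
      rw [← mem_centralizer_singleton_iff.1 (le_centralizer_singleton htA ha), mul_inv_cancel_right]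
    rw [show t * (a * e) * t⁻¹ = (t * a * t⁻¹) * (t * e * t⁻¹) by group, hta, mul_inv_rev,
      mul_assoc, inv_mul_cancel_left]
    exact mul_mem (inv_mem he) (hts2 e he)
  have hA1C : ⁅A₁, A₁⁆ ≤ C₁ := by
    refine le_inf ((commutator_mono inf_le_right inf_le_right).trans (commutator_le_self _)) ?_
    refine commutator_le.2 fun x hx y hy => mem_centralizer_singleton_iff.2 ?_
    have hconj : t * ⁅x, y⁆ * t⁻¹ = ⁅x, y⁆ := by
      set z := x⁻¹ * (t * x * t⁻¹) with hz
      set w := y⁻¹ * (t * y * t⁻¹) with hw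
      have h1 : t * ⁅x, y⁆ * t⁻¹ = ⁅x * z, y * w⁆ := by
        simp only [hz, hw, mul_inv_cancel_left, commutatorElement_def]
        group
      have hzz : ∀ u ∈ E₁, Commute z u := fun u hu => (hc u hu z (hfix x hx).2).symm
      have hww : ∀ u ∈ E₁, Commute w u := fun u hu => (hc u hu w (hfix y hy).2).symm
      have hwm : w ∈ E₁ := (mem_inf.1 (hfix y hy)).1
      rw [h1]
      clear_value z w
      rw [commutatorElement_def, commutatorElement_def, mul_inv_rev, mul_inv_rev]
      calc x * z * (y * w) * (z⁻¹ * x⁻¹) * (w⁻¹ * y⁻¹)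
          = x * (z * (y * w)) * z⁻¹ * x⁻¹ * w⁻¹ * y⁻¹ := by group
        _ = x * y * (w * x⁻¹) * w⁻¹ * y⁻¹ := by
            rw [(hzz _ (mul_mem hy.2 hwm)).eq]; group
        _ = x * y * x⁻¹ * y⁻¹ := by rw [(hww _ (inv_mem hx.2)).eq]; group
    conv_lhs => rw [← hconj]
    group
  have hab : ⁅⁅A₁, A₁⁆, ⁅A₁, A₁⁆⁆ = ⊥ := by
    rw [commutator_eq_bot_iff_le_centralizer]
    refine le_trans ?_ (centralizer_le (show ((⁅A₁, A₁⁆ : Subgroup G) : Set G) ⊆
      ((A ⊔ E₂ : Subgroup G) : Set G) from (commutator_le_self _).trans inf_le_left))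
    rw [le_centralizer_iff]
    refine sup_le ?_ ?_
    · rw [← commutator_eq_bot_iff_le_centralizer, commutator_comm]
      exact eq_bot_iff.2 ((commutator_mono hA1C le_rfl).trans hAC1.le)
    · rw [← commutator_eq_bot_iff_le_centralizer, commutator_comm]
      exact eq_bot_iff.2 ((commutator_mono (hA1C.trans inf_le_left) le_rfl).trans h12.le)
  have hA12 : A ≤ A₁ ⊔ E₂ := fun a ha => by
    have h := hlay (hAE ha)
    rw [← SetLike.mem_coe, coe_mul_of_left_le_normalizer_right _ _
      ((commutator_eq_bot_iff_le_centralizer.1 h12).trans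
        (Subgroup.centralizer_le_normalizer _))] at h
    obtain ⟨e₁, he₁, e₂, he₂, rfl⟩ := h
    refine mul_mem_sup (mem_inf.2 ⟨?_, he₁⟩) he₂
    have := mul_mem (mem_sup_left ha : e₁ * e₂ ∈ A ⊔ E₂) (inv_mem (mem_sup_right he₂))
    rwa [mul_inv_cancel_right] at this
  have hA12' : A ≤ ⁅A₁, A₁⁆ ⊔ E₂ := by
    rw [← hperf]
    exact ((commutator_mono hA12 hA12).trans (commutator_sup_le_of_commuting
      (eq_bot_iff.2 ((commutator_mono inf_le_right le_rfl).trans h12.le)))).trans
      (sup_le_sup le_rfl (commutator_le_self _))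
  have hA2 : A ≤ E₂ := by
    rw [← hperf]
    refine ((commutator_mono hA12' hA12').trans (commutator_sup_le_of_commuting
      (eq_bot_iff.2 ((commutator_mono ((commutator_le_self A₁).trans inf_le_right) le_rfl).trans
        h12.le)))).trans ?_
    rw [hab, bot_sup_eq]
    exact commutator_le_self _
  refine not_component_le hA hO hn hAE hL (le_centralizer_iff.1 (hA2.trans ?_))
  rw [← commutator_eq_bot_iff_le_centralizer, commutator_comm]
  exact eq_bot_iff.2 ((commutator_mono le_sup_left le_rfl).trans h12.le)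

/-! ### The conclusion -/

theorem trichotomy (hA : Cfsg.IsStandardSubgroup A) (hO : Cfsg.oddCore G = ⊥)
    (hev : Even (Nat.card A)) (ht : orderOf t = 2) (htA : t ∈ K₀) :
    A.Normal ∨ (∃ X : Subgroup G, IsSimpleGroup ↥X ∧ ¬ IsMulCommutative ↥X ∧
      Nonempty (↥X ≃* ↥A) ∧
      (∀ a ∈ X, ∀ b ∈ X.map (MulAut.conj t).toMonoidHom, a * b = b * a) ∧
      X ⊓ X.map (MulAut.conj t).toMonoidHom = ⊥ ∧
      X ⊔ X.map (MulAut.conj t).toMonoidHom = Cfsg.layer G ∧
      K₀ = zpowers t) ∨
    (A ≤ Cfsg.layer G ∧ IsSimpleGroup ↥(Cfsg.layer G) ∧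
      ¬ IsMulCommutative ↥(Cfsg.layer G)) := by
  refine or_iff_not_imp_left.2 fun hn => ?_
  have hAE := le_layer hA hO hev ht htA
  have htt : t * t = 1 := by rw [← pow_two, ← ht]; exact pow_orderOf_eq_one t
  have hAne : A ≠ ⊥ := by
    haveI := nontrivial_of_isQuasisimple hA.1
    exact (nontrivial_iff_ne_bot A).1 inferInstance
  obtain ⟨L, hL⟩ : ∃ L : Subgroup G, Cfsg.IsComponent L := by
    by_contra h
    push Not at h
    exact hAne (le_bot_iff.1 (hAE.trans (sSup_le fun K hK => absurd hK (h K))))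
  have hall : ∀ M, Cfsg.IsComponent M → M = L ∨ M = cj t L := fun M hM =>
    components_eq hA hO hn hAE ht htA hL hM
  have hLt := isComponent_cj t hL
  have hlay : Cfsg.layer G = L ⊔ cj t L := by
    refine le_antisymm (sSup_le fun M hM => ?_)
      (sup_le (component_le_layer hL) (component_le_layer hLt))
    rcases hall M hM with rfl | rfl
    · exact le_sup_left
    · exact le_sup_right
  haveI := layer_normal (G := G)
  have hZ : Cfsg.layer G ⊓ centralizer (Cfsg.layer G : Set G) = ⊥ :=
    eq_bot_of_normal_le hA hO hn _ (inf_le_right.trans (centralizer_le hAE))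
  have hcen : ∀ x ∈ Cfsg.layer G, (∀ M, Cfsg.IsComponent M → ∀ a ∈ M, a * x = x * a) → x = 1 := by
    intro x hx h
    have hle : Cfsg.layer G ≤ centralizer ({x} : Set G) := sSup_le fun M hM a ha =>
      mem_centralizer_singleton_iff.2 (h M hM a ha)
    exact (mem_bot).1 (hZ ▸ mem_inf.2 ⟨hx, mem_centralizer_iff.2 fun y hy =>
      mem_centralizer_singleton_iff.1 (hle hy)⟩)
  have hcomm : ∀ M N : Subgroup G, Cfsg.IsComponent M → Cfsg.IsComponent N → M ≠ N →
      ∀ a ∈ M, ∀ b ∈ N, a * b = b * a := fun M N hM hN h =>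
    commutator_eq_bot_iff_forall.1 (components_commute hM hN h)
  have hcb : center L = ⊥ := (eq_bot_iff_forall _).2 fun z hz => Subtype.ext (by
    refine hcen z (component_le_layer hL z.2) fun M hM a ha => ?_
    by_cases h : M = L
    · exact congrArg Subtype.val (mem_center_iff.1 hz ⟨a, h ▸ ha⟩)
    · exact hcomm M L hM hL h a ha z z.2)
  haveI hsimp : IsSimpleGroup L := by
    haveI := hL.2.2
    exact ((QuotientGroup.quotientMulEquivOfEq hcb).trans
      (QuotientGroup.quotientBot (G := ↥L))).isSimpleGroup_congr.1 inferInstance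
  have hnc : ¬ IsMulCommutative ↥L := fun h =>
    not_isSolvable_of_isComponent hL (Group.isSolvable_of_comm fun a b => h.is_comm.comm a b)
  by_cases hfix : cj t L = L
  · right
    rw [hfix, sup_idem] at hlay
    refine ⟨hAE, ?_, ?_⟩
    · rw [hlay]; exact hsimp
    · rw [hlay]; exact hnc
  left
  have hne : L ≠ cj t L := fun e => hfix e.symm
  have hc := hcomm L (cj t L) hL hLt hne
  have hinf : L ⊓ cj t L = ⊥ := (eq_bot_iff_forall _).2 fun x hx =>
    hcen x (component_le_layer hL hx.1) fun M hM a ha => by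
      rcases hall M hM with rfl | rfl
      · exact hc a ha x hx.2
      · exact (hc x hx.1 a ha).symm
  have huniq : ∀ a ∈ L, ∀ a' ∈ L, ∀ b ∈ cj t L, ∀ b' ∈ cj t L,
      a * b = a' * b' → a = a' ∧ b = b' := by
    intro a ha a' ha' b hb b' hb' e
    have h1 : a'⁻¹ * a = b' * b⁻¹ := by
      rw [eq_mul_inv_iff_mul_eq, mul_assoc, e, inv_mul_cancel_left]
    have h2 : a'⁻¹ * a = 1 := (mem_bot).1 (hinf ▸ mem_inf.2
      ⟨mul_mem (inv_mem ha') ha, h1 ▸ mul_mem hb' (inv_mem hb)⟩)
    have h3 : a = a' := (inv_mul_eq_one.1 h2).symm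
    exact ⟨h3, by subst h3; exact mul_left_cancel e⟩
  have hback : ∀ y ∈ cj t L, t * y * t⁻¹ ∈ L := fun y hy => by
    have := mem_cj_iff.1 hy
    rwa [show t⁻¹ = t from inv_eq_of_mul_eq_one_left htt] at this ⊢
  let φ : L →* G :=
    { toFun := fun x => (x : G) * (t * (x : G) * t⁻¹)
      map_one' := by simp
      map_mul' := fun x y => by
        have h : (y : G) * (t * x * t⁻¹) = (t * x * t⁻¹) * y := hc y y.2 _ (mem_cj x.2)
        calc ((x * y : L) : G) * (t * ((x * y : L) : G) * t⁻¹)
            = (x : G) * ((y : G) * (t * x * t⁻¹)) * (t * y * t⁻¹) := by push_cast; group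
          _ = _ := by rw [h]; group }
  have hinj : Function.Injective φ := fun x y h =>
    Subtype.ext (huniq x x.2 y y.2 _ (mem_cj x.2) _ (mem_cj y.2) h).1
  have hAφ : A ≤ φ.range := fun a ha => by
    have h := hlay ▸ hAE ha
    rw [← SetLike.mem_coe, coe_mul_of_left_le_normalizer_right _ _
      (show L ≤ normalizer (cj t L : Set G) from
        (commutator_eq_bot_iff_le_centralizer.1 (components_commute hL hLt hne)).trans
          (Subgroup.centralizer_le_normalizer _))] at h
    obtain ⟨x, hx, y, hy, rfl⟩ := h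
    have ht' := mem_centralizer_singleton_iff.1 (le_centralizer_singleton htA ha)
    have e : (t * y * t⁻¹) * (t * x * t⁻¹) = x * y := by
      rw [hc _ (hback y hy) _ (mem_cj hx)]
      calc (t * x * t⁻¹) * (t * y * t⁻¹) = t * (x * y) * t⁻¹ := by group
        _ = x * y := by rw [← ht', mul_inv_cancel_right]
    exact ⟨⟨x, hx⟩, by
      show x * (t * x * t⁻¹) = x * y
      rw [(huniq _ (hback y hy) x hx _ (mem_cj hx) y hy e).2]⟩
  have hφt : φ.range ≤ centralizer ({t} : Set G) := by
    rintro _ ⟨x, rfl⟩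
    refine mem_centralizer_singleton_iff.2 ?_
    show (x : G) * (t * x * t⁻¹) * t = t * ((x : G) * (t * x * t⁻¹))
    rw [show t⁻¹ = t from inv_eq_of_mul_eq_one_left htt]
    calc (x : G) * (t * x * t) * t = x * (t * x) * (t * t) := by group
      _ = x * (t * x * t⁻¹) * t := by rw [htt]; group
      _ = (t * x * t⁻¹) * x * t := by rw [hc x x.2 _ (mem_cj x.2)]
      _ = t * (x * (t⁻¹ * x * t)) := by group
      _ = t * (x * (t * x * t)) := by rw [show t⁻¹ = t from inv_eq_of_mul_eq_one_left htt]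
  have hAD : A = φ.range := by
    refine le_antisymm hAφ ?_
    haveI : (A.comap φ).Normal := ⟨fun u hu v => by
      rw [mem_comap, map_mul, map_mul, map_inv]
      exact (mem_normalizer_iff.1 (centralizer_le_normalizer' hA ht htA (hφt ⟨v, rfl⟩)) _).1 hu⟩
    rcases (inferInstance : (A.comap φ).Normal).eq_bot_or_eq_top with e | e
    · exact absurd (by rw [← map_comap_eq_self hAφ, e, Subgroup.map_bot]) hAne
    · rintro _ ⟨x, rfl⟩
      exact mem_comap.1 (e ▸ mem_top x : x ∈ A.comap φ)
  refine ⟨L, hsimp, hnc, ⟨(MonoidHom.ofInjective hinj).trans (MulEquiv.subgroupCongr hAD.symm)⟩,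
    hc, hinf, hlay.symm, ?_⟩
  refine le_antisymm (fun k hk => ?_) (zpowers_le.2 htA)
  suffices h : ∀ k ∈ K₀, cj k L = L → k = 1 by
    rcases hall _ (isComponent_cj k hL) with e | e
    · rw [h k hk e]; exact one_mem _
    · have h1 := h (t * k) (mul_mem htA hk) (by rw [← cj_cj, e, cj_cj, htt, cj_one])
      rw [eq_inv_of_mul_eq_one_right h1]
      exact inv_mem (mem_zpowers t)
  intro k hk e
  have e' : cj k (cj t L) = cj t L := (hall _ (isComponent_cj k hLt)).resolve_left fun h => hfix (by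
    have h2 := congrArg (cj k⁻¹) (h.trans e.symm)
    change cj k⁻¹ (cj k (cj t L)) = cj k⁻¹ (cj k L) at h2
    simp only [cj_cj, inv_mul_cancel_left, inv_mul_cancel, cj_one] at h2
    exact h2)
  have hkL : ∀ x ∈ L, k * x * k⁻¹ = x ∧ k * (t * x * t⁻¹) * k⁻¹ = t * x * t⁻¹ := by
    intro x hx
    refine huniq _ (e.le (mem_cj hx)) x hx _ (e'.le (mem_cj (mem_cj hx))) _ (mem_cj hx) ?_
    have h := mem_centralizer_iff.1 hk (φ ⟨x, hx⟩) (hAD.ge ⟨_, rfl⟩)
    calc k * x * k⁻¹ * (k * (t * x * t⁻¹) * k⁻¹) = k * φ ⟨x, hx⟩ * k⁻¹ := by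
          show _ = k * (x * (t * x * t⁻¹)) * k⁻¹
          group
      _ = φ ⟨x, hx⟩ := by rw [← h, mul_inv_cancel_right]
  haveI : (centralizer (Cfsg.layer G : Set G)).Normal := Subgroup.normal_centralizer
  have hkc : k ∈ centralizer (Cfsg.layer G : Set G) := by
    have hle : Cfsg.layer G ≤ centralizer ({k} : Set G) := by
      rw [hlay]
      refine sup_le (fun x hx => ?_) (fun y hy => ?_) <;> rw [mem_centralizer_singleton_iff]
      · exact (mul_inv_eq_iff_eq_mul.1 (hkL x hx).1).symm
      · obtain ⟨x, hx, rfl⟩ := mem_map.1 hy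
        simp only [MulEquiv.coe_toMonoidHom, MulAut.conj_apply]
        exact (mul_inv_eq_iff_eq_mul.1 (hkL x hx).2).symm
    exact mem_centralizer_iff.2 fun y hy => mem_centralizer_singleton_iff.1 (hle hy)
  rwa [eq_bot_of_normal_le hA hO hn _ (centralizer_le hAE), mem_bot] at hkc

end CfsgLib.OddConseq.StdTrichotomy
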