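import Cfsg.Agent.Lib.Coprime.LBalance.WeakBalance
import Cfsg.Agent.Lib.Coprime.PComponent

/-!
# A group is balanced or has an unbalancing triple
-/

set_option autoImplicit false
set_option linter.style.haveILetI false
set_option linter.unusedSectionVars false

namespace CfsgLib.OddConseq.Triple

open Subgroup CfsgLib.Coprime
open scoped commutatorElement

universe u

variable {G : Type u} [Group G] [Finite G]

/-- A failure of balance gives an unbalancing triple. -/
theorem exists_triple {a x : G} (hx : orderOf x = 2) (hax : a * x = x * a)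
    (hnot : ¬ Cfsg.centralizerPPrimeCore 2 x ⊓ centralizer ({a} : Set G) ≤ Cfsg.centralizerPPrimeCore 2 a) :
    ∃ L : Subgroup ↥(centralizer ({a} : Set G)), Cfsg.IsPComponent 2 L ∧
      (∀ l ∈ L.map (centralizer ({a} : Set G)).subtype,
        x * l * x⁻¹ ∈ L.map (centralizer ({a} : Set G)).subtype) ∧
      L.map (centralizer ({a} : Set G)).subtype =
        (Cfsg.oddCore ↥L).map ((centralizer ({a} : Set G)).subtype.comp L.subtype) ⊔
          ⁅L.map (centralizer ({a} : Set G)).subtype,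
            Cfsg.centralizerPPrimeCore 2 x ⊓ centralizer ({a} : Set G)⁆ := by
  haveI : Fact (Nat.Prime 2) := ⟨Nat.prime_two⟩
  set C := centralizer ({a} : Set G) with hC
  set q := QuotientGroup.mk' (Cfsg.pPrimeCore 2 ↥C)
  have hx2 : x ^ 2 = 1 := by rw [← hx, pow_orderOf_eq_one]
  have hxC : x ∈ C := mem_centralizer_iff.2 fun y hy => by
    rw [Set.mem_singleton_iff.1 hy]; exact hax
  have hxa : x * a = a * x := hax.symm
  have hA : Cfsg.IsElementaryAbelian 2 (zpowers x) := by
    refine ⟨⟨⟨fun u v => ?_⟩⟩, fun u hu => ?_⟩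
    · obtain ⟨i, hi⟩ := mem_zpowers_iff.1 u.2
      obtain ⟨j, hj⟩ := mem_zpowers_iff.1 v.2
      exact Subtype.ext (by show (u : G) * v = v * u; rw [← hi, ← hj, zpow_mul_comm])
    · obtain ⟨i, rfl⟩ := mem_zpowers_iff.1 hu
      rw [← zpow_natCast, ← zpow_mul, mul_comm, zpow_mul, zpow_natCast, hx2, one_zpow]
  obtain ⟨A', hA'eq, -, hA'c, hle⟩ := exists_signalizerDelta_image (p := 2) hA (b := a) (fun u hu => by
    obtain ⟨i, rfl⟩ := mem_zpowers_iff.1 hu
    exact ((show Commute x a from hxa).zpow_left i).eq)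
  set xb := q (⟨x, hxC⟩ : ↥C) with hxbdef
  have hxbA : xb ∈ A' := hA'eq ▸ mem_map_of_mem q (mem_subgroupOf.2 (mem_zpowers x))
  have hxb1 : xb ≠ 1 := by
    intro e
    have hmem : (⟨x, hxC⟩ : ↥C) ∈ Cfsg.pPrimeCore 2 ↥C := (QuotientGroup.eq_one_iff _).1 e
    have hd : orderOf (⟨x, hxC⟩ : ↥C) ∣ Nat.card (Cfsg.pPrimeCore 2 ↥C) := by
      rw [← Subgroup.orderOf_mk _ hmem]; exact orderOf_dvd_natCard _
    rw [Subgroup.orderOf_mk, hx] at hd
    exact pPrimeCore_not_dvd Nat.prime_two hd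
  set D := (Cfsg.centralizerPPrimeCore 2 x ⊓ C).subgroupOf C with hDdef
  have hDle : D.map q ≤ Cfsg.centralizerPPrimeCore 2 xb := by
    refine le_trans (map_mono (comap_mono (inf_le_inf_right _ ?_)))
      (hle.trans (iInf_le (fun y : {y // y ∈ A' ∧ y ≠ 1} => Cfsg.centralizerPPrimeCore 2 y.1)
        ⟨xb, hxbA, hxb1⟩))
    refine le_iInf ?_
    rintro ⟨y, hy, hy1⟩
    have e : y = x := by
      obtain ⟨i, rfl⟩ := mem_zpowers_iff.1 hy
      rcases Int.emod_two_eq_zero_or_one i with e | e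
      · exact absurd (by rw [← zpow_mod_orderOf x i, hx, show i % ((2 : ℕ) : ℤ) = 0 from e, zpow_zero]) hy1
      · rw [← zpow_mod_orderOf x i, hx, show i % ((2 : ℕ) : ℤ) = 1 from e, zpow_one]
    subst e
    exact le_rfl
  have hDne : D.map q ≠ ⊥ := by
    intro e
    rw [Subgroup.map_eq_bot_iff, QuotientGroup.ker_mk'] at e
    exact hnot fun d hd => ⟨⟨d, hd.2⟩, e (mem_subgroupOf.2 hd), rfl⟩
  have hO := pPrimeCore_quotient_eq_bot (G := ↥C) Nat.prime_two
  have hxbp : xb ^ 2 = 1 := by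
    rw [hxbdef, ← map_pow, show (⟨x, hxC⟩ : ↥C) ^ 2 = 1 from Subtype.ext hx2, map_one]
  have hxR : IsPGroup 2 (zpowers xb) := isPGroup_zpowers (k := 1) (by rw [pow_one]; exact hxbp)
  obtain ⟨hcop, -, hBO, -, -⟩ := coreCentralizer_data hxR _ rfl
  rw [centralizerPPrimeCore_eq] at hDle
  obtain ⟨K, hK, hKD⟩ : ∃ K : Subgroup (↥C ⧸ Cfsg.pPrimeCore 2 ↥C), Cfsg.IsComponent K ∧
      ¬ D.map q ≤ centralizer (K : Set (↥C ⧸ Cfsg.pPrimeCore 2 ↥C)) := by
    by_contra hall
    push Not at hall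
    have hE : D.map q ≤ centralizer (Cfsg.layer (↥C ⧸ Cfsg.pPrimeCore 2 ↥C) : Set _) := by
      rw [le_centralizer_iff]
      exact sSup_le fun K hK => le_centralizer_iff.1 (hall K hK)
    have hF : D.map q ≤ centralizer
        (Cfsg.generalizedFittingSubgroup (↥C ⧸ Cfsg.pPrimeCore 2 ↥C) : Set _) := by
      rw [le_centralizer_iff, Cfsg.generalizedFittingSubgroup,
        fitting_eq_pCore_of_pPrimeCore_eq_bot hO]
      exact sup_le (le_centralizer_iff.1 hE) (le_centralizer_iff.1 (hDle.trans hBO))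
    have h1 : D.map q ≤ Cfsg.pCore 2 (↥C ⧸ Cfsg.pPrimeCore 2 ↥C) := by
      rw [← fitting_eq_pCore_of_pPrimeCore_eq_bot hO, ← generalizedFitting_inf_centralizer_layer]
      exact le_inf (hF.trans centralizer_generalizedFitting_le) hE
    refine hDne ?_
    rw [eq_bot_iff, ← pPrime_inf_pGroup_eq_bot hcop (pCore_isPGroup 2)]
    exact le_inf hDle h1
  have hDN : D.map q ≤ normalizer (K : Set _) :=
    hDle.trans (coreCentralizer_le_normalizer_component hO hxR hK)
  have hxN : xb ∈ normalizer (K : Set _) := by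
    by_contra h
    refine hKD (hDle.trans ?_)
    rw [← centralizerPPrimeCore_eq]
    exact coreCentralizer_le_centralizer_of_moved hO hxbp hK h
  set L := pComponentOver 2 K
  have hL : Cfsg.IsPComponent 2 L := isPComponent_pComponentOver hK
  have hLK : L.map q = K := map_pComponentOver hK
  have hDL : D ≤ normalizer (L : Set ↥C) := fun d hd => mem_normalizer_pComponent hL (by
    show q d ∈ normalizer ((L.map q : Subgroup _) : Set _)
    rw [hLK]
    exact hDN (mem_map_of_mem q hd))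
  have hxL : (⟨x, hxC⟩ : ↥C) ∈ normalizer (L : Set ↥C) := mem_normalizer_pComponent hL (by
    show xb ∈ normalizer ((L.map q : Subgroup _) : Set _)
    rw [hLK]
    exact hxN)
  have hNL : ⁅L, D⁆ ≤ L := by
    rw [commutator_le]
    intro l hl d hd
    rw [commutatorElement_def, show l * d * l⁻¹ * d⁻¹ = l * (d * l⁻¹ * d⁻¹) by group]
    exact mul_mem hl ((Subgroup.mem_normalizer_iff.1 (hDL hd) _).1 (inv_mem hl))
  have hNK : ⁅K, D.map q⁆ = K := by
    have hle' : ⁅K, D.map q⁆ ≤ K := by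
      rw [← hLK, ← map_commutator]; exact map_mono hNL
    haveI : (⁅K, D.map q⁆.subgroupOf K).Normal :=
      (normal_subgroupOf_iff_le_normalizer hle').2 (normalizer_commutator_ge_left K (D.map q))
    rcases subnormal_eq_top_or_le_center hK.2 (Normal.isSubnormal
      (inferInstance : (⁅K, D.map q⁆.subgroupOf K).Normal)) with e | e
    · exact le_antisymm hle' (subgroupOf_eq_top.1 e)
    · exfalso
      refine hKD fun d hd => mem_centralizer_of_commutator_central
        (commutator_self_of_isComponent hK) fun k hk => ?_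
      have hm : d * k * d⁻¹ * k⁻¹ ∈ ⁅K, D.map q⁆ := by
        rw [← commutatorElement_def, ← commutatorElement_inv]
        exact inv_mem (commutator_mem_commutator hk hd)
      refine Subgroup.mem_inf.2 ⟨hle' hm, mem_centralizer_iff.2 fun y hy => ?_⟩
      exact congrArg Subtype.val
        (mem_center_iff.1 (e (show (⟨_, hle' hm⟩ : ↥K) ∈ _ from mem_subgroupOf.2 hm)) ⟨y, hy⟩)
  have hmain : L = (Cfsg.oddCore ↥L).map L.subtype ⊔ ⁅L, D⁆ := by
    refine le_antisymm (fun l hl => ?_) (sup_le (map_subtype_le _) hNL)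
    obtain ⟨n, hn, hnl⟩ : q l ∈ (⁅L, D⁆).map q := by
      rw [map_commutator, hLK, hNK, ← hLK]; exact mem_map_of_mem q hl
    have ho : n⁻¹ * l ∈ Cfsg.pPrimeCore 2 ↥C ⊓ L := ⟨(QuotientGroup.eq_one_iff _).1 (by
      show q (n⁻¹ * l) = 1
      rw [map_mul, map_inv, hnl, inv_mul_cancel]), L.mul_mem (L.inv_mem (hNL hn)) hl⟩
    rw [← map_pPrimeCore_of_isSubnormal hL.1] at ho
    have := mul_mem (mem_sup_right (S := (Cfsg.oddCore ↥L).map L.subtype) hn) (mem_sup_left ho)
    rwa [mul_inv_cancel_left] at this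
  refine ⟨L, hL, ?_, ?_⟩
  · rintro _ ⟨l, hl, rfl⟩
    exact ⟨_, (Subgroup.mem_normalizer_iff.1 hxL l).1 hl, rfl⟩
  · conv_lhs => rw [hmain, Subgroup.map_sup, Subgroup.map_map, map_commutator, hDdef,
      map_subgroupOf_eq_of_le (inf_le_right : Cfsg.centralizerPPrimeCore 2 x ⊓ C ≤ C)]

/-- Balance or an unbalancing triple. -/
theorem isBalanced_or_triple (G : Type u) [Group G] [Finite G] :
    Cfsg.IsBalanced G ∨
      ∃ (a x : G) (L : Subgroup ↥(centralizer ({a} : Set G))), orderOf a = 2 ∧ orderOf x = 2 ∧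
        Commute a x ∧ Cfsg.IsPComponent 2 L ∧
        (∀ l ∈ L.map (centralizer ({a} : Set G)).subtype,
          x * l * x⁻¹ ∈ L.map (centralizer ({a} : Set G)).subtype) ∧
        L.map (centralizer ({a} : Set G)).subtype =
          (Cfsg.oddCore ↥L).map ((centralizer ({a} : Set G)).subtype.comp L.subtype) ⊔
            ⁅L.map (centralizer ({a} : Set G)).subtype,
              Cfsg.centralizerPPrimeCore 2 x ⊓ centralizer ({a} : Set G)⁆ := by
  by_cases h : ∀ x y : G, orderOf x = 2 → orderOf y = 2 → x * y = y * x →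
      Cfsg.centralizerPPrimeCore 2 x ⊓ centralizer ({y} : Set G) ≤ Cfsg.centralizerPPrimeCore 2 y
  · left
    intro x y hx hy hxy
    exact le_antisymm (le_inf (h x y hx hy hxy) (inf_le_left.trans (map_subtype_le _)))
      (le_inf (h y x hy hx hxy.symm) (inf_le_left.trans (map_subtype_le _)))
  · right
    push Not at h
    obtain ⟨x, a, hx, ha, hxa, hn⟩ := h
    obtain ⟨L, h1, h2, h3⟩ := exists_triple hx hxa.symm hn
    exact ⟨a, x, L, ha, hx, hxa.symm, h1, h2, h3⟩

end CfsgLib.OddConseq.Triple
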