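import Cfsg.Agent.Lib.OddConseq.UnbalancingTriple
import Cfsg.Agent.Lib.OddConseq.NormalAbelianCores

/-!
# Trivial cores or an unbalancing triple, given the balanced connected case
-/

set_option autoImplicit false

namespace CfsgLib.OddConseq.Triple

universe u

/-- The statement on balanced connected groups used below. -/
def BalancedConnectedCores : Prop :=
  ∀ {G : Type u} [Group G] [Finite G], Cfsg.IsBalanced G → Cfsg.oddCore G = ⊥ → ¬ Cfsg.PRankLE 2 2 G →
    (Cfsg.IsFourConnected G ∨ ∃ S : Sylow 2 G, Cfsg.IsFourConnected ↥(S : Subgroup G)) →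
    ∀ t : G, orderOf t = 2 → Cfsg.centralizerPPrimeCore 2 t = ⊥

theorem cores_or_triple (hB : BalancedConnectedCores.{u}) {G : Type u} [Group G] [Finite G]
    [IsSimpleGroup G] (hG : ¬ IsMulCommutative G) (S : Sylow 2 G) (A : Subgroup ↥(S : Subgroup G))
    (hAn : A.Normal) (hAab : IsMulCommutative ↥A) (hA3 : ¬ Cfsg.PRankLE 2 2 ↥A) :
    (∀ t : G, orderOf t = 2 → Cfsg.centralizerPPrimeCore 2 t = ⊥) ∨
      ∃ (a x : G) (L : Subgroup ↥(Subgroup.centralizer ({a} : Set G))), orderOf a = 2 ∧ orderOf x = 2 ∧ Commute a x ∧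
        Cfsg.IsPComponent 2 L ∧ (∀ l ∈ L.map (Subgroup.centralizer ({a} : Set G)).subtype, x * l * x⁻¹ ∈ L.map (Subgroup.centralizer ({a} : Set G)).subtype) ∧
        L.map (Subgroup.centralizer ({a} : Set G)).subtype =
          (Cfsg.oddCore ↥L).map ((Subgroup.centralizer ({a} : Set G)).subtype.comp L.subtype) ⊔
            ⁅L.map (Subgroup.centralizer ({a} : Set G)).subtype, Cfsg.centralizerPPrimeCore 2 x ⊓ Subgroup.centralizer ({a} : Set G)⁆ := by
  rcases isBalanced_or_triple G with h | h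
  · left
    obtain ⟨hS, hrank⟩ := CfsgLib.TwoGenCore.NormalAbelian.connected S hAn hAab hA3
    have hO : Cfsg.oddCore G = ⊥ := by
      haveI : (Cfsg.oddCore G).Normal := inferInstanceAs (Cfsg.pPrimeCore 2 G).Normal
      rcases (inferInstance : (Cfsg.oddCore G).Normal).eq_bot_or_eq_top with e | e
      · exact e
      · exfalso
        have h1 : ¬ 2 ∣ Nat.card ↥(Cfsg.oddCore G) := CfsgLib.Coprime.pPrimeCore_not_dvd Nat.prime_two
        rw [e, Subgroup.card_top] at h1
        unfold Cfsg.PRankLE at hrank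
        push Not at hrank
        obtain ⟨B, hB', hB2, hcard⟩ := hrank
        haveI : Nontrivial B := Finite.one_lt_card_iff_nontrivial.1 (by omega)
        obtain ⟨⟨b, hb⟩, hb1⟩ := exists_ne (1 : B)
        have hord : orderOf b = 2 := orderOf_eq_prime (hB2 b hb) fun e => hb1 (Subtype.ext e)
        exact h1 (hord ▸ orderOf_dvd_natCard b)
    exact fun t ht => hB h hO hrank (Or.inr ⟨S, hS⟩) t ht
  · exact Or.inr h

end CfsgLib.OddConseq.Triple
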